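import Cfsg.Agent.Blk.Loc
import Cfsg.Agent.Char.Induce
import Cfsg.Agent.PLoc.Cores

/-! The complex group algebra, its centre and the central characters. -/

set_option autoImplicit false
set_option linter.unusedSectionVars false

namespace Cfsg.Agent.Blk

open Cfsg Cfsg.Agent.Char MonoidAlgebra
open scoped ComplexConjugate

/-- The complex group algebra. -/
abbrev GA (G : Type*) [Group G] := MonoidAlgebra ℂ G

variable {G : Type*} [Group G]

/-- The element of a group algebra with prescribed coefficients. -/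
noncomputable def ofFn {k : Type*} [Semiring k] [Finite G] (f : G → k) : MonoidAlgebra k G :=
  .ofCoeff (Finsupp.equivFunOnFinite.symm f)

@[simp] theorem coeff_ofFn {k : Type*} [Semiring k] [Finite G] (f : G → k) (g : G) :
    (ofFn f).coeff g = f g := rfl

theorem ga_ext {k : Type*} [Semiring k] {a b : MonoidAlgebra k G}
    (h : ∀ g, a.coeff g = b.coeff g) : a = b :=
  coeff_injective (Finsupp.ext h)

theorem coeff_mul_sum {k : Type*} [Semiring k] [Fintype G] (a b : MonoidAlgebra k G) (g : G) :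
    (a * b).coeff g = ∑ x, a.coeff x * b.coeff (x⁻¹ * g) := by
  rw [coeff_mul_apply_left, Finsupp.sum_fintype _ _ (by simp)]

theorem coeff_mul_sum' {k : Type*} [Semiring k] [Fintype G] (a b : MonoidAlgebra k G) (g : G) :
    (a * b).coeff g = ∑ x, a.coeff (g * x⁻¹) * b.coeff x := by
  rw [coeff_mul_apply_right, Finsupp.sum_fintype _ _ (by simp)]

theorem coeff_sum_apply {k : Type*} [Semiring k] {ι : Type*} (s : Finset ι)
    (f : ι → MonoidAlgebra k G) (g : G) : (∑ i ∈ s, f i).coeff g = ∑ i ∈ s, (f i).coeff g := by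
  rw [coeff_sum, Finsupp.finsetSum_apply]

theorem eq_sum_single {k : Type*} [Semiring k] [Fintype G] (a : MonoidAlgebra k G) :
    a = ∑ g, single g (a.coeff g) := by
  conv_lhs => rw [← sum_coeff_single a]
  rw [Finsupp.sum_fintype _ _ (by simp)]

theorem coeff_one_eq {k : Type*} [Semiring k] [DecidableEq G] (g : G) :
    (1 : MonoidAlgebra k G).coeff g = if g = 1 then 1 else 0 := by
  rw [one_def, coeff_single, Finsupp.single_apply]
  simp only [eq_comm]

/-- The linear extension of a function on the group. -/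
noncomputable def ev (χ : G → ℂ) : GA G →ₗ[ℂ] ℂ :=
  (Finsupp.linearCombination ℂ χ) ∘ₗ (coeffLinearEquiv ℂ).toLinearMap

@[simp] theorem ev_single (χ : G → ℂ) (g : G) (c : ℂ) : ev χ (single g c) = c * χ g := by
  simp [ev]

theorem ev_eq_sum [Fintype G] (χ : G → ℂ) (a : GA G) : ev χ a = ∑ g, a.coeff g * χ g := by
  conv_lhs => rw [eq_sum_single a]
  simp

@[simp] theorem ev_one (χ : G → ℂ) : ev χ 1 = χ 1 := by simp [one_def]

theorem ev_add_fun (χ ψ : G → ℂ) (a : GA G) : ev (χ + ψ) a = ev χ a + ev ψ a := by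
  induction a using induction_linear with
  | zero => simp
  | add a b ha hb => simp only [map_add, ha, hb]; ring
  | single g c => simp [mul_add]

theorem ev_smul_fun (c : ℂ) (χ : G → ℂ) (a : GA G) : ev (c • χ) a = c * ev χ a := by
  induction a using induction_linear with
  | zero => simp
  | add a b ha hb => simp only [map_add, ha, hb]; ring
  | single g c => simp; ring

@[simp] theorem ev_zero_fun (a : GA G) : ev (0 : G → ℂ) a = 0 := by
  simpa using ev_smul_fun 0 (0 : G → ℂ) a

theorem ev_sub_fun (χ ψ : G → ℂ) (a : GA G) : ev (χ - ψ) a = ev χ a - ev ψ a := by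
  rw [eq_sub_iff_add_eq, ← ev_add_fun, sub_add_cancel]

theorem ev_sum_fun {ι : Type*} (s : Finset ι) (f : ι → G → ℂ) (a : GA G) :
    ev (∑ i ∈ s, f i) a = ∑ i ∈ s, ev (f i) a := by
  classical
  induction s using Finset.induction_on with
  | empty => simp
  | insert i s hi ih => rw [Finset.sum_insert hi, Finset.sum_insert hi, ev_add_fun, ih]

theorem ev_mul_comm {χ : G → ℂ} (hχ : IsClassFunction G χ) (a b : GA G) :
    ev χ (a * b) = ev χ (b * a) := by
  induction a using induction_linear with
  | zero => simp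
  | add a a' ha ha' => simp only [add_mul, mul_add, map_add, ha, ha']
  | single g c =>
    induction b using induction_linear with
    | zero => simp
    | add b b' hb hb' => simp only [add_mul, mul_add, map_add, hb, hb']
    | single h d => simp [single_mul_single, hχ.mul_comm g h, mul_comm c d]

theorem ev_mul_single [Fintype G] (χ : G → ℂ) (a : GA G) (x : G) :
    ev χ (a * single x 1) = ∑ g, a.coeff g * χ (g * x) := by
  conv_lhs => rw [eq_sum_single a]
  simp [Finset.sum_mul, single_mul_single]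

theorem ev_congr [Finite G] {χ ψ : G → ℂ} {a : GA G} (h : ∀ g, a.coeff g ≠ 0 → χ g = ψ g) :
    ev χ a = ev ψ a := by
  have := Fintype.ofFinite G
  rw [ev_eq_sum, ev_eq_sum]
  refine Finset.sum_congr rfl fun g _ => ?_
  by_cases hg : a.coeff g = 0
  · simp [hg]
  · rw [h g hg]

variable (G) in
/-- The centre of the group algebra. -/
noncomputable abbrev ZA : Subalgebra ℂ (GA G) := Subalgebra.center ℂ (GA G)

theorem coeff_conj_single {k : Type*} [Semiring k] (a : MonoidAlgebra k G) (h g : G) :
    (single h 1 * a * single h⁻¹ 1 : MonoidAlgebra k G).coeff g = a.coeff (h⁻¹ * g * h) := by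
  rw [coeff_mul_single_apply, coeff_single_mul_apply]; simp [mul_assoc]

theorem single_comm_iff {k : Type*} [Semiring k] (a : MonoidAlgebra k G) (h : G) :
    single h 1 * a = a * single h 1 ↔ ∀ g, a.coeff (h * g * h⁻¹) = a.coeff g := by
  constructor
  · intro H g
    have := congrArg (fun x : MonoidAlgebra k G => x.coeff (h * g)) H
    simp only [coeff_mul_single_apply, coeff_single_mul_apply] at this
    simpa using this.symm
  · intro H
    refine ga_ext fun g => ?_
    rw [coeff_mul_single_apply, coeff_single_mul_apply, ← H (h⁻¹ * g)]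
    simp

theorem mem_ZA {a : GA G} : a ∈ ZA G ↔ IsClassFunction G a.coeff := by
  rw [Subalgebra.mem_center_iff]
  constructor
  · intro H g h
    exact (single_comm_iff a h).mp (H _) g
  · intro H b
    induction b using induction_linear with
    | zero => simp
    | add b b' hb hb' => simp only [add_mul, mul_add, hb, hb']
    | single g c =>
      have h1 := (single_comm_iff a g).mpr (fun x => H x g)
      have h2 : (single g c : GA G) = c • single g 1 := by simp
      rw [h2, smul_mul_assoc, mul_smul_comm, h1]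

theorem ZA_comm {a : GA G} (ha : a ∈ ZA G) (b : GA G) : a * b = b * a :=
  (Subalgebra.mem_center_iff.mp ha b).symm

theorem ofFn_mem_ZA [Finite G] {f : G → ℂ} (hf : IsClassFunction G f) : ofFn f ∈ ZA G :=
  mem_ZA.mpr hf

theorem single_mem_ZA {z : G} (hz : z ∈ Subgroup.center G) (c : ℂ) : single z c ∈ ZA G := by
  classical
  rw [mem_ZA]
  intro g h
  simp only [coeff_single, Finsupp.single_apply]
  congr 1
  apply propext
  constructor
  · intro e
    have := Subgroup.mem_center_iff.mp hz h
    rw [e] at this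
    have h2 : h * g * h⁻¹ = g := by
      have h3 : h * (h * g * h⁻¹) = h * g := by rw [this]; group
      exact mul_left_cancel h3
    rw [e, h2]
  · rintro rfl
    rw [Subgroup.mem_center_iff.mp hz h]; group

/-- The central character on the group algebra. -/
noncomputable def om (χ : G → ℂ) (a : GA G) : ℂ := ev χ a / χ 1

theorem om_add (χ : G → ℂ) (a b : GA G) : om χ (a + b) = om χ a + om χ b := by
  simp [om, add_div]

theorem om_sub (χ : G → ℂ) (a b : GA G) : om χ (a - b) = om χ a - om χ b := by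
  simp [om, sub_div]

theorem om_smul (χ : G → ℂ) (c : ℂ) (a : GA G) : om χ (c • a) = c * om χ a := by
  simp [om, mul_div_assoc]

theorem om_smul_aux (χ : G → ℂ) (c : ℤ) (a : GA G) : om χ ((c : GA G) * a) = (c : ℂ) • om χ a := by
  rw [smul_eq_mul, ← om_smul, ← zsmul_eq_mul, Int.cast_smul_eq_zsmul]

@[simp] theorem om_zero (χ : G → ℂ) : om χ 0 = 0 := by simp [om]

theorem om_sum (χ : G → ℂ) {ι : Type*} (s : Finset ι) (f : ι → GA G) :
    om χ (∑ i ∈ s, f i) = ∑ i ∈ s, om χ (f i) := by
  simp [om, Finset.sum_div]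

theorem om_single (χ : G → ℂ) (g : G) (c : ℂ) : om χ (single g c) = c * χ g / χ 1 := by
  simp [om]

theorem om_one (χ : IrrCharacter G) : om χ (1 : GA G) = 1 := by
  simp [om, χ.2.one_ne_zero]

theorem ev_eq_om (χ : IrrCharacter G) (a : GA G) : ev χ a = om χ a * (χ : G → ℂ) 1 := by
  rw [om, div_mul_cancel₀ _ χ.2.one_ne_zero]

variable [Finite G]

theorem ev_mul_of_cen (χ : IrrCharacter G) {a : GA G} (ha : a ∈ ZA G) (b : GA G) :
    ev χ (a * b) = om χ a * ev χ b := by
  have := Fintype.ofFinite G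
  induction b using induction_linear with
  | zero => simp
  | add b b' hb hb' => simp only [mul_add, map_add, hb, hb']
  | single g c =>
    have h2 : (single g c : GA G) = c • single g 1 := by simp
    rw [h2, mul_smul_comm, map_smul, map_smul, ev_mul_single,
      χ.2.sum_mul_apply_mul (mem_ZA.mp ha), om, ev_eq_sum]
    simp only [ev_single, smul_eq_mul]
    ring

theorem om_mul (χ : IrrCharacter G) {a : GA G} (ha : a ∈ ZA G) (b : GA G) :
    om χ (a * b) = om χ a * om χ b := by
  rw [om, ev_mul_of_cen χ ha, mul_div_assoc]; rfl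

theorem om_pow (χ : IrrCharacter G) {a : GA G} (ha : a ∈ ZA G) (n : ℕ) :
    om χ (a ^ n) = om χ a ^ n := by
  induction n with
  | zero => simp [om_one]
  | succ n ih => rw [pow_succ', om_mul χ ha, ih, pow_succ']

theorem om_pow_poly (χ : IrrCharacter G) {a : GA G} (ha : a ∈ ZA G) (q : Polynomial ℤ) :
    om χ (Polynomial.aeval a q) = Polynomial.aeval (om χ a) q := by
  induction q using Polynomial.induction_on' with
  | add q r hq hr => simp only [map_add, om_add, hq, hr]
  | monomial n c =>
    simp only [Polynomial.aeval_monomial, algebraMap_int_eq, eq_intCast]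
    rw [← om_pow χ ha, om_smul_aux, smul_eq_mul]

theorem apply_mul_of_center (χ : IrrCharacter G) {z : G} (hz : z ∈ Subgroup.center G) (g : G) :
    (χ : G → ℂ) (z * g) = (χ : G → ℂ) z / (χ : G → ℂ) 1 * (χ : G → ℂ) g := by
  have := ev_mul_of_cen χ (single_mem_ZA hz 1) (single g 1)
  simpa [single_mul_single, om_single] using this

theorem div_pow_of_center (χ : IrrCharacter G) {z : G} (hz : z ∈ Subgroup.center G) (n : ℕ) :
    ((χ : G → ℂ) z / (χ : G → ℂ) 1) ^ n = (χ : G → ℂ) (z ^ n) / (χ : G → ℂ) 1 := by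
  have := om_pow χ (single_mem_ZA hz 1) n
  rw [single_pow, om_single, om_single] at this
  simpa using this.symm

theorem cen_ext {a b : GA G} (ha : a ∈ ZA G) (hb : b ∈ ZA G)
    (h : ∀ χ : IrrCharacter G, om χ a = om χ b) : a = b := by
  have := Fintype.ofFinite G
  have h1 : (a.coeff : G → ℂ) = b.coeff := by
    refine (mem_ZA.mp ha).ext_irr (mem_ZA.mp hb) fun χ hχ => ?_
    have h2 := h ⟨_, hχ.conj⟩
    have h3 := ev_eq_om ⟨_, hχ.conj⟩ a
    rw [h2, ← ev_eq_om, ev_eq_sum, ev_eq_sum] at h3
    simp only [classInner]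
    congr 1
  exact ga_ext fun g => congrFun h1 g

theorem blockCoeff_eq [Fintype G] (B : Set (IrrCharacter G)) [DecidablePred (· ∈ B)] (g : G) :
    blockCoeff B g = (Nat.card G : ℂ)⁻¹ *
      ∑ χ ∈ Finset.univ.filter (· ∈ B), (χ : G → ℂ) 1 * conj ((χ : G → ℂ) g) := by
  rw [blockCoeff, finsum_mem_eq_finite_toFinset_sum _ (Set.toFinite B)]
  congr 2
  ext; simp

theorem finsum_mem_irr {E : Type*} [AddCommMonoid E] (B : Set (IrrCharacter G))
    [DecidablePred (· ∈ B)] (f : IrrCharacter G → E) :
    ∑ᶠ χ ∈ B, f χ = ∑ χ ∈ Finset.univ.filter (· ∈ B), f χ := by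
  rw [finsum_mem_eq_finite_toFinset_sum _ (Set.toFinite B)]
  congr 1
  ext; simp

theorem isClassFunction_blockCoeff (B : Set (IrrCharacter G)) :
    IsClassFunction G (blockCoeff B) := fun g h => by
  simp only [blockCoeff]
  congr 1
  refine finsum_congr fun χ => finsum_congr fun _ => ?_
  rw [χ.2.isClassFunction g h]

/-- The sum of the central idempotents of the members of `B`. -/
noncomputable def fS (B : Set (IrrCharacter G)) : GA G := ofFn (blockCoeff B)

@[simp] theorem coeff_fS (B : Set (IrrCharacter G)) (g : G) : (fS B).coeff g = blockCoeff B g := rfl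

theorem fS_mem_ZA (B : Set (IrrCharacter G)) : fS B ∈ ZA G :=
  ofFn_mem_ZA (isClassFunction_blockCoeff B)

theorem ev_fS [Fintype G] (B : Set (IrrCharacter G)) [DecidablePred (· ∈ B)] (θ : G → ℂ) :
    ev θ (fS B) = ∑ χ ∈ Finset.univ.filter (· ∈ B), classInner θ χ * (χ : G → ℂ) 1 := by
  rw [ev_eq_sum]
  simp only [coeff_fS, blockCoeff_eq, classInner, Finset.mul_sum, Finset.sum_mul]
  rw [Finset.sum_comm]
  refine Finset.sum_congr rfl fun χ _ => Finset.sum_congr rfl fun g _ => by ring

theorem om_fS (B : Set (IrrCharacter G)) [DecidablePred (· ∈ B)] (ψ : IrrCharacter G) :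
    om ψ (fS B) = if ψ ∈ B then 1 else 0 := by
  classical
  have := Fintype.ofFinite G
  rw [om, ev_fS]
  simp only [irr_classInner, ite_mul, one_mul, zero_mul, Finset.sum_ite_eq, Finset.mem_filter,
    Finset.mem_univ, true_and]
  split_ifs
  · exact div_self ψ.2.one_ne_zero
  · simp

theorem om_fS_of_mem {B : Set (IrrCharacter G)} {ψ : IrrCharacter G} (h : ψ ∈ B) :
    om ψ (fS B) = 1 := by
  classical
  rw [om_fS, if_pos h]

theorem om_fS_of_notMem {B : Set (IrrCharacter G)} {ψ : IrrCharacter G} (h : ψ ∉ B) :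
    om ψ (fS B) = 0 := by
  classical
  rw [om_fS, if_neg h]

theorem mem_of_om_fS_ne_zero {B : Set (IrrCharacter G)} {ψ : IrrCharacter G}
    (h : om ψ (fS B) ≠ 0) : ψ ∈ B := by
  by_contra h'; exact h (om_fS_of_notMem h')

theorem fS_mul_fS (B C : Set (IrrCharacter G)) : fS B * fS C = fS (B ∩ C) := by
  classical
  refine cen_ext (mul_mem (fS_mem_ZA _) (fS_mem_ZA _)) (fS_mem_ZA _) fun χ => ?_
  rw [om_mul χ (fS_mem_ZA _), om_fS, om_fS, om_fS]
  by_cases h1 : χ ∈ B <;> by_cases h2 : χ ∈ C <;> simp [h1, h2]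

theorem fS_mul_self (B : Set (IrrCharacter G)) : fS B * fS B = fS B := by
  rw [fS_mul_fS, Set.inter_self]

theorem fS_univ : fS (Set.univ : Set (IrrCharacter G)) = 1 :=
  cen_ext (fS_mem_ZA _) (one_mem _) fun χ => by rw [om_fS_of_mem (Set.mem_univ _), om_one]

theorem fS_empty : fS (∅ : Set (IrrCharacter G)) = 0 :=
  cen_ext (fS_mem_ZA _) (zero_mem _) fun χ => by rw [om_fS_of_notMem (Set.notMem_empty _), om_zero]

theorem cen_eq_sum {a : GA G} (ha : a ∈ ZA G) :
    a = ∑ χ : IrrCharacter G, om χ a • fS {χ} := by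
  classical
  refine cen_ext ha (sum_mem fun χ _ => Subalgebra.smul_mem _ (fS_mem_ZA _) _) fun ψ => ?_
  simp only [om_sum, om_smul, om_fS, Set.mem_singleton_iff, mul_ite, mul_one, mul_zero,
    Finset.sum_ite_eq, Finset.mem_univ, if_true]

theorem blockCoeff_singleton (χ : IrrCharacter G) (g : G) :
    blockCoeff {χ} g = (Nat.card G : ℂ)⁻¹ * ((χ : G → ℂ) 1 * conj ((χ : G → ℂ) g)) := by
  rw [blockCoeff, finsum_mem_singleton]

theorem cen_coeff_eq_sum {a : GA G} (ha : a ∈ ZA G) (g : G) :
    a.coeff g = (Nat.card G : ℂ)⁻¹ *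
      ∑ χ : IrrCharacter G, om χ a * ((χ : G → ℂ) 1 * conj ((χ : G → ℂ) g)) := by
  conv_lhs => rw [cen_eq_sum ha]
  rw [coeff_sum_apply, Finset.mul_sum]
  refine Finset.sum_congr rfl fun χ _ => ?_
  rw [coeff_smul_apply, coeff_fS, blockCoeff_singleton, smul_eq_mul]; ring

/-- `θ (f_B a)` is the `B`-part of `θ` at `a`. -/
theorem ev_fS_mul [Fintype G] (B : Set (IrrCharacter G)) [DecidablePred (· ∈ B)] {θ : G → ℂ}
    (hθ : IsClassFunction G θ) (a : GA G) :
    ev θ (fS B * a) = ∑ χ ∈ Finset.univ.filter (· ∈ B), classInner θ χ * ev χ a := by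
  conv_lhs => rw [hθ.eq_sum_irr]
  rw [ev_sum_fun, Finset.sum_filter]
  refine Finset.sum_congr rfl fun χ _ => ?_
  rw [ev_smul_fun, ev_mul_of_cen χ (fS_mem_ZA B), om_fS]
  split_ifs <;> simp

theorem blockPart_eq [Fintype G] (B : Set (IrrCharacter G)) [DecidablePred (· ∈ B)] (θ : G → ℂ)
    (g : G) :
    blockPart B θ g = ∑ χ ∈ Finset.univ.filter (· ∈ B), classInner θ χ * (χ : G → ℂ) g := by
  rw [blockPart, finsum_mem_irr]
  refine Finset.sum_congr rfl fun χ _ => ?_
  rw [classInner_congr_fintype (Fintype.ofFinite G) inferInstance]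

theorem blockPart_eq_ev (B : Set (IrrCharacter G)) {θ : G → ℂ} (hθ : IsClassFunction G θ) (g : G) :
    blockPart B θ g = ev θ (fS B * single g 1) := by
  classical
  have := Fintype.ofFinite G
  rw [blockPart_eq, ev_fS_mul B hθ]
  simp

open Classical in
/-- The class sum of `g`. -/
noncomputable def cls (g : G) : GA G := ofFn fun x => if IsConj g x then 1 else 0

open Classical in
theorem coeff_cls (g x : G) : (cls g).coeff x = if IsConj g x then 1 else 0 := rfl

theorem coeff_cls_of_conj {g x : G} (h : IsConj g x) : (cls g).coeff x = 1 := by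
  rw [coeff_cls, if_pos h]

theorem coeff_cls_of_not_conj {g x : G} (h : ¬ IsConj g x) : (cls g).coeff x = 0 := by
  rw [coeff_cls, if_neg h]

theorem isConj_of_coeff_cls {g x : G} (h : (cls g).coeff x ≠ 0) : IsConj g x := by
  by_contra h'; exact h (coeff_cls_of_not_conj h')

theorem isConj_conj (x h : G) : IsConj x (h * x * h⁻¹) := isConj_iff.mpr ⟨h, rfl⟩

theorem cls_mem_ZA (g : G) : cls g ∈ ZA G := by
  classical
  refine ofFn_mem_ZA fun x h => ?_
  have : IsConj g (h * x * h⁻¹) ↔ IsConj g x :=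
    ⟨fun H => H.trans (isConj_conj x h).symm, fun H => H.trans (isConj_conj x h)⟩
  exact if_congr this rfl rfl

theorem cls_eq_of_conj {g h : G} (H : IsConj g h) : cls g = cls h := by
  classical
  refine ga_ext fun x => ?_
  have : IsConj g x ↔ IsConj h x := ⟨fun H' => H.symm.trans H', fun H' => H.trans H'⟩
  rw [coeff_cls, coeff_cls]
  exact if_congr this rfl rfl

theorem card_isConj (g : G) :
    Nat.card {x // IsConj g x} = (Subgroup.centralizer ({g} : Set G)).index := by
  have h2 := MulAction.index_stabilizer (ConjAct G) g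
  have h3 : (MulAction.stabilizer (ConjAct G) g).index =
      (Subgroup.centralizer ({g} : Set G)).index := by
    rw [Subgroup.centralizer_eq_comap_stabilizer]
    exact (Subgroup.index_comap_of_surjective (f := ConjAct.toConjAct.toMonoidHom) _
      ConjAct.toConjAct.surjective).symm
  rw [h3] at h2
  rw [h2, ← Nat.card_coe_set_eq]
  refine Nat.card_congr (Equiv.subtypeEquivRight fun x => ?_)
  rw [ConjAct.mem_orbit_conjAct, isConj_comm]

theorem sum_ite_isConj [Fintype G] (g : G) [DecidablePred (IsConj g)] (c : ℂ) :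
    ∑ x, (if IsConj g x then c else 0) = (Subgroup.centralizer ({g} : Set G)).index * c := by
  rw [← Finset.sum_filter, Finset.sum_const, ← card_isConj, Nat.card_eq_fintype_card,
    Fintype.card_subtype, nsmul_eq_mul]

theorem ev_cls {θ : G → ℂ} (hθ : IsClassFunction G θ) (g : G) :
    ev θ (cls g) = (Subgroup.centralizer ({g} : Set G)).index * θ g := by
  classical
  have := Fintype.ofFinite G
  rw [ev_eq_sum, ← sum_ite_isConj]
  refine Finset.sum_congr rfl fun x _ => ?_
  rw [coeff_cls]
  split_ifs with h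
  · rw [one_mul, hθ.of_isConj h]
  · simp

theorem om_cls {θ : G → ℂ} (hθ : IsClassFunction G θ) (g : G) :
    om θ (cls g) = centralChar θ g := by
  rw [om, ev_cls hθ, centralChar]

theorem om_cls_irr (χ : IrrCharacter G) (g : G) : om χ (cls g) = centralChar (χ : G → ℂ) g :=
  om_cls χ.2.isClassFunction g

theorem isConj_out (g : G) : IsConj (ConjClasses.mk g).out g :=
  ConjClasses.mk_eq_mk_iff_isConj.mp (Quotient.out_eq _)

theorem mk_out (C : ConjClasses G) : ConjClasses.mk C.out = C := Quotient.out_eq _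

theorem cen_eq_sum_cls [Fintype (ConjClasses G)] {a : GA G} (ha : a ∈ ZA G) :
    a = ∑ C : ConjClasses G, a.coeff C.out • cls C.out := by
  refine ga_ext fun g => ?_
  rw [coeff_sum_apply, Finset.sum_eq_single (ConjClasses.mk g)]
  · rw [coeff_smul_apply, coeff_cls_of_conj (isConj_out g), (mem_ZA.mp ha).of_isConj (isConj_out g)]
    simp
  · intro C _ hC
    rw [coeff_smul_apply, coeff_cls_of_not_conj, smul_zero]
    intro h
    exact hC ((mk_out C).symm.trans (ConjClasses.mk_eq_mk_iff_isConj.mpr h))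
  · simp

theorem lin_cen_eq_sum [Fintype (ConjClasses G)] (φ : GA G →ₗ[ℂ] ℂ) {a : GA G} (ha : a ∈ ZA G) :
    φ a = ∑ C : ConjClasses G, a.coeff C.out * φ (cls C.out) := by
  conv_lhs => rw [cen_eq_sum_cls ha]
  simp

theorem om_eq_sum_cls [Fintype (ConjClasses G)] (χ : G → ℂ) {a : GA G} (ha : a ∈ ZA G) :
    om χ a = ∑ C : ConjClasses G, a.coeff C.out * om χ (cls C.out) := by
  conv_lhs => rw [cen_eq_sum_cls ha]
  simp [om_sum, om_smul]

theorem isIntegral_cls (g : G) : IsIntegral ℤ (cls g) := by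
  classical
  have h1 : IsIntegral ℤ (ofFn fun x => if IsConj g x then (1 : ℤ) else 0) :=
    Algebra.IsIntegral.isIntegral _
  have h2 := h1.map (mapRingHom G (Int.castRingHom ℂ)).toIntAlgHom
  convert h2 using 1
  refine ga_ext fun x => ?_
  simp [coeff_cls]

theorem isIntegral_centralChar (χ : IrrCharacter G) (g : G) :
    IsIntegral ℤ (centralChar (χ : G → ℂ) g) := by
  obtain ⟨q, hq, h⟩ := isIntegral_cls g
  refine ⟨q, hq, ?_⟩
  rw [← om_cls_irr, ← Polynomial.aeval_def, ← om_pow_poly χ (cls_mem_ZA g), Polynomial.aeval_def, h,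
    om_zero]

theorem charDegree_eq {χ : G → ℂ} {n : ℕ} (h : χ 1 = n) : charDegree χ = n := by
  simp [charDegree, h]

theorem irr_one_eq (χ : IrrCharacter G) : (χ : G → ℂ) 1 = charDegree (χ : G → ℂ) := by
  obtain ⟨n, -, h⟩ := χ.2.exists_nat
  rw [charDegree_eq h, h]

theorem char_one_eq {χ : G → ℂ} (hχ : IsCharacter G χ) : χ 1 = charDegree χ := by
  obtain ⟨n, h⟩ := hχ.exists_nat
  rw [charDegree_eq h, h]

theorem charDegree_ne_zero (χ : IrrCharacter G) : charDegree (χ : G → ℂ) ≠ 0 := by
  obtain ⟨n, hn, h⟩ := χ.2.exists_nat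
  rw [charDegree_eq h]; exact hn.ne'

theorem charDegree_dvd_card (χ : IrrCharacter G) : charDegree (χ : G → ℂ) ∣ Nat.card G := by
  classical
  have := Fintype.ofFinite G
  have h0 : (ofFn fun g => conj ((χ : G → ℂ) g)) ∈ ZA G := ofFn_mem_ZA χ.2.isClassFunction.conj
  have h1 : om χ (ofFn fun g => conj ((χ : G → ℂ) g)) = Nat.card G / charDegree (χ : G → ℂ) := by
    rw [om, ev_eq_sum, ← irr_one_eq]
    have := card_mul_classInner (χ : G → ℂ) χ
    rw [χ.2.classInner_self, mul_one] at this
    rw [this]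
    simp [mul_comm]
  have h2 : IsIntegral ℤ ((Nat.card G : ℂ) / charDegree (χ : G → ℂ)) := by
    rw [← h1, om_eq_sum_cls _ h0]
    refine IsIntegral.sum _ fun C _ => IsIntegral.mul ?_ ?_
    · exact χ.2.conj.isCharacter.isIntegral _
    · rw [om_cls_irr]; exact isIntegral_centralChar χ _
  have h3 : (Nat.card G : ℂ) / charDegree (χ : G → ℂ) =
      algebraMap ℚ ℂ ((Nat.card G : ℚ) / charDegree (χ : G → ℂ)) := by simp
  rw [h3, isIntegral_algebraMap_iff (algebraMap ℚ ℂ).injective] at h2
  obtain ⟨z, hz⟩ := IsIntegrallyClosed.isIntegral_iff.mp h2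
  have h4 : (charDegree (χ : G → ℂ) : ℚ) ≠ 0 := by exact_mod_cast charDegree_ne_zero χ
  have h5 : (Nat.card G : ℤ) = charDegree (χ : G → ℂ) * z := by
    have : (z : ℚ) = (Nat.card G : ℚ) / charDegree (χ : G → ℂ) := hz
    have h6 : (Nat.card G : ℚ) = charDegree (χ : G → ℂ) * z := by rw [this]; field_simp
    exact_mod_cast h6
  exact Int.natCast_dvd_natCast.mp ⟨z, h5⟩

theorem om_def (χ : G → ℂ) (a : GA G) : om χ a = ev χ a / χ 1 := rfl

attribute [irreducible] ev om cls fS

end Cfsg.Agent.Blk
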