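import Cfsg.Agent.Blk.First
import Cfsg.Agent.Char.Brauer2
import Cfsg.Agent.Char.Clifford2

/-! Theorems of Külshammer, Green, Fong, Reynolds. -/

set_option autoImplicit false
set_option linter.unusedSectionVars false

namespace Cfsg.Agent.Blk

open Cfsg Cfsg.Agent.Char Cfsg.Agent.PLoc MonoidAlgebra Subgroup
open scoped ComplexConjugate

variable {G : Type*} [Group G] [Finite G] {H : Type*} [Group H] [Finite H]

theorem coeff_pow_eq [Fintype G] [DecidableEq G] (a : GA G) (n : ℕ) (g : G) :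
    (a ^ n).coeff g =
      ∑ t : Fin n → G, if (List.ofFn t).prod = g then ∏ i, a.coeff (t i) else 0 := by
  induction n generalizing g with
  | zero => simp [coeff_one_eq, eq_comm]
  | succ n ih =>
    rw [pow_succ', coeff_mul_sum, ← (Fin.consEquiv fun _ : Fin (n + 1) => G).sum_comp,
      Fintype.sum_prod_type]
    refine Finset.sum_congr rfl fun x _ => ?_
    rw [ih, Finset.mul_sum]
    refine Finset.sum_congr rfl fun t _ => ?_
    simp only [Fin.consEquiv_apply, List.ofFn_succ, Fin.cons_zero, Fin.cons_succ, List.prod_cons,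
      Fin.prod_univ_succ, mul_ite, mul_zero, eq_inv_mul_iff_mul_eq]

theorem prod_ofFn_rot {n : ℕ} (t : Fin (n + 1) → G) (k : Fin (n + 1)) :
    (List.ofFn fun i => t (i + k)).prod = 1 ↔ (List.ofFn t).prod = 1 := by
  have h1 : ∀ t : Fin (n + 1) → G, (List.ofFn fun i => t (i + 1)).prod = 1 ↔
      (List.ofFn t).prod = 1 := fun t => by
    rw [List.ofFn_succ', List.ofFn_succ (f := t)]
    simp only [Fin.coeSucc_eq_succ, Fin.last_add_one, List.concat_eq_append, List.prod_append,
      List.prod_cons, List.prod_nil, mul_one]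
    exact mul_eq_one_comm
  induction k using Fin.induction with
  | zero => simp
  | succ k ih =>
    refine Iff.trans ?_ ((h1 fun i => t (i + k.castSucc)).trans ih)
    simp only [← Fin.coeSucc_eq_succ, add_assoc, add_comm k.castSucc 1]

variable {p : ℕ} [Fact p.Prime] {M : Ideal AlgInt} [hp : PMod p M]

theorem coeff_one_pow_sub [Fintype G] [DecidableEq G] {a : GA G} (ha : a ∈ RG M G) (m : ℕ) :
    (a ^ p ^ m).coeff 1 - (∑ x, if x ^ p ^ m = 1 then a.coeff x else 0) ^ p ^ m ∈ LP M := by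
  classical
  obtain ⟨n, hn⟩ : ∃ n, p ^ m = n + 1 :=
    Nat.exists_eq_succ_of_ne_zero (pow_ne_zero _ (Fact.out : p.Prime).ne_zero)
  have h1 : (∑ x, if x ^ p ^ m = 1 then a.coeff x ^ p ^ m else 0) -
      (∑ x, if x ^ p ^ m = 1 then a.coeff x else 0) ^ p ^ m ∈ LP M := by
    have h2 := sum_pow_char_pow p m Finset.univ fun x : G =>
      res M (if x ^ p ^ m = 1 then ⟨a.coeff x, ha x⟩ else 0)
    simp only [← map_pow, ← map_sum] at h2
    have h3 := res_eq_res.mp h2.symm
    simp only [AddSubmonoidClass.coe_finsetSum, SubmonoidClass.coe_pow, apply_ite Subtype.val,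
      ZeroMemClass.coe_zero, ite_pow, zero_pow (hn ▸ n.succ_ne_zero : p ^ m ≠ 0)] at h3
    exact h3
  refine LP_trans ?_ h1
  rw [hn]
  letI : MulAction (Multiplicative (Fin (n + 1))) (Fin (n + 1) → G) :=
    { smul := fun k t i => t (i + k.toAdd)
      one_smul := fun t => funext fun i => congrArg t (add_zero i)
      mul_smul := fun k l t => funext fun i => congrArg t (add_assoc i _ _).symm }
  have hs : ∀ (k : Multiplicative (Fin (n + 1))) (t : Fin (n + 1) → G),
      k • t = fun i => t (i + k.toAdd) := fun _ _ => rfl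
  have h4 : (∑ x : G, if x ^ (n + 1) = 1 then a.coeff x ^ (n + 1) else 0) =
      ∑ t : Fin (n + 1) → G, if ∀ i, t i = t 0 then
        (if (List.ofFn t).prod = 1 then ∏ i, a.coeff (t i) else 0) else 0 := by
    rw [← Finset.sum_filter (p := fun t : Fin (n + 1) → G => ∀ i, t i = t 0)]
    refine Finset.sum_bij (fun x _ _ => x) (by simp) (fun x _ y _ h => congrFun h 0)
      (fun t ht => ⟨t 0, Finset.mem_univ _, funext fun i => ((Finset.mem_filter.mp ht).2 i).symm⟩)
      fun x _ => by simp only [List.ofFn_const, List.prod_replicate, Finset.prod_const,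
        Finset.card_univ, Fintype.card_fin]
  rw [coeff_pow_eq, h4, ← Finset.sum_sub_distrib]
  refine sum_mem_LP_of_invariant (P := Multiplicative (Fin (n + 1)))
    (IsPGroup.of_card (n := m) (by simp [hn])) _ (fun k t => ?_) (fun t => ?_) fun t ht => ?_
  · have h5 : ∏ i, a.coeff (t (i + k.toAdd)) = ∏ i, a.coeff (t i) :=
      Equiv.prod_comp (Equiv.addRight k.toAdd) fun i => a.coeff (t i)
    have h6 : (∀ i, t (i + k.toAdd) = t (0 + k.toAdd)) ↔ ∀ i, t i = t 0 :=
      ⟨fun h i => by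
        have h1 := h (i - k.toAdd)
        have h2 := h (0 - k.toAdd)
        rw [sub_add_cancel] at h1 h2
        exact h1.trans h2.symm, fun h i => (h _).trans (h _).symm⟩
    simp only [hs, prod_ofFn_rot, h5, h6]
  · have : (if (List.ofFn t).prod = 1 then ∏ i, a.coeff (t i) else 0) ∈ LR M := by
      split_ifs
      exacts [prod_mem fun i _ => ha _, zero_mem _]
    refine sub_mem this ?_
    split_ifs with h
    exacts [prod_mem fun i _ => ha _, zero_mem _, zero_mem _]
  · rw [if_pos fun i => ?_, sub_self]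
    · exact zero_mem _
    · simpa [hs] using congrFun (ht (Multiplicative.ofAdd i)) 0

theorem pow_pow_eq_one_iff {m : ℕ} (hm : (Nat.card G).factorization p ≤ m) {x : G} :
    x ^ p ^ m = 1 ↔ ∃ k, orderOf x = p ^ k := by
  rw [← orderOf_dvd_iff_pow_eq_one]
  refine ⟨fun h => ((Nat.dvd_prime_pow Fact.out).mp h).imp fun _ h => h.2, fun ⟨k, hk⟩ => ?_⟩
  rw [hk]
  exact pow_dvd_pow _ ((((Fact.out : p.Prime).pow_dvd_iff_le_factorization Nat.card_pos.ne').mp
    (hk ▸ orderOf_dvd_natCard x)).trans hm)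

theorem pow_sub_mem_LP {x y : ℂ} (hx : x ∈ LR M) (hy : y ∈ LR M) (m : ℕ)
    (h : x ^ p ^ m - y ^ p ^ m ∈ LP M) : x - y ∈ LP M := by
  have h1 : res M (⟨x, hx⟩ ^ p ^ m) = res M (⟨y, hy⟩ ^ p ^ m) := res_eq_res.mpr h
  rw [map_pow, map_pow, ← sub_eq_zero, ← sub_pow_char_pow, pow_eq_zero_iff
    (pow_ne_zero _ (Fact.out : p.Prime).ne_zero), sub_eq_zero] at h1
  exact res_eq_res.mp h1

open Classical in
theorem psum_sub [Fintype G] {z : GA G} (hz : z ∈ ZR M G) (g : G) {m : ℕ}
    (hm : (Nat.card G).factorization p ≤ m) :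
    (z ^ p ^ m).coeff (g ^ p ^ m) -
      (∑ x, if ∃ k, orderOf x = p ^ k then z.coeff (x * g) else 0) ^ p ^ m ∈ LP M := by
  have h1 := coeff_one_pow_sub (mul_mem hz.1 (single_mem_RG g⁻¹ (one_mem _))) m
  rw [Commute.mul_pow (ZA_comm hz.2 _), single_pow, coeff_mul_single_apply] at h1
  simpa only [pow_pow_eq_one_iff hm, coeff_mul_single_apply, inv_inv, mul_one, one_pow, inv_pow,
    one_mul] using h1

open Classical in
theorem psum_mem_LR [Fintype G] {z : GA G} (hz : z ∈ RG M G) (g : G) :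
    (∑ x, if ∃ k, orderOf x = p ^ k then z.coeff (x * g) else 0) ∈ LR M :=
  sum_mem fun x _ => by split_ifs; exacts [hz _, zero_mem _]

open Classical in
theorem psum_mem_LP [Fintype G] {z : GA G} (hz : z ∈ ZR M G)
    (h : ∀ χ : IrrCharacter G, om χ z ∈ LP M) (g : G) :
    (∑ x, if ∃ k, orderOf x = p ^ k then z.coeff (x * g) else 0) ∈ LP M := by
  obtain ⟨n, hn⟩ := pow_mem_PG hz h
  have h1 := psum_sub hz g (le_max_left _ n)
  obtain ⟨k, hk⟩ := Nat.exists_eq_add_of_le (show n + 1 ≤ p ^ max ((Nat.card G).factorization p) n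
    from (Nat.lt_pow_self (Fact.out : p.Prime).one_lt).trans_le
      (Nat.pow_le_pow_right (Fact.out : p.Prime).pos (le_max_right _ n)))
  refine LP_of_pow (psum_mem_LR hz.1 g) (LP_of_sub (LP_symm h1) ?_)
  have : z ^ p ^ max ((Nat.card G).factorization p) n ∈ PG M G := by
    rw [hk, pow_add]; exact PG_mul_right hn (pow_mem hz.1 _)
  exact this _

open Classical in
theorem psum_fS [Fintype G] {B : Set (IrrCharacter G)} (hB : IsPBlock M B) {g : G}
    (hg : ¬ p ∣ orderOf g) :
    (∑ x, if ∃ k, orderOf x = p ^ k then (fS B).coeff (x * g) else 0) - blockCoeff B g ∈ LP M := by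
  have h0 : 0 < (orderOf g).totient := Nat.totient_pos.mpr (orderOf_pos g)
  have key : ∀ j, (Nat.card G).factorization p ≤ j → blockCoeff B g -
      (∑ x, if ∃ k, orderOf x = p ^ k then (fS B).coeff (x * g) else 0) ^
        p ^ ((orderOf g).totient * j) ∈ LP M := fun j hj => by
    have h1 := psum_sub (fS_mem_ZR hB) g (hj.trans (Nat.le_mul_of_pos_left j h0))
    have h2 : g ^ p ^ ((orderOf g).totient * j) = g := by
      have := (Nat.ModEq.pow_totient
        ((Nat.Prime.coprime_iff_not_dvd Fact.out).mpr hg)).pow j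
      rw [← pow_mul, one_pow] at this
      simpa using pow_eq_pow_iff_modEq.mpr this
    rwa [h2, IsIdempotentElem.pow_eq (fS_mul_self B) (pow_ne_zero _ (Fact.out : p.Prime).ne_zero),
      coeff_fS] at h1
  have h1 := key _ le_rfl
  have h2 := LP_trans (LP_symm h1) (key _ (Nat.le_add_right _ ((Nat.card G).factorization p)))
  rw [mul_add, pow_add, pow_mul (Finset.sum _ _)] at h2
  exact LP_trans (pow_sub_mem_LP (psum_mem_LR (fS_mem_ZR hB).1 g)
    (pow_mem (psum_mem_LR (fS_mem_ZR hB).1 g) _) _ h2) (LP_symm h1)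

theorem green_aux {B : Set (IrrCharacter G)} (hB : IsPBlock M B) {Q : Subgroup G}
    (hQ : IsPGroup p Q) : ∃ x, blockCoeff B x ∉ LP M ∧ Q ⊓ cj x Q ≤ centralizer {x} := by
  classical
  have := Fintype.ofFinite G
  have h1 : ∃ w, ∑ q : Q, blockCoeff B (w * q) ∉ LP M := by
    by_contra hc
    push Not at hc
    set f := piF (⟨fS B, (fS_mem_ZR hB).1⟩ : RG M G) with hf
    obtain ⟨χ, hχ⟩ := blk_nonempty hB
    have hf0 : f ≠ 0 := fun h => fS_notMem_PG hχ (piF_eq_zero.mp h)
    have hff : f * f = f := by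
      rw [hf, ← map_mul]; congr 1; exact Subtype.ext (fS_mul_self B)
    have hc' : ∀ a, a * f = f * a := fun a => by
      induction a using induction_linear with
      | zero => simp
      | add a b ha hb => rw [add_mul, mul_add, ha, hb]
      | single g c =>
        have : single g 1 * f = f * single g 1 := (single_comm_iff f g).mpr fun x => by
          simp only [hf, coeff_piF, coeff_fS, isClassFunction_blockCoeff B x g]
        rw [← mul_one c, ← smul_single', smul_mul_assoc, mul_smul_comm, this]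
    haveI : Nontrivial (Ideal.span {f}) := Submodule.nontrivial_iff_ne_bot.mpr
      (mt Ideal.span_singleton_eq_bot.mp hf0)
    obtain ⟨⟨v, hv⟩, hv0, h2⟩ := exists_fixed_vector (F := RF M) (V := Ideal.span {f}) hQ
    obtain ⟨a, rfl⟩ := Submodule.mem_span_singleton.mp hv
    refine hv0 (Subtype.ext ?_)
    have h3 : ∀ u ∈ Q, ∀ g, (a * f).coeff (u⁻¹ * g) = (a * f).coeff g := fun u hu g => by
      have := congrArg (fun v : Ideal.span {f} => v.1.coeff g) (h2 u hu)
      simpa [coeff_single_mul_apply] using this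
    have h4 : a * f = f * (a * f) := by rw [← hc', mul_assoc, hff]
    change a * f = 0
    rw [h4]
    refine ga_ext fun g => ?_
    rw [coeff_mul_sum', ← Equiv.sum_comp (Equiv.inv G), sum_eq_sum_cosets Q]
    refine Finset.sum_eq_zero fun c _ => ?_
    simp only [Equiv.inv_apply, inv_inv, mul_inv_rev, h3 _ (Subtype.property _)]
    rw [← Finset.sum_mul]
    refine mul_eq_zero_of_left ?_ _
    simp only [hf, coeff_piF, ← map_sum]
    rw [res_eq_zero, AddSubmonoidClass.coe_finsetSum]
    simpa only [coeff_fS, mul_assoc] using hc (g * c.out)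
  obtain ⟨w, hw⟩ := h1
  by_contra hc
  push Not at hc
  letI : MulAction (Q ⊓ cj w Q : Subgroup G) G :=
    MulAction.compHom G ((MulAut.conj (G := G)).comp (Q ⊓ cj w Q).subtype)
  have hs : ∀ (u : (Q ⊓ cj w Q : Subgroup G)) (x : G), u • x = u * x * u⁻¹ := fun _ _ => rfl
  refine hw ?_
  have h2 : ∑ q : Q, blockCoeff B (w * q) = ∑ g, if w⁻¹ * g ∈ Q then blockCoeff B g else 0 := by
    rw [← Equiv.sum_comp (Equiv.mulLeft w), ← Finset.sum_filter,
      Finset.sum_subtype (p := (· ∈ Q)) (F := inferInstance) _ (by simp)]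
    rfl
  rw [h2]
  refine sum_mem_LP_of_invariant (hQ.to_le (inf_le_left : Q ⊓ cj w Q ≤ Q)) _ (fun u x => ?_)
    (fun x => ?_) fun x hx => ?_
  · rw [hs, Subgroup.coe_inv, isClassFunction_blockCoeff]
    refine if_congr ?_ rfl rfl
    rw [show w⁻¹ * (u * x * (u : G)⁻¹) = w⁻¹ * u * w * (w⁻¹ * x) * (u : G)⁻¹ by group,
      Q.mul_mem_cancel_right (Q.inv_mem u.2.1), Q.mul_mem_cancel_left (mem_cj.mp u.2.2)]
  · split_ifs
    exacts [blockCoeff_mem_LR hB x, zero_mem _]
  · split_ifs with h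
    · by_contra h'
      refine hc x h' fun u hu => mem_centralizer_singleton_iff.mpr ?_
      have h3 : cj x Q = cj w Q := by
        rw [← mul_inv_cancel_left w x, cj_mul, cj_eq_of_mem h]
      exact mul_inv_eq_iff_eq_mul.mp (hx ⟨u, h3 ▸ hu⟩)
    · exact zero_mem _

theorem card_classes_le {ι : Type*} [Finite ι] (ξ : ι → IrrCharacter G)
    (hξ : ∀ χ : IrrCharacter G, ∃ i, SameBlock M (ξ i : G → ℂ) χ) {K : Subgroup G} [K.Normal]
    (hK : ¬ p ∣ Nat.card K) (S : ConjClasses G → Prop) (hS : ∀ g, S (ConjClasses.mk g) → g ∈ K) :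
    Nat.card {C // S C} ≤ Nat.card ι := by
  classical
  have := Fintype.ofFinite (ConjClasses G)
  have := Fintype.ofFinite ι
  have := Fintype.ofFinite K
  rw [Nat.card_eq_fintype_card, Nat.card_eq_fintype_card]
  refine card_le_of_inj (F := RF M)
    (fun i C => res M ⟨centralChar (ξ i : G → ℂ) C.1.out, centralChar_mem_LR _ _⟩) fun v hv => ?_
  choose w hw using fun C => IsLocalRing.residue_surjective (v C)
  set a : GA G := ofFn fun g => if h : S (ConjClasses.mk g) then (w ⟨_, h⟩ : ℂ) else 0 with ha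
  have haZ : a ∈ ZR M G := ofFn_mem_ZR (fun g x => by
    simp only [ConjClasses.mk_eq_mk_iff_isConj.mpr (isConj_conj g x).symm]) fun g => by
      split_ifs
      exacts [(w _).2, zero_mem _]
  have h0 : ∀ C : {C // S C}, a.coeff C.1.out = w C := fun C => by
    simp only [ha, coeff_ofFn, mk_out, C.2, dif_pos]
  have h1 : ∀ χ : IrrCharacter G, om χ a ∈ LP M := fun χ => by
    obtain ⟨i, hi⟩ := hξ χ
    refine LP_of_sub (om_sub_mem_of_sameBlock (sameBlock_symm hi) haZ) ?_
    have h2 := hv i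
    simp only [← hw, ← map_mul, ← map_sum] at h2
    rw [res_eq_zero, AddSubmonoidClass.coe_finsetSum] at h2
    rw [om_eq_sum_cls _ haZ.2, ← Finset.sum_filter_add_sum_filter_not Finset.univ S,
      Finset.sum_subtype (p := S) (F := inferInstance) (Finset.univ.filter S) (by simp),
      Finset.sum_eq_zero (s := Finset.univ.filter fun C => ¬ S C), add_zero]
    · simpa only [h0, om_cls_irr, mul_comm (centralChar _ _), Subring.coe_mul] using h2
    · intro C hC
      simp only [ha, coeff_ofFn, mk_out, (Finset.mem_filter.mp hC).2, dif_neg, not_false_eq_true,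
        zero_mul]
  have he := normEmb_subtype K
  have h2 := mem_PG_of_not_dvd (M := M) hK (pull_mem_ZA K.subtype haZ.2) fun θ => by
    obtain ⟨χ, hχ⟩ := exists_over_left θ he.inj
    rw [← he.om_eq_pull hχ haZ.2 fun g hg => ?_]
    · exact h1 χ
    · rw [ha, coeff_ofFn, dif_neg fun h => hg ⟨⟨g, hS g h⟩, rfl⟩]
  funext C
  have h3 := h2 ⟨C.1.out, hS _ (by rw [mk_out]; exact C.2)⟩
  rw [coeff_pull, K.subtype_apply, h0] at h3
  rw [← hw]
  exact res_eq_zero.mpr h3

omit hp in
theorem ne_zero_of_not_dvd {a b : ℕ} (h : ¬ a ∣ b) : b ≠ 0 := fun h' => h (h' ▸ dvd_zero _)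

omit hp in
theorem centralChar_irrAut (β : MulAut H) (θ : IrrCharacter H) (x : H) :
    centralChar (irrAut β θ : H → ℂ) x = centralChar (θ : H → ℂ) (β x) := by
  have : centralizer ({x} : Set H) = (centralizer {β x}).comap β.toMonoidHom := by
    ext y
    simp only [mem_centralizer_singleton_iff, mem_comap, MulEquiv.coe_toMonoidHom, ← map_mul,
      β.injective.eq_iff]
  rw [centralChar, centralChar, this, index_comap_of_surjective _ β.surjective, irrAut_apply,
    irrAut_apply, map_one]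

omit hp in
theorem NormEmb.exists_om_pull_cls {e : H →* G} {α : G →* MulAut H} (he : NormEmb e α) (x : H) :
    ∃ (T : Finset (ConjClasses H)) (γ : ConjClasses H → G), ∀ θ : IrrCharacter H,
      om θ (pull e (cls (e x))) = ∑ C ∈ T, centralChar (irrAut (α (γ C)) θ : H → ℂ) x := by
  classical
  have := Fintype.ofFinite (ConjClasses H)
  have h1 : ∀ C : ConjClasses H, ∃ g, IsConj (e x) (e C.out) → α g x = C.out := fun C => by
    by_cases h : IsConj (e x) (e C.out)
    · obtain ⟨g, hg⟩ := isConj_iff.mp h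
      exact ⟨g, fun _ => he.inj (by rw [he.cnj, hg])⟩
    · exact ⟨1, fun h' => absurd h' h⟩
  choose γ hγ using h1
  refine ⟨Finset.univ.filter fun C => IsConj (e x) (e C.out), γ, fun θ => ?_⟩
  rw [om_eq_sum_cls _ (pull_mem_ZA e (cls_mem_ZA _)), Finset.sum_filter]
  refine Finset.sum_congr rfl fun C _ => ?_
  rw [coeff_pull, om_cls_irr]
  split_ifs with h
  · rw [coeff_cls_of_conj h, one_mul, centralChar_irrAut, hγ C h]
  · rw [coeff_cls_of_not_conj h, zero_mul]

theorem blockDefect_of_defectClass {B : Set (IrrCharacter G)} (hB : IsPBlock M B) {y : G}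
    (hy : IsDefectClass M B y) :
    blockDefect p B = (Nat.card (centralizer ({y} : Set G))).factorization p := by
  rw [blockDefect_eq, ← nu_index_defectClass hB hy, nu_card_mul p (centralizer {y}),
    Nat.add_sub_cancel]

theorem NormEmb.fong_aux [Fintype H] {e : H →* G} {α : G →* MulAut H} (he : NormEmb e α)
    {b : Set (IrrCharacter H)} (hb : IsPBlock M b) (hinv : Invt α b) {θ : IrrCharacter H}
    (hθ : θ ∈ b) {x : H} (h1 : blockCoeff b x ∉ LP M) (h2 : om θ (pull e (cls (e x))) ∉ LP M) :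
    IsDefectClass M b x ∧ (centralizer ({e x} : Set G)).index.factorization p =
      (centralizer ({x} : Set H)).index.factorization p := by
  obtain ⟨T, γ, hT⟩ := he.exists_om_pull_cls x
  have h3 : om θ (pull e (cls (e x))) - T.card * centralChar (θ : H → ℂ) x ∈ LP M := by
    rw [hT, ← nsmul_eq_mul, ← Finset.sum_const, ← Finset.sum_sub_distrib]
    exact (LP M).sum_mem fun C _ => blk_same hb (hinv _ θ hθ) hθ x
  have h4 := notMem_LP_of_sub (LP_symm h3) h2
  refine ⟨⟨blockCoeff_mem_LR hb x, h1, fun χ hχ => notMem_LP_of_sub (blk_same hb hχ hθ x)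
    fun h => h4 (LP_mul_left (natCast_mem _ _) h)⟩, ?_⟩
  have h5 : ¬ p ∣ T.card := fun h =>
    h4 (LP_mul_right (natCast_mem_LP.mpr h) (centralChar_mem_LR _ _))
  have h6 : _ = ∑ C ∈ T, centralChar (irrOne H : H → ℂ) x := hT (irrOne H)
  rw [← he.centralChar_eq (χ := irrOne G) (by
    rw [Over]; exact (isIrrCharacter_one.classInner_self (G := H)).symm ▸ one_ne_zero),
    centralChar_irrOne, centralChar_irrOne, Finset.sum_const,
    nsmul_eq_mul, ← Nat.cast_mul, Nat.cast_inj] at h6
  rw [h6, Nat.factorization_mul (ne_zero_of_not_dvd h5) (index_pos' _).ne', Finsupp.add_apply,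
    Nat.factorization_eq_zero_of_not_dvd h5, zero_add]

theorem NormEmb.exists_fong [Fintype H] {e : H →* G} {α : G →* MulAut H} (he : NormEmb e α)
    {b : Set (IrrCharacter H)} (hb : IsPBlock M b) (hinv : Invt α b) {θ : IrrCharacter H}
    (hθ : θ ∈ b) : ∃ x, blockCoeff b x ∉ LP M ∧ om θ (pull e (cls (e x))) ∉ LP M ∧
      ∃ B, IsPBlock M B ∧ (∃ χ ∈ B, ∃ θ ∈ b, Over e χ θ) ∧ IsDefectClass M B (e x) := by
  classical
  have := Fintype.ofFinite (ConjClasses G)
  have hs := he.fS_mem_ZR hinv (Blk.fS_mem_ZR hb).1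
  have h1 : om θ (pull e (push e (fS b))) ∉ LP M := by
    rw [pull_push e he.inj, om_fS_of_mem hθ]; exact one_notMem_LP
  rw [cen_eq_sum_cls hs.2, pull_sum, om_sum] at h1
  obtain ⟨C, -, hC⟩ := exists_notMem_LP_of_sum h1
  rw [pull_smul, om_smul] at hC
  have h2 : (push e (fS b)).coeff C.out ∉ LP M := fun h =>
    hC (LP_mul_right h (om_mem_LR _ (pull_mem_ZR e (cls_mem_ZR _))))
  have h3 : om θ (pull e (cls C.out)) ∉ LP M := fun h => hC (LP_mul_left (hs.1 _) h)
  obtain ⟨x, hx⟩ : C.out ∈ e.range := by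
    by_contra hc
    exact h2 (by rw [coeff_push_of_notMem e _ hc]; exact zero_mem _)
  rw [← hx] at h2 h3
  refine ⟨x, by rwa [coeff_push e he.inj, coeff_fS] at h2, h3, ?_⟩
  have h4 : push e (fS b) = fS {χ | ∃ θ ∈ b, Over e χ θ} :=
    cen_ext hs.2 (Blk.fS_mem_ZA _) fun χ => by
      by_cases h : ∃ θ ∈ b, Over e χ θ
      · rw [om_fS_of_mem h, he.om_eq_one hinv ((om_push_fS_ne_zero_iff χ b).mpr h)]
      · rw [om_fS_of_notMem h]
        exact not_not.mp (mt (om_push_fS_ne_zero_iff χ b).mp h)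
  rw [h4, fS_eq_sum_blocks (M := M) fun χ hχ ψ h => mem_of_fS_mem_RG (h4 ▸ hs.1) hχ h,
    coeff_sum_apply] at h2
  obtain ⟨B, hB, h5⟩ := exists_notMem_LP_of_sum h2
  obtain ⟨hB, hBA⟩ := Finset.mem_filter.mp hB
  rw [mem_blocks] at hB
  obtain ⟨χ, hχ⟩ := blk_nonempty hB
  refine ⟨B, hB, ⟨χ, hχ, hBA hχ⟩, blockCoeff_mem_LR hB _, by rwa [coeff_fS] at h5, fun ψ hψ => ?_⟩
  obtain ⟨ζ, hζ, h6⟩ := hBA hψ
  exact notMem_LP_of_sub (he.cong_of_over h6 (sameBlock_refl _) (blk_same hb hζ hθ) x) h3

omit hp in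
theorem classInner_comp_one_eq_zero [Fintype G] [Fintype H] (f : H →* G) {χ ψ : G → ℂ}
    (hχ : IsCharacter G χ) (hψ : IsIrrCharacter G ψ) (h : classInner χ ψ ≠ 0)
    (h0 : classInner (fun x => χ (f x)) (fun _ => 1) = 0) :
    classInner (fun x => ψ (f x)) (fun _ => 1) = 0 := by
  by_contra hc
  refine classInner_add_ne_zero_left (hψ.isCharacter.comp f) ((hχ.sub_irr hψ h).comp f)
    isCharacter_one hc ?_
  rw [← h0]; congr 1; ext x; simp

omit hp in
theorem dvd_degree_of_commutator {P : Type*} [Group P] [Finite P] (hP : IsPGroup p P)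
    [Fintype (commutator P)] {τ : P → ℂ} (hτ : IsCharacter P τ)
    (h0 : classInner (fun x : commutator P => τ x) (fun _ => 1) = 0) : p ∣ charDegree τ := by
  have := Fintype.ofFinite P
  obtain ⟨m, hm, h1⟩ := hτ.exists_mult
  have h2 : charDegree τ = ∑ ζ : IrrCharacter P, m ζ * charDegree (ζ : P → ℂ) := by
    apply charDegree_eq
    rw [h1]
    simp [irr_one_eq]
  rw [h2]
  refine Finset.dvd_sum fun ζ _ => ?_
  by_cases h : m ζ = 0
  · simp [h]
  refine Dvd.dvd.mul_left ?_ _
  have h3 := classInner_comp_one_eq_zero (commutator P).subtype hτ ζ.2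
    (by rw [hm]; exact_mod_cast h) h0
  obtain ⟨n, hn⟩ := hP.exists_card_eq
  obtain ⟨k, -, hk⟩ := (Nat.dvd_prime_pow Fact.out).mp (hn ▸ charDegree_dvd_card ζ)
  rcases k with _ | k
  · exfalso
    obtain ⟨l, hl⟩ := ζ.2.isCharacter.exists_hom (by rw [irr_one_eq, hk]; simp)
    have h4 : ∀ x : commutator P, (ζ : P → ℂ) ((commutator P).subtype x) = 1 := fun x => by
      rw [hl]
      have : l x = 1 := Abelianization.commutator_subset_ker l x.2
      simp [this]
    simp only [h4] at h3
    exact one_ne_zero (isIrrCharacter_one.classInner_self.symm.trans h3)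
  · rw [hk]; exact dvd_pow_self p k.succ_ne_zero

theorem apply_mem_LP_of_commutator {P : Subgroup G} [P.Normal] (hP : IsPGroup p P)
    {χ : IrrCharacter G} (h : ∃ n ∈ ⁅P, P⁆, (χ : G → ℂ) n ≠ (χ : G → ℂ) 1) {y : G}
    (hy : y ∈ centralizer (P : Set G)) : (χ : G → ℂ) y ∈ LP M := by
  have := Fintype.ofFinite (centralizer ({y} : Set G))
  have := Fintype.ofFinite (commutator P)
  have := Fintype.ofFinite (⁅P, P⁆ : Subgroup G)
  have hle := le_cent_iff.mpr hy
  obtain ⟨m, hm, h1⟩ := (χ.2.isCharacter.restrict (centralizer {y})).exists_mult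
  have h2 := congrFun h1 ⟨y, mem_centralizer_singleton_iff.mpr rfl⟩
  simp only [Finset.sum_apply, Pi.smul_apply, smul_eq_mul] at h2
  rw [h2]
  refine (LP M).sum_mem fun ψ _ => ?_
  by_cases h0 : m ψ = 0
  · simp [h0]
  refine LP_mul_left (natCast_mem _ _) ?_
  rw [← div_mul_cancel₀ (ψ.1 ⟨y, mem_centralizer_singleton_iff.mpr rfl⟩) ψ.2.one_ne_zero]
  refine LP_mul_left (div_mem_LR_of_center ψ (mem_center_cent y)) ?_
  have h3 := dvd_degree_of_commutator hP (ψ.2.isCharacter.comp (inclusion hle))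
    (classInner_comp_one_eq_zero ((inclusion hle).comp (commutator P).subtype)
      (χ.2.isCharacter.restrict (centralizer {y})) ψ.2 (by rw [hm]; exact_mod_cast h0) (by
        rw [classInner_one_right]
        refine mul_eq_zero_of_right _ ?_
        rw [← χ.2.sum_normal_eq_zero ⁅P, P⁆ h]
        exact Fintype.sum_equiv (((commutator P).equivMapOfInjective P.subtype
          P.subtype_injective).trans (MulEquiv.subgroupCongr (map_subtype_commutator P))).toEquiv
          _ _ fun x => rfl))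
  rw [irr_one_eq, natCast_mem_LP]
  simpa [charDegree] using h3

/-- Regular values in blocks of `G = P C(P)` -/
theorem apply_reg_eq {f : G →* H} (hf : Function.Surjective f) (hk : IsPGroup p f.ker)
    (hC : ∀ x, ¬ p ∣ orderOf x → x ∈ centralizer (f.ker : Set G)) {θ : IrrCharacter H}
    (hθ : nu p θ = (Nat.card H).factorization p) {χ : IrrCharacter G}
    (hχ : SameBlock M (χ : G → ℂ) (infl f hf θ)) {y : G} (hy : ¬ p ∣ orderOf y) :
    (χ : G → ℂ) y * (θ : H → ℂ) 1 = (χ : G → ℂ) 1 * (θ : H → ℂ) (f y) := by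
  classical
  have := Fintype.ofFinite G
  have hZ := push_mem_ZA f hf (aR_mem_ZR (M := M) χ.2.isCharacter).2
  have h1 : push f (aR p (χ : G → ℂ)) = om θ (push f (aR p (χ : G → ℂ))) • fS {θ} :=
    cen_ext hZ (Subalgebra.smul_mem _ (fS_mem_ZA _) _) fun η => by
      rw [om_smul]
      by_cases h : η = θ
      · rw [h, om_fS_of_mem (Set.mem_singleton θ), mul_one]
      · rw [om_fS_of_notMem (B := {θ}) h, mul_zero, ← om_infl f hf]
        refine om_aR_eq_zero (M := M) fun h' => h ?_
        have h2 : η ∈ blockOf M (θ : H → ℂ) :=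
          sameBlock_of_infl_pgroup hf hk hC (sameBlock_trans (sameBlock_symm hχ) h')
        rwa [blockOf_eq_singleton hθ] at h2
  have h2 : ∀ y, ¬ p ∣ orderOf y → conj ((χ : G → ℂ) y) = om θ (push f (aR p (χ : G → ℂ))) *
      ((Nat.card H : ℂ)⁻¹ * ((θ : H → ℂ) 1 * conj ((θ : H → ℂ) (f y)))) := fun y hy => by
    have h3 := congrArg (fun a : GA H => a.coeff (f y)) h1
    simp only [coeff_push_eq_sum, coeff_smul, Finsupp.smul_apply, smul_eq_mul, coeff_fS,
      blockCoeff_singleton] at h3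
    rw [← h3, Finset.sum_eq_single y, if_pos rfl, aR, coeff_ofFn, regPart_of_not_dvd _ hy]
    · intro x _ hx
      split_ifs with h
      · rw [aR, coeff_ofFn, regPart_of_dvd, map_zero]
        by_contra hc
        exact hx (eq_of_reg_of_map_eq hk (hC x hc) hc hy h)
      · rfl
    · simp
  apply star_injective
  change conj _ = conj _
  rw [map_mul, map_mul, h2 y hy, h2 1 (not_dvd_orderOf_one Fact.out), map_one]
  ring

end Cfsg.Agent.Blk
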