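import Cfsg.Agent.Blk.Two
import Cfsg.Agent.S0961
import Cfsg.Agent.Char.TI

/-! The principal 2-block of a group with a central involution and quaternion Sylow subgroup. -/

set_option autoImplicit false
set_option linter.unusedSectionVars false

namespace Cfsg.Agent.Blk

open Cfsg Cfsg.Agent.Char Cfsg.Agent.PLoc MonoidAlgebra Subgroup
open scoped ComplexConjugate

variable {G : Type*} [Group G] [Finite G] {H : Type*} [Group H] [Finite H]

section
variable {p : ℕ} [Fact p.Prime] {M : Ideal AlgInt} [hp : PMod p M]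

theorem inv_card_sum_mem_LR [Fintype G] {θ : G → ℂ} (hθ : IsClassFunction G θ)
    (h : ∀ g, θ g / Nat.card (centralizer ({g} : Set G)) ∈ LR M) :
    (Nat.card G : ℂ)⁻¹ * ∑ g, θ g ∈ LR M := by
  classical
  have := Fintype.ofFinite (ConjClasses G)
  have h1 := sum_mk_mul_card_centralizer fun C : ConjClasses G =>
    θ C.out / Nat.card (centralizer ({C.out} : Set G))
  have h2 : ∀ g : G, θ (ConjClasses.mk g).out /
      Nat.card (centralizer ({(ConjClasses.mk g).out} : Set G)) *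
        Nat.card (centralizer ({g} : Set G)) = θ g := fun g => by
    rw [hθ.of_isConj (isConj_out g), card_centralizer_eq_of_isConj (isConj_out g),
      div_mul_cancel₀ _ (card_ne_zero _)]
  simp only [h2] at h1
  rw [h1, ← mul_assoc, inv_mul_cancel₀ (card_ne_zero G), one_mul]
  exact (LR M).sum_mem fun C _ => h _

omit hp in
theorem isGen_regPart {θ : G → ℂ} (hθ : IsGeneralizedCharacter G θ) : IsGeneralizedCharacter G
    (((p ^ (Nat.card G).factorization p : ℕ) : ℂ) • regPart p θ) := by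
  convert (S0961.result p (irrOne G)).mul hθ using 1
  ext x
  simp only [Pi.mul_apply, Pi.smul_apply, regPart, irrOne_coe]
  split_ifs <;> simp

omit hp in
theorem isGen_lift (f : G →* H) {Φ : H → ℂ} (hΦ : IsGeneralizedCharacter H Φ)
    (h0 : ∀ h, p ∣ orderOf h → Φ h = 0) :
    IsGeneralizedCharacter G ((Nat.card f.ker : ℂ) • regPart p fun g => Φ (f g)) := by
  classical
  have := Fintype.ofFinite G
  have := Fintype.ofFinite H
  obtain ⟨M, hM⟩ := exists_isPModular p Fact.out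
  have : PMod p M := ⟨hM⟩
  have hc := (isClassFunction_regPart (p := p) (hΦ.isClassFunction.comp f)).smul (Nat.card f.ker : ℂ)
  refine hc.isGen_of_classInner fun χ hχ => ?_
  obtain ⟨n, hn⟩ := ((isGen_regPart (p := p) (hΦ.comp f)).natCast_smul (Nat.card f.ker)).classInner_int
    hχ.isGen
  rw [smul_comm, classInner_smul_left] at hn
  have hp0 : (p : ℂ) ^ (Nat.card G).factorization p ≠ 0 :=
    pow_ne_zero _ (by exact_mod_cast (Fact.out : p.Prime).ne_zero)
  have h1 : classInner ((Nat.card f.ker : ℂ) • regPart p fun g => Φ (f g)) χ ∈ LR M := by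
    rw [classInner_def]
    refine inv_card_sum_mem_LR (hc.mul hχ.isClassFunction.conj) fun g => ?_
    by_cases hg : p ∣ orderOf g
    · simp [regPart_of_dvd _ hg]
    obtain ⟨D, hD⟩ := exists_isSylowOf p (centralizer ({g} : Set G))
    have hQ : D.map f ≤ centralizer {f g} := by
      rintro _ ⟨x, hx, rfl⟩
      rw [mem_centralizer_singleton_iff, ← map_mul, mem_centralizer_singleton_iff.mp (hD.le hx),
        map_mul]
    have h2 := lemV (M := M) hΦ.isClassFunction (fun ψ => by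
      obtain ⟨m, hm⟩ := hΦ.classInner_int ψ.2.isGen
      rw [hm]; exact intCast_mem _ _) hQ fun u hu hu1 => h0 _ (dvd_orderOf_mul (hD.isP.map f)
        (fun h => hg (h.trans (orderOf_map_dvd f g))) hQ hu hu1)
    have h3 : ((Nat.card f.ker * Nat.card (D.map f) : ℕ) : ℂ) /
        Nat.card (centralizer ({g} : Set G)) ∈ LR M := by
      rw [div_mem_LR_iff (mul_ne_zero Nat.card_pos.ne' Nat.card_pos.ne') Nat.card_pos.ne',
        ← (Fact.out : p.Prime).pow_dvd_iff_le_factorization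
          (mul_ne_zero Nat.card_pos.ne' Nat.card_pos.ne'), ← hD.card_eq,
        ← card_map_mul_card_ker_inf f D, mul_comm]
      exact mul_dvd_mul_right (card_dvd_of_le inf_le_left) _
    convert mul_mem (mul_mem h3 h2) (conj_irr_mem_LR ⟨χ, hχ⟩ g) using 1
    have := card_ne_zero (D.map f)
    simp only [Pi.mul_apply, Pi.smul_apply, regPart_of_not_dvd _ hg, smul_eq_mul]
    push_cast
    field_simp
  push_cast at hn
  rw [eq_div_of_mul_eq hp0 (mul_comm _ _ |>.trans hn)] at h1 ⊢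
  obtain ⟨m, hm⟩ := dvd_of_div_pow_mem_LR h1
  exact ⟨m, by rw [hm]; push_cast; field_simp⟩

theorem exists_reg_eq_sum {f : G →* H} (hf : Function.Surjective f) (hk : IsPGroup p f.ker)
    (hC : ∀ x, ¬ p ∣ orderOf x → x ∈ centralizer (f.ker : Set G)) {θ : IrrCharacter H}
    {χ : IrrCharacter G} (hχ : SameBlock M (χ : G → ℂ) (infl f hf θ)) :
    ∃ c : IrrCharacter H → ℂ, (∀ η : IrrCharacter H, ¬ SameBlock M (θ : H → ℂ) η → c η = 0) ∧
      ∀ y, ¬ p ∣ orderOf y → (χ : G → ℂ) y = ∑ η : IrrCharacter H, c η * (η : H → ℂ) (f y) := by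
  classical
  have := Fintype.ofFinite G
  have hZ := push_mem_ZA f hf (aR_mem_ZR (M := M) χ.2.isCharacter).2
  refine ⟨fun η => conj ((Nat.card H : ℂ)⁻¹ * (om η (push f (aR p (χ : G → ℂ))) * (η : H → ℂ) 1)),
    fun η h => ?_, fun y hy => ?_⟩
  · beta_reduce
    rw [← om_infl f hf, om_aR_eq_zero (M := M) fun h' => h
      (sameBlock_of_infl_pgroup hf hk hC (sameBlock_trans (sameBlock_symm hχ) h'))]
    simp
  have h3 := cen_coeff_eq_sum hZ (f y)
  rw [coeff_push_eq_sum, Finset.sum_eq_single y, if_pos rfl, aR, coeff_ofFn,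
    regPart_of_not_dvd _ hy] at h3
  · apply star_injective
    change conj _ = conj _
    rw [h3, map_sum, Finset.mul_sum]
    exact Finset.sum_congr rfl fun η _ => by rw [map_mul, Complex.conj_conj, aR]; ring
  · intro x _ hx
    split_ifs with h
    · rw [aR, coeff_ofFn, regPart_of_dvd, map_zero]
      by_contra hc
      exact hx (eq_of_reg_of_map_eq hk (hC x hc) hc hy h)
    · rfl
  · simp

theorem classInner_regPart_of_blk [Fintype G] {B : Set (IrrCharacter G)} (hB : IsPBlock M B)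
    {θ : G → ℂ} (hθ : IsClassFunction G θ)
    (h : ∀ ξ : IrrCharacter G, ξ ∉ B → classInner θ ξ = 0) {ξ : IrrCharacter G} (hξ : ξ ∉ B) :
    classInner (regPart p θ) ξ = 0 := by
  have h1 : regPart p θ = ∑ χ : IrrCharacter G, classInner θ χ • regPart p (χ : G → ℂ) := by
    ext g
    rw [Finset.sum_apply]
    by_cases hg : p ∣ orderOf g
    · simp [regPart_of_dvd _ hg]
    · simp only [Pi.smul_apply, regPart_of_not_dvd _ hg, smul_eq_mul]
      exact hθ.apply_eq_sum_irr g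
  rw [h1, classInner_sum_left]
  refine Finset.sum_eq_zero fun χ _ => ?_
  rw [classInner_smul_left]
  by_cases hχ : χ ∈ B
  · rw [classInner_regPart_eq_zero (M := M) fun h' => hξ (blk_mem hB hχ h'), mul_zero]
  · rw [h χ hχ, zero_mul]

end

theorem irr_center_two {t : G} (ht : orderOf t = 2) (hz : t ∈ center G) (ξ : IrrCharacter G) :
    (∀ g, (ξ : G → ℂ) (t * g) = (ξ : G → ℂ) g) ∨ ∀ g, (ξ : G → ℂ) (t * g) = -(ξ : G → ℂ) g := by
  have h := div_pow_of_center ξ hz 2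
  rw [← ht, pow_orderOf_eq_one, div_self ξ.2.one_ne_zero, ht, sq_eq_one_iff] at h
  exact h.imp (fun h g => by rw [apply_mul_of_center ξ hz, h, one_mul])
    fun h g => by rw [apply_mul_of_center ξ hz, h, neg_one_mul]

theorem classInner_eq_zero_of_sign [Fintype G] {t : G} {a b : G → ℂ} (ha : ∀ g, a (t * g) = a g)
    (hb : ∀ g, b (t * g) = -b g) : classInner a b = 0 := by
  have h := classInner_comp_equiv (Equiv.mulLeft t) a b
  simp only [Equiv.coe_mulLeft, ha, hb] at h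
  have h1 : classInner a (-b) = classInner a b := h
  rw [classInner_neg_right] at h1
  linear_combination (-1 / 2) * h1

theorem two_dvd_mul {t g : G} (ht : orderOf t = 2) (hc : Commute t g) (hg : ¬ 2 ∣ orderOf g) :
    2 ∣ orderOf (t * g) :=
  dvd_of_ppart_ne_one Nat.prime_two (ppart_mk hc ⟨1, by simpa using ht⟩ hg) (Inv.ne_one_of_ord2 ht)

theorem triangle {ι : Type*} [Fintype ι] [DecidableEq ι] {m₁ m₂ m₃ : ι → ℤ}
    (h1 : ∑ i, m₁ i ^ 2 = 2) (h2 : ∑ i, m₂ i ^ 2 = 2) (h3 : ∑ i, m₃ i ^ 2 = 2)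
    (h12 : ∑ i, m₁ i * m₂ i = 1) (h13 : ∑ i, m₁ i * m₃ i = 1) (h23 : ∑ i, m₂ i * m₃ i = 1)
    (h : ∀ i, (m₁ i = 1 ∨ m₁ i = -1) → m₂ i = 0 → m₃ i ≠ 0) :
    ∃ a b c, a ≠ b ∧ a ≠ c ∧ b ≠ c ∧ (m₁ a = 1 ∨ m₁ a = -1) ∧ (m₁ b = 1 ∨ m₁ b = -1) ∧
      (m₂ c = 1 ∨ m₂ c = -1) ∧ m₂ a = m₁ a ∧ m₃ a = 0 ∧ m₂ b = 0 ∧ m₃ b = m₁ b ∧ m₁ c = 0 ∧
      m₃ c = m₂ c ∧ ∀ k, k ≠ a → k ≠ b → k ≠ c → m₁ k = 0 ∧ m₂ k = 0 ∧ m₃ k = 0 := by
  have key : ∀ {m n : ι → ℤ} {a b : ι}, a ≠ b → (∀ k, k ≠ a → k ≠ b → m k = 0) →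
      ∑ i, m i * n i = m a * n a + m b * n b := fun hab hm =>
    Finset.sum_eq_add_of_mem _ _ (Finset.mem_univ _) (Finset.mem_univ _) hab fun k _ hk => by
      rw [hm k hk.1 hk.2, zero_mul]
  have key2 : ∀ {m : ι → ℤ}, ∑ i, m i ^ 2 = 2 → ∀ a, m a ≠ 0 → ∃ c, a ≠ c ∧ (m c = 1 ∨ m c = -1) ∧
      ∀ k, k ≠ a → k ≠ c → m k = 0 := fun {m} hm a ha => by
    obtain ⟨i, j, hij, e1, e2, e3⟩ := int_sum_sq_eq_two m hm
    by_cases hi : a = i
    · exact ⟨j, hi ▸ hij, e2, hi ▸ e3⟩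
    · obtain rfl : a = j := by by_contra hj; exact ha (e3 a hi hj)
      exact ⟨i, hi, e1, fun k e4 e5 => e3 k e5 e4⟩
  have key3 : ∀ {m : ι → ℤ}, ∑ i, m i ^ 2 = 2 → ∀ a, m a = 0 ∨ m a = 1 ∨ m a = -1 :=
    fun {m} hm a => by
      obtain ⟨i, j, hij, e1, e2, e3⟩ := int_sum_sq_eq_two m hm
      by_cases hi : a = i
      · exact .inr (hi ▸ e1)
      by_cases hj : a = j
      · exact .inr (hj ▸ e2)
      · exact .inl (e3 a hi hj)
  obtain ⟨a, b, hab, ha, hb, h0, e1, e2⟩ : ∃ a b, a ≠ b ∧ (m₁ a = 1 ∨ m₁ a = -1) ∧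
      (m₁ b = 1 ∨ m₁ b = -1) ∧ (∀ k, k ≠ a → k ≠ b → m₁ k = 0) ∧ m₂ a = m₁ a ∧ m₂ b = 0 := by
    obtain ⟨a, b, hab, ha, hb, h0⟩ := int_sum_sq_eq_two m₁ h1
    rw [key hab h0] at h12
    by_cases e : m₂ b = 0
    · refine ⟨a, b, hab, ha, hb, h0, ?_, e⟩
      rw [e] at h12
      rcases ha with ha | ha <;> rw [ha] at h12 ⊢ <;> omega
    · refine ⟨b, a, hab.symm, hb, ha, fun k e1 e2 => h0 k e2 e1, ?_⟩
      have := key3 h2 a
      have := key3 h2 b
      rcases ha with ha | ha <;> rcases hb with hb | hb <;> rw [ha, hb] at h12 <;> omega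
  rw [key hab h0] at h13
  have e3 := h b hb e2
  obtain ⟨e4, e5⟩ : m₃ a = 0 ∧ m₃ b = m₁ b := by
    have := key3 h3 a
    have := key3 h3 b
    rcases ha with ha | ha <;> rcases hb with hb | hb <;> rw [ha, hb] at h13 <;> omega
  obtain ⟨c, hac, hc, h0'⟩ := key2 h2 a (by omega)
  have hbc : b ≠ c := by rintro rfl; omega
  rw [key hac h0', e4] at h23
  have e6 : m₃ c = m₂ c := by rcases hc with hc | hc <;> rw [hc] at h23 ⊢ <;> omega
  obtain ⟨d, hbd, hd, h0''⟩ := key2 h3 b e3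
  obtain rfl : c = d := by
    by_contra e
    have := h0'' c hbc.symm e
    omega
  exact ⟨a, b, c, hab, hac, hbc, ha, hb, hc, e1, e4, e2, e5, h0 c hac.symm hbc.symm, e6,
    fun k e7 e8 e9 => ⟨h0 k e7 e8, h0' k e7 e9, h0'' k e8 e9⟩⟩

variable {M : Ideal AlgInt} [hp : PMod 2 M]

/-- The shape of the principal block. -/
structure QBlk (M : Ideal AlgInt) (t : G) (ξ : Fin 7 → IrrCharacter G) (s : Fin 7 → ℤ) : Prop where
  inj : Function.Injective ξ
  sgn : ∀ i, s i = 1 ∨ s i = -1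
  zero : ξ 0 = irrOne G
  s0 : s 0 = 1
  mem : ∀ χ, χ ∈ principalBlock M G ↔ ∃ i, χ = ξ i
  pos : ∀ i, i < 4 → (ξ i : G → ℂ) t = (ξ i : G → ℂ) 1
  neg : ∀ i, 4 ≤ i → (ξ i : G → ℂ) t = -(ξ i : G → ℂ) 1
  r3 : ∀ w, ¬ 2 ∣ orderOf w →
    s 3 * (ξ 3 : G → ℂ) w = 1 + s 1 * (ξ 1 : G → ℂ) w + s 2 * (ξ 2 : G → ℂ) w
  r4 : ∀ w, ¬ 2 ∣ orderOf w → s 4 * (ξ 4 : G → ℂ) w = 1 + s 1 * (ξ 1 : G → ℂ) w
  r5 : ∀ w, ¬ 2 ∣ orderOf w → s 5 * (ξ 5 : G → ℂ) w = 1 + s 2 * (ξ 2 : G → ℂ) w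
  r6 : ∀ w, ¬ 2 ∣ orderOf w →
    s 6 * (ξ 6 : G → ℂ) w = s 1 * (ξ 1 : G → ℂ) w + s 2 * (ξ 2 : G → ℂ) w

theorem classInner_lift [Fintype G] [Fintype H] {t : G} (ht : orderOf t = 2) (hz : t ∈ center G)
    {f : G →* H} (hf : Function.Surjective f) (hk : f.ker = zpowers t) {Φ d : H → ℂ}
    (h0 : ∀ h, 2 ∣ orderOf h → Φ h = 0) {η : G → ℂ} (hη : ∀ g, η (t * g) = -η g)
    (hd : ∀ w, ¬ 2 ∣ orderOf w → η w = d (f w)) :
    classInner η (((2 : ℂ) • regPart 2 fun g => Φ (f g)) - fun g => Φ (f g)) = classInner d Φ := by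
  rw [← classInner_comp_of_surjective f hf, classInner_def, classInner_def]
  congr 1
  refine Finset.sum_congr rfl fun g _ => ?_
  simp only [Pi.sub_apply, Pi.smul_apply, smul_eq_mul]
  by_cases hg : 2 ∣ orderOf g
  · rw [regPart_of_dvd _ hg]
    by_cases hg' : 2 ∣ orderOf (f g)
    · simp [h0 _ hg']
    obtain ⟨w, h1, h2⟩ := exists_reg_preimage hf hg'
    have h3 : g * w⁻¹ ∈ zpowers t := by rw [← hk, MonoidHom.mem_ker, map_mul, map_inv, h1]; simp
    rcases (Inv.mem_zpowers_ord2 (Inv.sq_of_ord2 ht)).mp h3 with h4 | h4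
    · exact absurd (mul_inv_eq_one.mp h4 ▸ hg) h2
    · rw [← h1, ← hd w h2, mul_inv_eq_iff_eq_mul.mp h4, hη]; simp
  · rw [regPart_of_not_dvd _ hg, hd g hg]; congr 2; ring

theorem exists_qBlk {t : G} (ht : orderOf t = 2) (hz : t ∈ center G)
    (hc : ∃ a b : G, a * b * a⁻¹ * b⁻¹ = t) {f : G →* H} (hf : Function.Surjective f)
    (hk : f.ker = zpowers t) {ζ₂ ζ₃ ζ₄ : IrrCharacter H} {ε : ℤ} (K : KleinBlk M ζ₂ ζ₃ ζ₄ ε) :
    ∃ ξ s, QBlk M t ξ s := by
  classical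
  have := Fintype.ofFinite G
  have := Fintype.ofFinite H
  have hft : f t = 1 := by rw [← MonoidHom.mem_ker, hk]; exact mem_zpowers t
  have hk2 : IsPGroup 2 f.ker := by
    rw [hk]; exact IsPGroup.of_card (n := 1) (by rw [Nat.card_zpowers, ht]; rfl)
  have hC : ∀ x, ¬ 2 ∣ orderOf x → x ∈ centralizer (f.ker : Set G) := fun x _ => by
    rw [hk, centralizer_zpowers, mem_centralizer_singleton_iff]
    exact mem_center_iff.mp hz x
  have hin : ∀ χ, infl f hf χ ∈ principalBlock M G ↔ χ ∈ principalBlock M H := fun χ =>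
    ⟨fun h => sameBlock_of_infl_pgroup hf hk2 hC (χ := irrOne H) h,
      fun h => sameBlock_infl f hf (χ := irrOne H) h⟩
  have hε : (ε : ℂ) * ε = 1 := by rcases K.eps with h | h <;> simp [h]
  let φ : Fin 3 → H → ℂ := ![irrOne H, ζ₂, (ε : ℂ) • (ζ₃ : H → ℂ)]
  let Φ : Fin 3 → H → ℂ := fun j => φ j + ζ₄
  have hφ : ∀ j, IsGeneralizedCharacter H (φ j) := fun j => by
    fin_cases j
    exacts [(irrOne H).2.isGen, ζ₂.2.isGen, ζ₃.2.isGen.intCast_smul ε]
  have hΦ : ∀ j, IsGeneralizedCharacter H (Φ j) := fun j => (hφ j).add ζ₄.2.isGen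
  have h0 : ∀ j h, 2 ∣ orderOf h → Φ j h = 0 := fun j h hh => by
    obtain ⟨e1, e2, e3⟩ := K.val h hh
    fin_cases j <;> simp [Φ, φ, e1, e2, e3, hε]
  have h1 : ∀ i j, classInner (φ i) (Φ j) = if i = j then 1 else 0 := fun i j => by
    have := K.n12; have := K.n13; have := K.n14; have := K.n23; have := K.n24; have := K.n34
    have := K.n12.symm; have := K.n13.symm; have := K.n23.symm
    fin_cases i <;> fin_cases j <;>
      simp [Φ, φ, classInner_add_right, classInner_smul_left, classInner_smul_right,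
        irr_classInner, -irrOne_coe, *]
  have h1' : ∀ j, classInner (ζ₄ : H → ℂ) (Φ j) = 1 := fun j => by
    have := K.n14.symm; have := K.n24.symm; have := K.n34.symm
    fin_cases j <;> simp [Φ, φ, classInner_add_right, classInner_smul_right,
        irr_classInner, -irrOne_coe, *]
  let Ψ : Fin 3 → G → ℂ := fun j => ((2 : ℂ) • regPart 2 fun g => Φ j (f g)) - fun g => Φ j (f g)
  have hΨ : ∀ j, IsGeneralizedCharacter G (Ψ j) := fun j => by
    have := isGen_lift (p := 2) f (hΦ j) (h0 j)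
    rw [hk, Nat.card_zpowers, ht, Nat.cast_ofNat] at this
    exact this.sub ((hΦ j).comp f)
  have h2 : ∀ j w, ¬ 2 ∣ orderOf w → Ψ j w = Φ j (f w) := fun j w hw => by
    simp only [Ψ, Pi.sub_apply, Pi.smul_apply, regPart_of_not_dvd _ hw, smul_eq_mul]; ring
  have h2' : ∀ j w, 2 ∣ orderOf w → Ψ j w = -Φ j (f w) := fun j w hw => by
    simp [Ψ, regPart_of_dvd _ hw]
  have h3 : ∀ j g, Ψ j (t * g) = -Ψ j g := fun j g => by
    have hc : ∀ g, Commute t g := fun g => (mem_center_iff.mp hz g).symm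
    by_cases hg : 2 ∣ orderOf g
    · by_cases hg' : 2 ∣ orderOf (t * g)
      · rw [h2' j _ hg, h2' j _ hg', map_mul, hft, one_mul, h0 j, neg_zero, neg_zero]
        by_contra h
        obtain ⟨w, e1, e2⟩ := exists_reg_preimage hf h
        have h3 : g * w⁻¹ ∈ zpowers t := by rw [← hk, MonoidHom.mem_ker, map_mul, map_inv, e1]; simp
        rcases (Inv.mem_zpowers_ord2 (Inv.sq_of_ord2 ht)).mp h3 with h4 | h4
        · exact e2 (mul_inv_eq_one.mp h4 ▸ hg)
        · rw [mul_inv_eq_iff_eq_mul.mp h4, Inv.mul_mul_of_ord2 ht] at hg'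
          exact e2 hg'
      · rw [h2' j _ hg, h2 j _ hg', map_mul, hft, one_mul, neg_neg]
    · rw [h2 j _ hg, h2' j _ (two_dvd_mul ht (hc g) hg), map_mul, hft, one_mul]
  choose m hm hm' using fun j => (hΨ j).exists_mult
  have h4 : ∀ i j, ∑ χ, m i χ * m j χ = if i = j then 2 else 1 := fun i j => by
    have e := classInner_lift ht hz hf hk (h0 j) (h3 i) (h2 i)
    change classInner (Ψ i) (Ψ j) = _ at e
    rw [(hΨ i).isClassFunction.classInner_eq_sum_irr, classInner_add_left, h1, h1'] at e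
    simp only [hm, map_intCast] at e
    apply Int.cast_injective (α := ℂ)
    push_cast
    rw [e]
    split_ifs <;> norm_num
  have h5 : ∀ j (χ : IrrCharacter G), m j χ ≠ 0 → χ ∈ principalBlock M G ∧
      ∀ g, (χ : G → ℂ) (t * g) = -(χ : G → ℂ) g := fun j χ h => by
    have h' : classInner (Ψ j) χ ≠ 0 := by rw [hm]; exact_mod_cast h
    refine ⟨by_contra fun hχ => h' ?_, (irr_center_two ht hz χ).resolve_left fun e =>
      h' (classInner_eq_zero_comm.mp (classInner_eq_zero_of_sign e (h3 j)))⟩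
    have e : ∀ ξ : IrrCharacter G, ξ ∉ principalBlock M G →
        classInner (fun g => Φ j (f g)) ξ = 0 := fun ξ hξ => by
      rcases irr_center_two ht hz ξ with e | e
      · obtain ⟨ψ, rfl⟩ := exists_infl f hf (ψ := ξ) fun n hn => by
          rcases (Inv.mem_zpowers_ord2 (Inv.sq_of_ord2 ht)).mp (hk ▸ hn) with rfl | rfl
          exacts [rfl, by simpa using e 1]
        rw [hin, K.mem] at hξ
        push Not at hξ
        refine (classInner_comp_of_surjective f hf _ _).trans ?_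
        have := hξ.1.symm; have := hξ.2.1.symm; have := hξ.2.2.1.symm; have := hξ.2.2.2.symm
        fin_cases j <;> simp [Φ, φ, classInner_add_left, classInner_smul_left,
          irr_classInner, -irrOne_coe, *]
      · exact classInner_eq_zero_of_sign (fun g => by rw [map_mul, hft, one_mul]) e
    rw [classInner_sub_left, classInner_smul_left, e χ hχ, classInner_regPart_of_blk
      isPBlock_principal ((hΦ j).comp f).isClassFunction e hχ]
    simp
  have h6 : ∀ χ ∈ principalBlock M G, (∀ g, (χ : G → ℂ) (t * g) = -(χ : G → ℂ) g) →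
      ∀ w, ¬ 2 ∣ orderOf w → (χ : G → ℂ) w =
        m 0 χ + m 1 χ * (ζ₂ : H → ℂ) (f w) + m 2 χ * (ε * (ζ₃ : H → ℂ) (f w)) := by
    intro χ hχ e
    obtain ⟨c, e1, e2⟩ := exists_reg_eq_sum hf hk2 hC (θ := irrOne H) (sameBlock_symm hχ)
    let n : Fin 3 → ℂ := ![c (irrOne H) + c ζ₄, c ζ₂ + c ζ₄, ε * c ζ₃ + c ζ₄]
    have e3 : ∀ w, ¬ 2 ∣ orderOf w → (χ : G → ℂ) w = (∑ i, n i • φ i) (f w) := fun w hw => by
      have e4 := K.rel (f w) fun h => hw (h.trans (orderOf_map_dvd f w))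
      have := K.n12; have := K.n13; have := K.n14; have := K.n23; have := K.n24; have := K.n34
      rw [e2 w hw, ← Finset.sum_subset (Finset.subset_univ {irrOne H, ζ₂, ζ₃, ζ₄})
        fun η _ h => by rw [e1 η fun h' => h (by simpa using (K.mem η).mp h'), zero_mul],
        Finset.sum_insert (by simp [*]), Finset.sum_insert (by simp [*]), Finset.sum_pair K.n34]
      simp [n, φ, Fin.sum_univ_three]
      linear_combination (-c ζ₄) * e4 - c ζ₃ * (ζ₃ : H → ℂ) (f w) * hε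
    have e4 : ∀ j, n j = m j χ := fun j => by
      rw [← hm, (hΨ j).classInner_comm χ.2.isGen, classInner_lift ht hz hf hk (h0 j) e e3,
        classInner_sum_left]
      simp [classInner_smul_left, h1]
    intro w hw
    rw [e3 w hw]
    simp [e4, φ, Fin.sum_univ_three]
  have h7 : ∀ (χ : IrrCharacter G) (n : ℤ), (n = 1 ∨ n = -1) → (χ : G → ℂ) 1 = n →
      (χ : G → ℂ) t = (χ : G → ℂ) 1 := fun χ n hn e => by
    obtain ⟨k, hk, e1⟩ := χ.2.exists_nat
    have e2 : (k : ℤ) = n := by exact_mod_cast e1.symm.trans e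
    obtain ⟨a, b, rfl⟩ := hc
    have e3 : (χ : G → ℂ) 1 = 1 := by rw [e, show n = 1 by omega]; simp
    rw [χ.2.isCharacter.commutator_eq_of_one e3, e3]
  have h8 : ∀ χ : IrrCharacter G, (∀ g, (χ : G → ℂ) (t * g) = -(χ : G → ℂ) g) →
      (χ : G → ℂ) t ≠ (χ : G → ℂ) 1 := fun χ e h => χ.2.one_ne_zero (by
    have := e 1
    rw [mul_one] at this
    linear_combination (1 / 2) * (this - h))
  obtain ⟨a, b, c, hab, hac, hbc, sa, sb, sc, a1, a2, b1, b2, c1, c2, h9⟩ := triangle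
    (m₁ := m 0) (m₂ := m 1) (m₃ := m 2) (by simpa [sq] using h4 0 0) (by simpa [sq] using h4 1 1)
    (by simpa [sq] using h4 2 2) (h4 0 1) (h4 0 2) (h4 1 2) fun χ e1 e2 e3 => by
      obtain ⟨e4, e5⟩ := h5 0 χ (by omega)
      exact h8 χ e5 (h7 χ _ e1 (by simpa [e2, e3] using h6 χ e4 e5 1 (by simp)))
  obtain ⟨a3, a4⟩ := h5 0 a (by omega)
  obtain ⟨b3, b4⟩ := h5 0 b (by omega)
  obtain ⟨c3, c4⟩ := h5 1 c (by omega)
  have h10 : ∀ (χ : IrrCharacter G) ψ, (∀ g, (χ : G → ℂ) (t * g) = -(χ : G → ℂ) g) →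
      infl f hf ψ ≠ χ := fun χ ψ e h => h8 χ e (by rw [← h, infl_apply, infl_apply, hft, map_one])
  have h11 : ∀ n : ℤ, n = 1 ∨ n = -1 → (n : ℂ) * n = 1 := by rintro _ (rfl | rfl) <;> simp
  refine ⟨![infl f hf (irrOne H), infl f hf ζ₂, infl f hf ζ₃, infl f hf ζ₄, a, b, c],
    ![1, 1, ε, 1, m 0 a, m 0 b, m 1 c], ?_, ?_, rfl, rfl, fun χ => ⟨fun hχ => ?_, ?_⟩, ?_, ?_,
    fun w hw => ?_, fun w hw => ?_, fun w hw => ?_, fun w hw => ?_⟩
  · rw [← List.nodup_ofFn]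
    simp [(infl_injective f hf).eq_iff, K.n12, K.n13, K.n14, K.n23, K.n24, K.n34, h10 a _ a4,
      h10 b _ b4, h10 c _ c4, hab, hac, hbc]
  · intro i
    fin_cases i <;> simp [K.eps, sa, sb, sc]
  · rcases irr_center_two ht hz χ with e | e
    · obtain ⟨ψ, rfl⟩ := exists_infl f hf (ψ := χ) fun n hn => by
        rcases (Inv.mem_zpowers_ord2 (Inv.sq_of_ord2 ht)).mp (hk ▸ hn) with rfl | rfl
        exacts [rfl, by simpa using e 1]
      rcases (K.mem ψ).mp ((hin ψ).mp hχ) with rfl | rfl | rfl | rfl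
      exacts [⟨0, rfl⟩, ⟨1, rfl⟩, ⟨2, rfl⟩, ⟨3, rfl⟩]
    · by_contra h
      obtain ⟨e1, e2, e3⟩ := h9 χ (fun h' => h ⟨4, h'⟩) (fun h' => h ⟨5, h'⟩) fun h' => h ⟨6, h'⟩
      exact χ.2.one_ne_zero (by simpa [e1, e2, e3] using h6 χ hχ e 1 (by simp))
  · rintro ⟨i, rfl⟩
    fin_cases i <;> simp [hin, K.mem, a3, b3, c3]
  · intro i hi
    fin_cases i <;> simp [infl_apply, hft] at hi ⊢
  · intro i hi
    fin_cases i <;> simp [← a4, ← b4, ← c4] at hi ⊢
  · simpa [infl_apply] using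
      (sub_eq_zero.mp (K.rel (f w) fun h => hw (h.trans (orderOf_map_dvd f w)))).symm
  · simp [infl_apply, h6 a a3 a4 w hw, a1, a2]
    linear_combination (1 + (ζ₂ : H → ℂ) (f w)) * h11 _ sa
  · simp [infl_apply, h6 b b3 b4 w hw, b1, b2]
    linear_combination (1 + ε * (ζ₃ : H → ℂ) (f w)) * h11 _ sb
  · simp [infl_apply, h6 c c3 c4 w hw, c1, c2]
    linear_combination ((ζ₂ : H → ℂ) (f w) + ε * (ζ₃ : H → ℂ) (f w)) * h11 _ sc

end Cfsg.Agent.Blk
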