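import Cfsg.Agent.Blk.BS1
import Cfsg.Agent.Inv.Isolated
import Cfsg.Agent.Core.Quaternion

/-! The Brauer-Suzuki theorem. -/

set_option autoImplicit false
set_option linter.unusedSectionVars false

namespace Cfsg.Agent.Blk

open Cfsg Cfsg.Agent.Char Cfsg.Agent.PLoc MonoidAlgebra Subgroup
open scoped ComplexConjugate

variable {G : Type*} [Group G] [Finite G]

theorem sum_three {ι R : Type*} [Fintype ι] [AddCommMonoid R] {F : ι → R} {o a c : ι} (h1 : a ≠ o)
    (h2 : c ≠ o) (h3 : a ≠ c) (h : ∀ k, k ≠ o → k ≠ a → k ≠ c → F k = 0) :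
    ∑ k, F k = F o + F a + F c := by
  classical
  rw [← Finset.sum_subset (Finset.subset_univ {o, a, c}) fun k _ hk => by
    simp only [Finset.mem_insert, Finset.mem_singleton, not_or] at hk
    exact h k hk.1 hk.2.1 hk.2.2, Finset.sum_insert (by simp [h1.symm, h2.symm]),
    Finset.sum_pair h3, add_assoc]

theorem exists_three {ι : Type*} [Fintype ι] {m : ι → ℤ} {o : ι} (h1 : m o = 1)
    (h : ∑ i, m i * m i = 3) : ∃ a c, a ≠ o ∧ c ≠ o ∧ a ≠ c ∧ (m a = 1 ∨ m a = -1) ∧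
      (m c = 1 ∨ m c = -1) ∧ ∀ k, k ≠ o → k ≠ a → k ≠ c → m k = 0 := by
  classical
  obtain ⟨a, c, e1, e2, e3, e4⟩ := int_sum_sq_eq_two (Function.update m o 0) (by
    rw [← Finset.add_sum_erase _ _ (Finset.mem_univ o)] at h ⊢
    rw [Finset.sum_congr rfl fun k hk => by
      rw [Function.update_of_ne (Finset.ne_of_mem_erase hk), sq], Function.update_self]
    rw [h1] at h
    omega)
  have ha : a ≠ o := by rintro rfl; simp at e2
  have hc : c ≠ o := by rintro rfl; simp at e3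
  rw [Function.update_of_ne ha] at e2
  rw [Function.update_of_ne hc] at e3
  exact ⟨a, c, ha, hc, e1, e2, e3, fun k e5 e6 e7 => by simpa [e5] using e4 k e6 e7⟩

theorem bs_comb {ι : Type*} [Fintype ι] {m₀ m₂ m₃ m₄ d : ι → ℤ} {o : ι} (hd : ∀ i, d i ≠ 0)
    (o0 : m₀ o = 1) (o2 : m₂ o = 1) (o3 : m₃ o = 1) (o4 : m₄ o = 1) (h00 : ∑ i, m₀ i * m₀ i = 4)
    (h22 : ∑ i, m₂ i * m₂ i = 3) (h33 : ∑ i, m₃ i * m₃ i = 3) (h44 : ∑ i, m₄ i * m₄ i = 3)
    (h02 : ∑ i, m₂ i * m₀ i = 2) (h03 : ∑ i, m₃ i * m₀ i = 2) (h04 : ∑ i, m₄ i * m₀ i = 2)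
    (h23 : ∑ i, m₂ i * m₃ i = 1) (h24 : ∑ i, m₂ i * m₄ i = 1) (d2 : ∑ i, m₂ i * d i = 0)
    (d3 : ∑ i, m₃ i * d i = 0) (d4 : ∑ i, m₄ i * d i = 0) :
    ∃ a c, a ≠ o ∧ c ≠ o ∧ a ≠ c ∧ (m₂ a = 1 ∨ m₂ a = -1) ∧ (m₂ c = 1 ∨ m₂ c = -1) ∧
      (∀ k, k ≠ o → k ≠ a → k ≠ c → m₂ k = 0) ∧ m₀ a = m₂ a ∧ m₀ c = 0 ∧ m₃ a = 0 ∧ m₃ c = 0 ∧
      m₄ a = 0 ∧ m₄ c = 0 := by
  classical
  have h0 : ∀ k, k ≠ o → -1 ≤ m₀ k ∧ m₀ k ≤ 1 := fun k hk => by
    have := Finset.sum_le_sum_of_subset_of_nonneg (f := fun i => m₀ i * m₀ i)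
      (Finset.subset_univ {k, o}) fun i _ _ => mul_self_nonneg _
    rw [Finset.sum_pair hk, h00, o0] at this
    constructor <;> nlinarith
  obtain ⟨a, c, ha, hc, hac, sa, sc, h1, e1, e2⟩ : ∃ a c, a ≠ o ∧ c ≠ o ∧ a ≠ c ∧
      (m₂ a = 1 ∨ m₂ a = -1) ∧ (m₂ c = 1 ∨ m₂ c = -1) ∧
      (∀ k, k ≠ o → k ≠ a → k ≠ c → m₂ k = 0) ∧ m₀ a = m₂ a ∧ m₀ c = 0 := by
    obtain ⟨a, c, ha, hc, hac, sa, sc, h1⟩ := exists_three o2 h22
    rw [sum_three ha hc hac fun k e1 e2 e3 => by rw [h1 k e1 e2 e3, zero_mul], o0, o2] at h02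
    have := h0 a ha
    have := h0 c hc
    by_cases e : m₀ c = 0
    · refine ⟨a, c, ha, hc, hac, sa, sc, h1, ?_, e⟩
      rw [e] at h02
      rcases sa with sa | sa <;> rw [sa] at h02 ⊢ <;> omega
    · refine ⟨c, a, hc, ha, hac.symm, sc, sa, fun k e1 e2 e3 => h1 k e1 e3 e2, ?_⟩
      rcases sa with sa | sa <;> rcases sc with sc | sc <;> rw [sa, sc] at h02 <;> omega
  have key : ∀ m : ι → ℤ, m o = 1 → ∑ i, m i * m i = 3 → ∑ i, m i * m₀ i = 2 →
      ∑ i, m₂ i * m i = 1 → ∑ i, m i * d i = 0 → m a = 0 ∧ m c = 0 := by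
    intro m o3 h33 h03 h23 d3
    rw [sum_three ha hc hac fun k e1 e2 e3 => by rw [h1 k e1 e2 e3, zero_mul], o2] at h23 d2
    rw [o3] at h23
    by_contra hn
    obtain ⟨e3, e4⟩ : m a ≠ 0 ∧ m c ≠ 0 := by
      rcases sa with sa | sa <;> rcases sc with sc | sc <;> rw [sa, sc] at h23 <;> omega
    obtain ⟨a', c', ha', hc', hac', -, -, h2⟩ := exists_three o3 h33
    have h3 : ∀ k, k ≠ o → k ≠ a → k ≠ c → m k = 0 := fun k e5 e6 e7 => h2 k e5
      (by rintro rfl; exact e3 (h2 a ha e6.symm fun h => e4 (h2 c hc e7.symm (h ▸ hac.symm))))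
      (by rintro rfl; exact e3 (h2 a ha (fun h => e4 (h2 c hc (h ▸ hac.symm) e7.symm)) e6.symm))
    rw [sum_three ha hc hac fun k e1 e2 e3 => by rw [h3 k e1 e2 e3, zero_mul], o3] at h03 d3
    rw [o0, e1, e2] at h03
    have := hd c
    obtain ⟨e5, e6⟩ : m a = m₂ a ∧ m c = -m₂ c := by
      rcases sa with sa | sa <;> rcases sc with sc | sc <;> rw [sa, sc] at h23 <;>
        rw [sa] at h03 <;> omega
    rw [e5, e6] at d3
    rcases sc with sc | sc <;> rw [sc] at d2 d3 <;> omega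
  exact ⟨a, c, ha, hc, hac, sa, sc, h1, e1, e2, (key m₃ o3 h33 h03 h23 d3).1,
    (key m₃ o3 h33 h03 h23 d3).2, key m₄ o4 h44 h04 h24 d4⟩

theorem bs_end {t : G} (ht : IsIsolatedInvolution t) {χ ψ : IrrCharacter G} {α β : ℤ}
    (hα : α = 1 ∨ α = -1) (hβ : β = 1 ∨ β = -1)
    (h0 : ∀ g, ¬ 2 ∣ orderOf g → 1 + α * (χ : G → ℂ) g + β * (ψ : G → ℂ) g = 0)
    (h : (β * (ψ : G → ℂ) t) ^ 2 = (1 + α * (χ : G → ℂ) t) ^ 2) :
    (χ : G → ℂ) t = (χ : G → ℂ) 1 := by
  have := Fintype.ofFinite G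
  have h1 := Finset.sum_eq_zero (s := Finset.univ) fun u _ => h0 (u * t * u⁻¹ * t)
    (odd_iff_not_dvd.mp (Inv.isolated_odd_mul' ht (isConj_conj t u) (IsConj.refl t)))
  rw [Finset.sum_add_distrib, Finset.sum_add_distrib, ← Finset.mul_sum, ← Finset.mul_sum,
    sum_conj_irr, sum_conj_irr, Finset.sum_const, Finset.card_univ, ← Nat.card_eq_fintype_card,
    nsmul_eq_mul] at h1
  have h2 := h0 1 (by simp)
  have := card_ne_zero G
  have := χ.2.one_ne_zero
  have := ψ.2.one_ne_zero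
  field_simp at h1
  apply eq_of_sub_eq_zero
  apply pow_eq_zero_iff (two_ne_zero) |>.mp
  rw [mul_zero, mul_eq_zero, or_iff_right (card_ne_zero G)] at h1
  rcases hα with rfl | rfl <;> rcases hβ with rfl | rfl <;> push_cast at h h1 h2 <;> grind

/-- Commuting involutions coincide. -/
def R1 (G : Type*) [Group G] : Prop :=
  ∀ u v : G, orderOf u = 2 → orderOf v = 2 → Commute u v → u = v

theorem R1.isolated (h : R1 G) {t : G} (ht : orderOf t = 2) : IsIsolatedInvolution t :=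
  ⟨ht, fun g hc => (h _ _ ht (by rw [Inv.orderOf_conj', ht]) hc).symm⟩

theorem R1.pow_half (h : R1 G) {t x : G} (ht : orderOf t = 2) (hc : Commute x t)
    (hx : 2 ∣ orderOf x) : x ^ (orderOf x / 2) = t :=
  h _ _ (Inv.orderOf_pow_half (even_iff_two_dvd.mpr hx)) ht (hc.pow_left _)

theorem R1.subgroup (h : R1 G) (K : Subgroup G) : R1 K := fun u v hu hv hc =>
  Subtype.ext (h _ _ (by simpa using hu) (by simpa using hv) (hc.map K.subtype))

theorem R1.ti (h : R1 G) {t : G} (ht : orderOf t = 2) (g : G) (hg : g ∉ centralizer {t}) (x : G)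
    (hx : x ∈ {x : G | x ∈ centralizer {t} ∧ 2 ∣ orderOf x})
    (hx' : g * x * g⁻¹ ∈ {x : G | x ∈ centralizer {t} ∧ 2 ∣ orderOf x}) : x = 1 := by
  have h1 := h.pow_half ht (mem_centralizer_singleton_iff.mp hx'.1) hx'.2
  rw [conj_pow, Inv.orderOf_conj', h.pow_half ht (mem_centralizer_singleton_iff.mp hx.1) hx.2] at h1
  exact absurd (mem_centralizer_singleton_iff.mpr (mul_inv_eq_iff_eq_mul.mp h1)) hg

theorem indFun_eq_zero_of [Fintype G] {C : Subgroup G} {ψ : C → ℂ} {P : ℕ → Prop}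
    (h : ∀ c : C, P (orderOf c) → ψ c = 0) {g : G} (hg : P (orderOf g)) : indFun C ψ g = 0 := by
  rw [indFun_apply', Finset.sum_eq_zero, mul_zero]
  intro x _
  rw [extendByZero_apply]
  split_ifs with hx
  · exact h _ (by rwa [← orderOf_coe, Inv.orderOf_conj'])
  · rfl

variable {M : Ideal AlgInt} [hp : PMod 2 M]

theorem bs_q8 (h : R1 G) {t : G} (ht : orderOf t = 2)
    {ξ : Fin 7 → IrrCharacter (centralizer ({t} : Set G))} {s : Fin 7 → ℤ}
    (K : QBlk M ⟨t, mem_centralizer_singleton_iff.mpr rfl⟩ ξ s) :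
    ∃ χ : IrrCharacter G, χ ≠ irrOne G ∧ (χ : G → ℂ) t = (χ : G → ℂ) 1 := by
  classical
  have := Fintype.ofFinite G
  let C := centralizer ({t} : Set G)
  let ψ : (Fin 7 → ℤ) → C → ℂ := fun c => ∑ i, ((c i * s i : ℤ) : ℂ) • (ξ i : C → ℂ)
  have hs : ∀ i, (s i : ℂ) * s i = 1 := fun i => by rcases K.sgn i with h | h <;> simp [h]
  have h1 : ∀ c, IsGeneralizedCharacter C (ψ c) := fun c =>
    isGen_sum _ _ fun i _ => (ξ i).2.isGen.intCast_smul _
  have h2 : ∀ (θ : C → ℂ) c, classInner θ (ψ c) = ∑ i, c i * (s i * classInner θ (ξ i)) :=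
    fun θ c => by
      rw [classInner_sum_right]
      exact Finset.sum_congr rfl fun i _ => by
        rw [classInner_smul_right, map_intCast]; push_cast; ring
  have h3 : ∀ c i, classInner (ψ c) (ξ i) = c i * s i := fun c i => by
    rw [classInner_sum_left]
    simp [classInner_smul_left, irr_classInner, K.inj.eq_iff]
  have h4 : ∀ c c', classInner (ψ c) (ψ c') = (∑ i, c i * c' i : ℤ) := fun c c' => by
    rw [h2]
    push_cast
    exact Finset.sum_congr rfl fun i _ => by rw [h3]; linear_combination c i * c' i * hs i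
  let v : Fin 4 → Fin 7 → ℤ := ![![1, 1, 1, -1, 0, 0, 0], ![1, 1, 0, 0, -1, 0, 0],
    ![1, 0, 1, 0, 0, -1, 0], ![1, 0, 0, -1, 0, 0, 1]]
  have h5 : ∀ j (w : C), ¬ 2 ∣ orderOf w → ψ (v j) w = 0 := fun j w hw => by
    have := K.r3 w hw; have := K.r4 w hw; have := K.r5 w hw; have := K.r6 w hw
    fin_cases j <;> simp [ψ, v, Fin.sum_univ_seven, K.zero, K.s0, *] <;> ring
  have h5' : ∀ j (w : C), (w : G) ∉ {x : G | x ∈ C ∧ 2 ∣ orderOf x} → ψ (v j) w = 0 :=
    fun j w hw => h5 j w fun h => hw ⟨w.2, by rwa [orderOf_coe]⟩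
  choose m hm hm' using fun j => (h1 (v j)).indFun.exists_mult
  have h6 : ∀ i j, ∑ χ, m i χ * m j χ = ∑ k, v i k * v j k := fun i j => by
    have e := classInner_indFun_TI (H := C) (h.ti ht) (h1 (v j)).isClassFunction (h5' i) (h5' j)
      (h5 i 1 (by simp))
    rw [(isClassFunction_indFun _ _).classInner_eq_sum_irr, h4] at e
    simp only [hm, map_intCast] at e
    exact_mod_cast e
  have h7 : ∀ j, m j (irrOne G) = 1 := fun j => by
    have e := hm j (irrOne G)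
    rw [classInner_indFun_left _ _ (irrOne G).2.isClassFunction] at e
    have e1 := h3 (v j) 0
    rw [K.zero, K.s0] at e1
    have e2 : (m j (irrOne G) : ℂ) = v j 0 * (1 : ℤ) := e.symm.trans e1
    have e3 : v j 0 = 1 := by fin_cases j <;> rfl
    rw [e3] at e2
    exact_mod_cast e2
  have h8 : ∀ j g, ¬ 2 ∣ orderOf g → ∑ χ, m j χ * (χ : G → ℂ) g = 0 := fun j g hg => by
    have e := indFun_eq_zero_of (P := fun n => ¬ 2 ∣ n) (h5 j) hg
    simpa [hm' j] using e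
  have h9 : ∀ j, ∑ χ, m j χ * (charDegree (χ : G → ℂ) : ℤ) = 0 := fun j => by
    have e := h8 j 1 (by simp)
    simp only [irr_one_eq] at e
    exact_mod_cast e
  obtain ⟨a, c, ha, hc, hac, sa, sc, e0, e1, e2, e3, e4, e5, e6⟩ := bs_comb
    (fun χ => by exact_mod_cast charDegree_ne_zero χ) (h7 0) (h7 1) (h7 2) (h7 3) (h6 0 0)
    (h6 1 1) (h6 2 2) (h6 3 3) (h6 1 0) (h6 2 0) (h6 3 0) (h6 1 2) (h6 1 3) (h9 1) (h9 2) (h9 3)
  have h10 : ∀ j χ, (m j χ : ℂ) = classInner (fun k : C => (χ : G → ℂ) k) (ψ (v j)) := fun j χ => by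
    rw [← hm, (h1 (v j)).indFun.classInner_comm χ.2.isGen,
      classInner_indFun_right _ _ χ.2.isClassFunction]
  have h11 : ∀ χ : IrrCharacter G, ∀ k : C, ev (fun k : C => (χ : G → ℂ) k)
      (fS (principalBlock M C) * single k 1) =
      ∑ i, classInner (fun k : C => (χ : G → ℂ) k) (ξ i) * (ξ i : C → ℂ) k := fun χ k => by
    rw [ev_fS_mul _ (χ.2.isClassFunction.restrict C), show Finset.univ.filter
      (· ∈ principalBlock M C) = Finset.univ.image ξ by ext; simp [C, K.mem, eq_comm],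
      Finset.sum_image fun i _ j _ h => K.inj h]
    simp
  have h12 : ∀ χ, m 1 χ ≠ 0 → χ ∈ principalBlock M G := fun χ hχ => by
    by_contra hn
    obtain ⟨χ₀, e⟩ := exists_ind_cent (M := M) ⟨1, by simpa using ht⟩ (irrOne C)
    have e1 := (third_main (subtype_injective _) e).mpr irrOne_mem_principal
    have e2 : ∀ k : C, 2 ∣ orderOf k →
        ∑ i, classInner (fun k : C => (χ : G → ℂ) k) (ξ i) * (ξ i : C → ℂ) k = 0 := fun k hk => by
      rw [← h11]
      refine second_main (subtype_injective _) isPBlock_principal irrOne_mem_principal e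
        (fun h' => hn (blk_mem isPBlock_principal e1 h')) k fun z hz => ?_
      have e3 := ppart_ne_one Nat.prime_two hz (by simpa using hk)
      have e4 := h.pow_half ht (mem_centralizer_singleton_iff.mp (ppart_mem Nat.prime_two hz k.2))
        (dvd_of_ppart_ne_one Nat.prime_two (ppart_self Nat.prime_two (ppart_order hz)) e3)
      rw [range_subtype]
      intro g hg
      rw [mem_centralizer_singleton_iff] at hg ⊢
      rw [← e4]
      exact Commute.pow_right hg _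
    apply hχ
    have e3 : classInner (∑ i, classInner (fun k : C => (χ : G → ℂ) k) (ξ i) • (ξ i : C → ℂ))
        (ψ (v 1)) = 0 := by
      rw [classInner_def, Finset.sum_eq_zero, mul_zero]
      intro k _
      by_cases hk : 2 ∣ orderOf k
      · simp [e2 k hk]
      · simp [h5 1 k hk]
    rw [h2] at e3
    simp only [classInner_sum_left, classInner_smul_left, irr_classInner, K.inj.eq_iff, mul_ite,
      mul_one, mul_zero, Finset.sum_ite_eq', Finset.mem_univ, if_true] at e3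
    rw [← h2, ← h10] at e3
    exact_mod_cast e3
  have h13 : ∀ χ ∈ principalBlock M G, (χ : G → ℂ) t = -m 0 χ +
      (1 + s 1 * (ξ 1 : C → ℂ) 1) * m 1 χ + (1 + s 2 * (ξ 2 : C → ℂ) 1) * m 2 χ -
      (s 1 * (ξ 1 : C → ℂ) 1 + s 2 * (ξ 2 : C → ℂ) 1) * m 3 χ := fun χ hχ => by
    have e := principal_section (M := M) ⟨1, by simpa using ht⟩ χ.2.isClassFunction
      ⟨t, mem_centralizer_singleton_iff.mpr rfl⟩ (ppart_self Nat.prime_two ⟨1, by simpa using ht⟩)
    rw [blockPart_irr, if_pos hχ, h11] at e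
    have r3 := K.r3 1 (by simp); have r4 := K.r4 1 (by simp); have r5 := K.r5 1 (by simp)
    have r6 := K.r6 1 (by simp)
    simp only [h10, h2, Fin.sum_univ_seven, e, K.pos 0 (by decide), K.pos 1 (by decide),
      K.pos 2 (by decide), K.pos 3 (by decide), K.neg 4 (by decide), K.neg 5 (by decide),
      K.neg 6 (by decide)]
    have := hs 1; have := hs 2; have := hs 3; have := hs 4; have := hs 5; have := hs 6
    simp [v, K.zero, K.s0]
    grind
  refine ⟨a, ha, bs_end (h.isolated ht) sa sc (ψ := c) (fun g hg => ?_) ?_⟩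
  · have e := h8 1 g hg
    rwa [sum_three ha hc hac fun k e1 e2 e3 => by rw [e0 k e1 e2 e3]; simp, h7, irrOne_coe,
      Int.cast_one, mul_one] at e
  · rw [h13 a (h12 a (by omega)), h13 c (h12 c (by omega)), e1, e2, e3, e4, e5, e6]
    rcases sa with sa | sa <;> rcases sc with sc | sc <;> rw [sa, sc] <;> push_cast <;> ring

end Cfsg.Agent.Blk
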