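import Cfsg.Agent.Blk.BS2
import Cfsg.Agent.Inv.WRFus

/-! The Brauer-Suzuki theorem, continued. -/

set_option autoImplicit false
set_option linter.unusedSectionVars false

namespace Cfsg.Agent.Blk

open Cfsg Cfsg.Agent.Char Cfsg.Agent.PLoc MonoidAlgebra Subgroup
open scoped ComplexConjugate

variable {G : Type*} [Group G] [Finite G]

theorem exists_hom_of_cyclic {x : G} (hP : IsSylowOf 2 (zpowers x) ⊤) (h4 : 4 ∣ orderOf x) :
    ∃ l : G →* ℂˣ, (l x : ℂ) = Complex.I ∧ (∀ k, ¬ 2 ∣ orderOf k → l k = 1) ∧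
      ∀ c, ∃ (k : G) (i : ℤ), ¬ 2 ∣ orderOf k ∧ c = x ^ i * k := by
  obtain ⟨T, hT⟩ := hP.exists_sylow_top
  have hn := Inv.npc_of_isCyclic T (by rw [hT]; infer_instance)
  have h1 : ∀ c, ∃ (k : G) (i : ℤ), k ∈ pResidual 2 G ∧ c = x ^ i * k := fun c => by
    have : c ∈ ((zpowers x ⊔ pResidual 2 G : Subgroup G) : Set G) := by
      rw [← hT, sylow_sup_pResidual]; trivial
    rw [mul_normal] at this
    obtain ⟨_, ⟨i, rfl⟩, k, hk, rfl⟩ := this
    exact ⟨k, i, hk, rfl⟩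
  have h2 : ∀ q : G ⧸ pResidual 2 G, q ∈ zpowers (x : G ⧸ pResidual 2 G) := fun q => by
    obtain ⟨c, rfl⟩ := QuotientGroup.mk_surjective q
    obtain ⟨k, i, hk, rfl⟩ := h1 c
    exact ⟨i, by simp [(QuotientGroup.eq_one_iff k).mpr hk]⟩
  have h3 : orderOf (Units.mk0 Complex.I Complex.I_ne_zero) ∣ orderOf (x : G ⧸ pResidual 2 G) := by
    refine (orderOf_dvd_of_pow_eq_one (n := 4) (by ext; simp)).trans (h4.trans ?_)
    rw [orderOf_dvd_iff_pow_eq_one, ← mem_bot, ← hP.npc_iff.mp hn, pResOf_top]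
    exact ⟨pow_mem (mem_zpowers x) _, (QuotientGroup.eq_one_iff _).mp (by
      rw [QuotientGroup.mk_pow, pow_orderOf_eq_one])⟩
  refine ⟨(monoidHomOfForallMemZpowers h2 h3).comp (QuotientGroup.mk' _), by simp, fun k hk => ?_,
    fun c => ?_⟩
  · rw [MonoidHom.comp_apply, QuotientGroup.mk'_apply, (QuotientGroup.eq_one_iff k).mpr
      (mem_pResidual (Nat.coprime_two_right.mpr (odd_iff_not_dvd.mpr hk))), map_one]
  · obtain ⟨k, i, hk, e⟩ := h1 c
    exact ⟨k, i, odd_iff_not_dvd.mp (Nat.coprime_two_right.mp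
      (npc_iff_forall_pResOf.mp hn k (by rwa [pResOf_top]))), e⟩

theorem R1.ord4 (h : R1 G) {u v : G} (hu : orderOf u = 4) (hv : orderOf v = 4) (hc : Commute u v) :
    v = u ∨ v = u⁻¹ := by
  have h1 : ∀ w : G, orderOf w = 4 → orderOf (w ^ 2) = 2 := fun w hw => by
    rw [orderOf_pow_of_dvd two_ne_zero (by rw [hw]; norm_num), hw]
  have h2 := h _ _ (h1 u hu) (h1 v hv) (hc.pow_pow 2 2)
  by_cases e : v * u⁻¹ = 1
  · exact .inl (mul_inv_eq_one.mp e)
  have h3 := h (v * u⁻¹) _ (Inv.ord2_iff.mpr ⟨by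
    rw [← sq, hc.symm.inv_right.mul_pow, ← h2, inv_pow, mul_inv_cancel], e⟩) (h1 u hu)
    ((hc.symm.mul_left (Commute.refl u).inv_left).pow_right 2)
  refine .inr (eq_inv_of_mul_eq_one_left ?_)
  rw [mul_inv_eq_iff_eq_mul.mp h3, ← pow_succ, ← pow_succ]
  simpa [hu] using pow_orderOf_eq_one u

theorem bs_16_aux (h : R1 G) {t : G} (ht : orderOf t = 2) {u y : G} (hu : orderOf u = 4)
    (hy : y * u * y⁻¹ = u⁻¹) {C : Subgroup G} (hC : ∀ {c}, c ∈ C ↔ c * u = u * c) {l : C →* ℂˣ}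
    (h1 : ∀ c : C, ¬ 4 ∣ orderOf c → l c = 1) (h2 : ∃ c, l c ^ 2 ≠ 1)
    (h3 : ∀ c d : C, (d : G) = y * c * y⁻¹ → l d = (l c)⁻¹) :
    ∃ χ : IrrCharacter G, χ ≠ irrOne G ∧ (χ : G → ℂ) t = (χ : G → ℂ) 1 := by
  classical
  have := Fintype.ofFinite G
  let ψ : C → ℂ := (fun _ => 1) - fun c => (l c : ℂ)
  have hψ : IsGeneralizedCharacter C ψ := isGen_one.sub (isCharacter_hom l).isGen
  have h4 : ∀ c : C, ¬ 4 ∣ orderOf c → ψ c = 0 := fun c hc => by simp [ψ, h1 c hc]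
  have hyC : y ∉ C := fun e => by
    rw [hC.mp e, mul_inv_cancel_right] at hy
    have : 4 ∣ 2 := hu ▸ orderOf_dvd_of_pow_eq_one (by rw [sq]; exact mul_eq_one_iff_eq_inv.mpr hy)
    omega
  have h5 : ∀ c ∈ C, 4 ∣ orderOf c → c ^ (orderOf c / 4) = u ∨ c ^ (orderOf c / 4) = u⁻¹ :=
    fun c hc e => h.ord4 hu (orderOf_pow_orderOf_div (orderOf_pos c).ne' e)
      (Commute.pow_right (hC.mp hc).symm _)
  have h6 : ∀ c : C, 4 ∣ orderOf c → indFun C ψ c = ψ c + conj (ψ c) := fun c hc => by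
    have e : ∀ g, extendByZero C ψ (g * c * g⁻¹) = extendByZero C (fun _ => ψ c) g +
        extendByZero C (fun _ => conj (ψ c)) (y⁻¹ * g) := fun g => by
      by_cases hg : g ∈ C
      · rw [extendByZero_conj_mem _ hψ.isClassFunction hg, extendByZero_coe, extendByZero_of_mem _ _ hg,
          extendByZero_of_not_mem _ _ fun e => hyC (by simpa using mul_mem hg (inv_mem e)), add_zero]
      rw [extendByZero_of_not_mem _ _ hg, zero_add]
      by_cases hg' : y⁻¹ * g ∈ C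
      · have e1 : y * (y⁻¹ * g * c * (y⁻¹ * g)⁻¹) * y⁻¹ ∈ C := by
          have := mul_mem (mul_mem hg' c.2) (inv_mem hg')
          rw [hC] at this ⊢
          have e2 : Commute (y * (y⁻¹ * g * c * (y⁻¹ * g)⁻¹) * y⁻¹) (y * u * y⁻¹) :=
            Commute.map this (MulAut.conj y)
          exact Commute.inv_right_iff.mp (hy ▸ e2)
        rw [extendByZero_of_mem _ _ hg', show g * c * g⁻¹ =
          y * (y⁻¹ * g * c * (y⁻¹ * g)⁻¹) * y⁻¹ by group, extendByZero_of_mem _ _ e1]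
        simp only [ψ, Pi.sub_apply, map_sub, map_one]
        rw [h3 (⟨_, hg'⟩ * c * ⟨_, hg'⟩⁻¹) _ rfl, ← hom_inv_eq_conj]
        simp [mul_comm]
      rw [extendByZero_of_not_mem _ _ hg', extendByZero_apply]
      split_ifs with e
      · exfalso
        have e1 := h5 _ e (by rwa [Inv.orderOf_conj', orderOf_coe])
        rw [conj_pow, Inv.orderOf_conj'] at e1
        have e2 : g * u * g⁻¹ = u ∨ g * u * g⁻¹ = u⁻¹ := by
          rcases h5 c c.2 (by rwa [orderOf_coe]) with e2 | e2 <;> rw [e2] at e1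
          · exact e1
          · rw [← conj_inv, inv_eq_iff_eq_inv, inv_inj] at e1; exact e1.symm
        rcases e2 with e2 | e2
        · exact hg (hC.mpr (mul_inv_eq_iff_eq_mul.mp e2))
        · refine hg' (hC.mpr (mul_inv_eq_iff_eq_mul.mp ?_))
          rw [← hy] at e2
          calc _ = y⁻¹ * (g * u * g⁻¹) * y := by group
            _ = _ := by rw [e2]; group
      · rfl
    rw [indFun_apply']
    simp only [e]
    rw [Finset.sum_add_distrib, show ∑ x, extendByZero C _ (y⁻¹ * x) = _ from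
      Equiv.sum_comp (Equiv.mulLeft y⁻¹) _,
      sum_extendByZero, sum_extendByZero]
    simp only [Finset.sum_const, Finset.card_univ, ← Nat.card_eq_fintype_card, nsmul_eq_mul]
    have := card_ne_zero C
    field_simp
  obtain ⟨m, hm, hm', h7⟩ := hψ.indFun.exists_mult_norm
  have l1 : l ≠ 1 := by rintro rfl; simp at h2
  have l2 : l ≠ l⁻¹ := fun e => h2.elim fun c hc => hc (by
    rw [sq]; exact mul_eq_one_iff_eq_inv.mpr (DFunLike.congr_fun e c))
  have i1 := classInner_hom l 1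
  have i2 := classInner_hom 1 l
  have i3 := classInner_hom l l⁻¹
  have i4 := classInner_hom 1 l⁻¹
  rw [if_neg fun e => l1 (MonoidHom.ext fun c => inv_eq_one.mp (DFunLike.congr_fun e c).symm)] at i4
  have i5 := classInner_hom l l
  have i6 := classInner_hom (1 : C →* ℂˣ) 1
  simp only [l1, l1.symm, l2, if_false, if_true,
    MonoidHom.one_apply, Units.val_one] at i1 i2 i3 i4 i5 i6
  have h8 : classInner (indFun C ψ) (indFun C ψ) = 3 := by
    have e : classInner ψ (fun c : C => indFun C ψ c) =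
        classInner ψ (ψ + ((fun _ => 1) - fun c => (l⁻¹ c : ℂ))) := by
      rw [classInner_def, classInner_def]
      congr 1
      refine Finset.sum_congr rfl fun c _ => ?_
      by_cases hc : 4 ∣ orderOf c
      · rw [h6 c hc]; simp [ψ, ← hom_inv_eq_conj]
      · simp [h4 c hc]
    rw [classInner_indFun_left _ _ (isClassFunction_indFun _ _), e]
    simp only [ψ, classInner_add_right, classInner_sub_left, classInner_sub_right, i1, i2, i3, i4,
      i5, i6]
    norm_num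
  have h9 : m (irrOne G) = 1 := by
    have e := hm (irrOne G)
    rw [classInner_indFun_left _ _ (irrOne G).2.isClassFunction, classInner_sub_left] at e
    simp only [irrOne_coe, i1, i6, sub_zero] at e
    exact_mod_cast e.symm
  obtain ⟨a, c, ha, hc, hac, sa, sc, e0⟩ := exists_three h9 (by
    rw [h8] at h7; simp only [← sq]; exact_mod_cast h7.symm)
  have h10 : ∀ g, ¬ 4 ∣ orderOf g → 1 + m a * (a : G → ℂ) g + m c * (c : G → ℂ) g = 0 := fun g hg => by
    have e := indFun_eq_zero_of (P := fun n => ¬ 4 ∣ n) h4 hg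
    rw [hm', Finset.sum_apply, sum_three ha hc hac fun k e1 e2 e3 => by
      rw [e0 k e1 e2 e3]; simp, h9] at e
    simpa using e
  refine ⟨a, ha, bs_end (h.isolated ht) sa sc (ψ := c)
    (fun g hg => h10 g fun e => hg (Dvd.dvd.trans (by norm_num) e)) ?_⟩
  rw [eq_neg_of_add_eq_zero_right (h10 t (by rw [ht]; norm_num)), neg_sq]

theorem bs_16 (h : R1 G) {t : G} (ht : orderOf t = 2) (S : Sylow 2 G) {n : ℕ}
    (e : (S : Subgroup G) ≃* QuaternionGroup (2 ^ (n + 2))) :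
    ∃ χ : IrrCharacter G, χ ≠ irrOne G ∧ (χ : G → ℂ) t = (χ : G → ℂ) 1 := by
  obtain ⟨x, y, hxS, h1, h2, h3⟩ : ∃ x y : G, x ∈ (S : Subgroup G) ∧ orderOf x = 2 ^ (n + 3) ∧
      y * x * y⁻¹ = x⁻¹ ∧ ∀ s ∈ (S : Subgroup G), ∃ i : ℕ, s = x ^ i ∨ s = y * x ^ i := by
    refine ⟨e.symm (.a 1), e.symm (.xa 0), SetLike.coe_mem _, ?_, ?_, fun s hs => ?_⟩
    · rw [orderOf_coe, MulEquiv.orderOf_eq, QuaternionGroup.orderOf_a_one]; ring
    · rw [mul_inv_eq_iff_eq_mul, eq_inv_mul_iff_mul_eq]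
      norm_cast
      simp [← map_mul]
    · obtain ⟨q, hq⟩ := e.symm.surjective ⟨s, hs⟩
      obtain rfl : (e.symm q : G) = s := congrArg Subtype.val hq
      rcases q with i | i <;> refine ⟨i.val, ?_⟩ <;> norm_cast <;>
        simp [← map_mul, ← map_pow, QuaternionGroup.a_one_pow]
  have hu : orderOf (x ^ 2 ^ (n + 1)) = 4 := by
    rw [orderOf_pow_of_dvd (by positivity) (h1 ▸ pow_dvd_pow 2 (by omega)), h1,
      Nat.pow_div (by omega) two_pos]
    simp
  set u := x ^ 2 ^ (n + 1) with hu'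
  have hy : y * u * y⁻¹ = u⁻¹ := Inv.conj_pow_inv h2 _
  have hx : x ∈ centralizer ({u} : Set G) :=
    mem_centralizer_singleton_iff.mpr (Commute.self_pow x _)
  have h4 : ∀ g : G, g * u * g⁻¹ = u⁻¹ → g ∈ normalizer (centralizer ({u} : Set G) : Set G) :=
    fun g hg => by
      rw [← cj_eq_self_iff, cj_cent, hg]
      ext c
      simp only [mem_centralizer_singleton_iff]
      exact Commute.inv_right_iff
  have h5 : IsSylowOf 2 (zpowers x) (centralizer ({u} : Set G)) := by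
    convert (isSylowOf_top S).inf_of_le le_top fun s hs => ?_
    · refine le_antisymm (zpowers_le.mpr ⟨hxS, hx⟩) fun s hs => ?_
      obtain ⟨i, rfl | rfl⟩ := h3 s hs.1
      · exact pow_mem (mem_zpowers x) i
      · have e := (mul_mem_cancel_right (pow_mem hx i)).mp hs.2
        rw [mem_centralizer_singleton_iff.mp e, mul_inv_cancel_right] at hy
        have : 4 ∣ 2 := hu ▸ orderOf_dvd_of_pow_eq_one (by
          rw [sq]; exact mul_eq_one_iff_eq_inv.mpr hy)
        omega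
    · obtain ⟨i, rfl | rfl⟩ := h3 s hs
      exacts [le_normalizer (pow_mem hx i), mul_mem (h4 y hy) (le_normalizer (pow_mem hx i))]
  obtain ⟨l, e1, e2, e3⟩ := exists_hom_of_cyclic (x := (⟨x, hx⟩ : centralizer ({u} : Set G)))
    (by
      convert h5.subgroupOf le_rfl using 1
      · ext c; simp [mem_subgroupOf, mem_zpowers_iff, Subtype.ext_iff]
      · simp)
    (by rw [orderOf_mk, h1]; exact pow_dvd_pow 2 (show 2 ≤ n + 3 by omega))
  refine bs_16_aux h ht hu hy mem_centralizer_singleton_iff (l := l) (fun c hc => ?_)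
    ⟨⟨x, hx⟩, fun e => by simpa [e1, neg_eq_self] using congrArg Units.val e⟩ fun c d e => ?_
  · obtain ⟨z, w, rfl, e4, ⟨k, e5⟩, e6⟩ := exists_ppart Nat.prime_two c
    rw [map_mul, e2 w e6, mul_one]
    rw [e4.orderOf_mul_eq_mul_orderOf_of_coprime (e5 ▸ Nat.Coprime.pow_left k
      ((Nat.Prime.coprime_iff_not_dvd Nat.prime_two).mpr e6)), e5] at hc
    rcases k with _ | _ | k
    · rw [orderOf_eq_one_iff.mp e5, map_one]
    · obtain rfl : z = ⟨x, hx⟩ ^ 2 ^ (n + 2) := Subtype.ext (h _ _ (by simpa using e5) (by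
        rw [SubmonoidClass.mk_pow, orderOf_pow_of_dvd (by positivity)
          (h1 ▸ pow_dvd_pow 2 (by omega)), h1, Nat.pow_div (by omega) two_pos]
        simp) (by
          rw [SubmonoidClass.coe_pow, pow_succ, pow_mul]
          exact Commute.pow_right (mem_centralizer_singleton_iff.mp z.2) 2))
      ext
      rw [map_pow]
      simp [e1, pow_add, mul_comm (2 ^ n), pow_mul]
    · exact absurd (Dvd.dvd.mul_right (pow_dvd_pow 2 (show 2 ≤ k + 1 + 1 by omega)) _) hc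
  · obtain ⟨k, i, e4, rfl⟩ := e3 c
    have e5 := (mem_normalizer_iff.mp (h4 y hy) k).mp k.2
    obtain rfl : d = (⟨x, hx⟩ ^ i)⁻¹ * ⟨_, e5⟩ := Subtype.ext (by
      simp only [e, coe_mul, coe_inv, SubgroupClass.coe_zpow]
      rw [← zpow_neg, ← Inv.conj_zpow_inv h2]; group)
    rw [map_mul, map_mul, e2 k e4, e2 ⟨_, e5⟩ (by rwa [orderOf_mk, Inv.orderOf_conj', orderOf_coe])]
    simp

theorem exists_qBlk_of_q8 {M : Ideal AlgInt} [PMod 2 M] (h : R1 G) {t : G} (ht : orderOf t = 2)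
    (hz : t ∈ center G) (S : Sylow 2 G) (e : (S : Subgroup G) ≃* QuaternionGroup 2)
    (hc : ∀ a b : G, a * a = t → b * b = t → IsConj a b) : ∃ ξ s, QBlk M t ξ s := by
  obtain ⟨z, hQ⟩ := Inv.exists_Q8 e
  obtain rfl : z = t := h _ _ hQ.zord ht (mem_center_iff.mp hz z)
  have := Inv.normal_of_le_center (zpowers_le.mpr hz)
  have hf := QuotientGroup.mk'_surjective (zpowers z)
  have hk := QuotientGroup.ker_mk' (zpowers z)
  obtain ⟨ζ₂, ζ₃, ζ₄, ε, K⟩ := exists_kleinBlk (M := M) (S.mapSurjective hf) (Inv.kf_of_card (by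
      have := card_map_mul_card_ker_inf (QuotientGroup.mk' (zpowers z)) S
      rw [hk, inf_eq_left.mpr (zpowers_le.mpr hQ.zmem), Nat.card_zpowers, ht, hQ.card] at this
      rw [Sylow.coe_mapSurjective]
      omega) (by
      rintro _ ⟨x, hx, rfl⟩
      rw [← map_mul, ← MonoidHom.mem_ker, hk]
      rcases hQ.cases x hx with rfl | rfl | e
      exacts [by simp, mul_mem (mem_zpowers _) (mem_zpowers _), e ▸ mem_zpowers _])) (by
      have key : ∀ a, orderOf (QuotientGroup.mk' (zpowers z) a) = 2 → a * a = z := fun a ha => by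
        have e1 := Inv.sq_of_ord2 ha
        have e2 := Inv.ne_one_of_ord2 ha
        rw [← map_mul, ← MonoidHom.mem_ker, hk, Inv.mem_zpowers_ord2 (Inv.sq_of_ord2 ht)] at e1
        rw [Ne, ← MonoidHom.mem_ker, hk, Inv.mem_zpowers_ord2 (Inv.sq_of_ord2 ht), not_or] at e2
        exact e1.resolve_left fun e3 =>
          e2.2 (h _ _ (Inv.ord2_iff.mpr ⟨e3, e2.1⟩) ht (mem_center_iff.mp hz a))
      intro a b ha hb
      obtain ⟨a, rfl⟩ := hf a
      obtain ⟨b, rfl⟩ := hf b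
      exact MonoidHom.map_isConj _ (hc a b (key a ha) (key b hb)))
  obtain ⟨i, hi, j, hj, e1, e2, e3, e4⟩ := hQ.exists_pair
  refine exists_qBlk ht hz ⟨j, i⁻¹, ?_⟩ hf hk K
  rw [← conj_inv, hQ.inv i hi j hj e1 e2 e3 e4, inv_inv, e1]

theorem q8_isConj (h : R1 G) {S : Sylow 2 G} {t : G} (hQ : Inv.Q8 (S : Subgroup G) t)
    (hn : ¬ NPC 2 (⊤ : Subgroup G)) {a b : G} (ha : a * a = t) (hb : b * b = t) : IsConj a b := by
  have key : ∀ a, a * a = t → ∃ c ∈ (S : Subgroup G), c * c = t ∧ IsConj c a := fun a ha => by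
    obtain ⟨c, e1, e2, e3⟩ := Inv.exists_isConj_mem_sylow S (k := 2) (hQ.ord4 ha)
    exact ⟨c, e1, hQ.sq_eq e1 e3, e2⟩
  obtain ⟨c, e1, e2, e3⟩ := key a ha
  obtain ⟨d, e4, e5, e6⟩ := key b hb
  obtain ⟨n, -, e7⟩ := q8_conj hQ hn e1 e4 e2 e5
  exact e3.symm.trans ((isConj_iff.mpr ⟨n, e7⟩).trans e6)

theorem bs_ker (h : R1 G) {t : G} (ht : orderOf t = 2) (hn : ¬ NPC 2 (⊤ : Subgroup G)) :
    ∃ χ : IrrCharacter G, χ ≠ irrOne G ∧ (χ : G → ℂ) t = (χ : G → ℂ) 1 := by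
  obtain ⟨S, hS⟩ := (IsPGroup.of_card (p := 2) (G := zpowers t) (n := 1)
    (by rw [Nat.card_zpowers, ht]; rfl)).exists_le_sylow
  have htS : t ∈ (S : Subgroup G) := hS (mem_zpowers t)
  rcases Core.isCyclic_or_quaternion_of_unique S.isPGroup' (fun x y hx hy hy1 => by
    by_cases hx1 : x = 1
    · simp [hx1]
    obtain ⟨z, hz, hz2⟩ : ∃ z ∈ center S, orderOf z = 2 := by
      have : Nontrivial S := ⟨⟨x, 1, hx1⟩⟩
      have := S.isPGroup'.center_nontrivial
      obtain ⟨z, hz⟩ := exists_prime_orderOf_dvd_card' 2 ((S.isPGroup'.to_subgroup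
        (center S)).nontrivial_iff_card.mp this |>.elim fun k hk => hk.2 ▸ dvd_pow_self 2 hk.1.ne')
      exact ⟨z, z.2, (orderOf_coe z).trans hz⟩
    rw [h.subgroup _ x z (orderOf_eq_prime hx hx1) hz2 (mem_center_iff.mp hz x),
      h.subgroup _ y z (orderOf_eq_prime hy hy1) hz2 (mem_center_iff.mp hz y)]
    exact mem_zpowers z) with hc | ⟨-, _ | n, ⟨e⟩⟩
  · exact absurd (Inv.npc_of_isCyclic S hc) hn
  swap
  · exact bs_16 h ht S e
  obtain ⟨z, hQ⟩ := Inv.exists_Q8 e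
  obtain rfl := hQ.eq_z htS ht
  obtain ⟨M, hM⟩ := exists_isPModular 2 Nat.prime_two
  have : PMod 2 M := ⟨hM⟩
  have hle : (S : Subgroup G) ≤ centralizer {t} := fun g hg =>
    mem_centralizer_singleton_iff.mpr (hQ.zcomm g hg)
  obtain ⟨ξ, s, K⟩ := exists_qBlk_of_q8 (M := M) (h.subgroup _) (by simpa using ht)
    (mem_center_cent t) (S.subtype hle) ((subgroupOfEquivOfLe hle).trans e) fun a b ha hb => by
      have ha' : (a : G) * a = t := congrArg Subtype.val ha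
      have hb' : (b : G) * b = t := congrArg Subtype.val hb
      obtain ⟨g, hg⟩ := isConj_iff.mp (q8_isConj h hQ hn ha' hb')
      refine isConj_iff.mpr ⟨⟨g, mem_centralizer_singleton_iff.mpr
        (mul_inv_eq_iff_eq_mul.mp ?_)⟩, Subtype.ext hg⟩
      rw [← ha', ← conj_mul, hg, ha', hb']
  exact bs_q8 h ht K

theorem zstar_of_normal {t : G} (ht : IsIsolatedInvolution t) {K : Subgroup G} [K.Normal]
    (hK : t ∈ K) (h : ∀ k : K, ⟨t, hK⟩ * k * ⟨t, hK⟩⁻¹ * k⁻¹ ∈ pPrimeCore 2 K) (g : G) :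
    t * g * t⁻¹ * g⁻¹ ∈ pPrimeCore 2 G := by
  obtain ⟨k, hk, e⟩ := Inv.s1180 t ht K hK g (‹K.Normal›.conj_mem t hK g)
  have := pPrimeCoreOf_le_pPrimeCore K (mem_pPrimeCoreOf.mpr (h ⟨k, hk⟩))
  rwa [show t * g * t⁻¹ * g⁻¹ = t * (g * t * g⁻¹)⁻¹ by group, ← e,
    show t * (k * t * k⁻¹)⁻¹ = t * k * t⁻¹ * k⁻¹ by group]

theorem zstar_of_npc {t : G} (ht : IsIsolatedInvolution t) (hn : NPC 2 (⊤ : Subgroup G)) (g : G) :
    t * g * t⁻¹ * g⁻¹ ∈ pPrimeCore 2 G := by
  rw [← pPrimeCoreOf_top, ← hn.pResOf_eq_pPrimeCoreOf, Inv.inv_of_ord2 ht.1,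
    show t * g * t * g⁻¹ = t * (g * t * g⁻¹) by group]
  exact mem_pResOf (mem_top _)
    (Nat.coprime_two_right.mpr (Inv.isolated_odd_mul ht (isConj_conj t g)))

universe u in
theorem bs_main (n : ℕ) : ∀ (G : Type u) [Group G] [Finite G], Nat.card G = n → R1 G →
    ∀ t : G, orderOf t = 2 → ∀ g, t * g * t⁻¹ * g⁻¹ ∈ pPrimeCore 2 G := by
  induction n using Nat.strong_induction_on with | _ n ih => ?_
  intro G _ _ hG h t ht
  by_cases hn : NPC 2 (⊤ : Subgroup G)
  · exact zstar_of_npc (h.isolated ht) hn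
  obtain ⟨χ, h1, h2⟩ := bs_ker h ht hn
  have := χ.2.isClassFunction.charKer_normal
  have hK := χ.2.isCharacter.mem_charKer.mpr h2
  refine zstar_of_normal (h.isolated ht) hK (ih _ ?_ _ rfl (h.subgroup _) _ (by simpa using ht))
  refine hG ▸ card_lt_of_ne_top fun e => h1 (Subtype.ext (χ.2.eq_one_of_forall_eq fun g => ?_))
  exact χ.2.isCharacter.mem_charKer.mp (e ▸ mem_top g)

theorem r1_of_sylow (S : Sylow 2 G) (h : R1 (S : Subgroup G)) : R1 G := fun u v hu hv hc => by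
  obtain ⟨g, e1, e2⟩ := Inv.exists_conj_mem_sylow_of_commute S
    ⟨1, Inv.pow_two_pow_one_of_ord2 hu⟩ ⟨1, Inv.pow_two_pow_one_of_ord2 hv⟩ hc
  have := h ⟨_, e1⟩ ⟨_, e2⟩ (by rw [orderOf_mk, Inv.orderOf_conj', hu])
    (by rw [orderOf_mk, Inv.orderOf_conj', hv]) (Subtype.ext (hc.map (MulAut.conj g)))
  simpa using this

theorem r1_of_quaternion (S : Sylow 2 G) {n : ℕ}
    (e : (S : Subgroup G) ≃* QuaternionGroup (2 ^ (n + 1))) : R1 G :=
  r1_of_sylow S fun u v hu hv _ => e.injective (congrArg Subtype.val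
    ((Nat.card_eq_one_iff_unique.mp (Inv.s0218 n)).1.elim ⟨e u, by simpa using hu⟩
      ⟨e v, by simpa using hv⟩))

theorem brauer_suzuki (S : Sylow 2 G) {n : ℕ}
    (e : (S : Subgroup G) ≃* QuaternionGroup (2 ^ (n + 1)))
    (hO : ∀ N : Subgroup G, N.Normal → Odd (Nat.card N) → N = ⊥) :
    ∃ t, orderOf t = 2 ∧ center G = zpowers t := by
  have h := r1_of_quaternion S e
  obtain ⟨⟨q, hq⟩⟩ := (Nat.card_eq_one_iff_unique.mp (Inv.s0218 n)).2
  have ht : orderOf (e.symm q : G) = 2 := by simpa using hq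
  have h1 := bs_main _ G rfl h _ ht
  rw [hO _ inferInstance (Nat.coprime_two_right.mp pPrimeCore_coprime)] at h1
  have hz : (e.symm q : G) ∈ center G := mem_center_iff.mpr fun g => by
    have := mem_bot.mp (h1 g)
    rw [mul_inv_eq_one, mul_inv_eq_iff_eq_mul] at this
    exact this.symm
  refine ⟨_, ht, le_antisymm (fun c hc => ?_) (zpowers_le.mpr hz)⟩
  obtain ⟨x, w, rfl, e1, ⟨k, e2⟩, e3⟩ := exists_ppart Nat.prime_two c
  have hx : x ∈ center G := ppart_mem Nat.prime_two ⟨w, rfl, e1, ⟨k, e2⟩, e3⟩ hc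
  have hw := (mul_mem_cancel_left hx).mp hc
  have e4 := hO _ (Inv.normal_of_le_center (zpowers_le.mpr hw))
    (by rw [Nat.card_zpowers]; exact odd_iff_not_dvd.mpr e3)
  rw [zpowers_eq_bot.mp e4, mul_one]
  have := Inv.normal_of_le_center (zpowers_le.mpr hx)
  have hxS : x ∈ (S : Subgroup G) := (IsPGroup.of_card (G := zpowers x) (by
    rw [Nat.card_zpowers, e2])).le_sylow_of_normal S (mem_zpowers x)
  have e5 := (Inv.quaternion_facts' (Nat.le_self_pow (by omega) 2) e).1 x hxS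
    fun g _ => mem_center_iff.mp hx g
  by_cases e6 : x = 1
  · simp [e6]
  · rw [h x _ (Inv.ord2_iff.mpr ⟨e5, e6⟩) ht (mem_center_iff.mp hz x)]
    exact mem_zpowers _

end Cfsg.Agent.Blk
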