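/-
Central extensions with kernel of order prime to the orders of the generators.
-/
import Cfsg.Agent.Spor.Cert
import Cfsg.Agent.PLoc.Transfer2

set_option autoImplicit false

namespace Cfsg.Agent.Mult

open Subgroup Cfsg.Agent.Spor
open scoped commutatorElement

section
variable {K L : Type*} [Group K] [Group L] {π : K →* L}

theorem lift_unique (hz : π.ker ≤ center K) {r : ℕ} (hr : (Nat.card π.ker).Coprime r) {x y : K}
    (h : π x = π y) (hx : x ^ r = 1) (hy : y ^ r = 1) : x = y := by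
  have h1 : y⁻¹ * x ∈ π.ker := by rw [MonoidHom.mem_ker, map_mul, map_inv, h, inv_mul_cancel]
  have h2 : Commute y (y⁻¹ * x) := mem_center_iff.1 (hz h1) y
  have h3 : (y⁻¹ * x) ^ r = 1 := by
    have := h2.mul_pow r
    rwa [mul_inv_cancel_left, hx, hy, one_mul, eq_comm] at this
  have h4 : orderOf (y⁻¹ * x) = 1 := Nat.eq_one_of_dvd_coprimes hr
    (by simpa using orderOf_dvd_natCard (⟨_, h1⟩ : π.ker)) (orderOf_dvd_of_pow_eq_one h3)
  rw [orderOf_eq_one_iff, inv_mul_eq_one] at h4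
  exact h4.symm

theorem exists_lift (hs : Function.Surjective π) {r : ℕ} (hr : (Nat.card π.ker).Coprime r) {y : L}
    (hy : y ^ r = 1) : ∃ x, π x = y ∧ ∀ m, y ^ m = 1 → x ^ m = 1 := by
  obtain ⟨x, rfl⟩ := hs y
  obtain ⟨a, ha⟩ := exists_pow_eq_self_of_coprime
    (hr.coprime_dvd_right (orderOf_dvd_of_pow_eq_one hy))
  refine ⟨(x ^ Nat.card π.ker) ^ a, by rw [map_pow, map_pow, ha], fun m hm => ?_⟩
  have h1 : x ^ m ∈ π.ker := by rw [MonoidHom.mem_ker, map_pow, hm]
  have h2 : (x ^ m) ^ Nat.card π.ker = 1 :=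
    congrArg Subtype.val (pow_card_eq_one' (x := (⟨_, h1⟩ : π.ker)))
  rw [← pow_mul, ← pow_mul, mul_comm, pow_mul, ← pow_mul x, mul_comm a m, mul_assoc, pow_mul,
    mul_comm a, pow_mul, h2, one_pow]

/-- conjugation relators and power relators -/
noncomputable def cjL (ni : ℕ) (T : List (List ℕ × ℕ × ℕ)) (Q : List (ℕ × ℕ)) : List (List ℕ) :=
  T.map (fun t => t.1 ++ t.2.1 :: invW ni t.1 [ivA ni t.2.2]) ++ Q.map fun q => List.replicate q.2 q.1

theorem ev_replicate (a : ℕ → K) (m x : ℕ) : ev a (List.replicate m x) = a x ^ m := by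
  simp [ev]

theorem exists_pres (hs : Function.Surjective π) (hz : π.ker ≤ center K) {r : ℕ}
    (hr : (Nat.card π.ker).Coprime r) {n k : ℕ} {g : ℕ → L} {T : List (List ℕ × ℕ × ℕ)}
    {Q : List (ℕ × ℕ)} (hg : Pres n k (cjL (2 * k) T Q) g) (hp : ∀ j < n, g j ^ r = 1) :
    ∃ f : ℕ → K, (∀ j < n, π (f j) = g j) ∧ Pres n k (cjL (2 * k) T Q) f := by
  have := fun j => if h : j < n then (exists_lift hs hr (hp j h)).imp (fun _ a (_ : j < n) => a)
    else ⟨1, fun a => absurd a h⟩
  choose f hf using this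
  have h1 : ∀ j < n, π (f j) = g j := fun j hj => (hf j hj).1
  have h2 : ∀ y m, atm n g y ^ m = 1 → atm n f y ^ m = 1 := fun y m => by
    rw [atm_def, atm_def]
    split_ifs with a b
    · exact (hf _ a).2 m
    · rw [inv_pow, inv_pow, inv_eq_one, inv_eq_one]
      exact (hf _ a).2 m
    · simp
  have h3 : ∀ y, atm n f y ^ r = 1 := fun y => h2 y r (by
    rw [atm_def]
    split_ifs with a b
    · exact hp _ a
    · rw [inv_pow, hp _ a, inv_one]
    · exact one_pow _)
  have sq : ∀ j < k, j < n → f j * f j = 1 := fun j a b => by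
    rw [← sq]
    exact (hf j b).2 2 (by rw [sq]; exact hg.sq j a b)
  refine ⟨f, h1, sq, fun l hl => ?_⟩
  have h4 := hg.rel l hl
  rcases List.mem_append.1 hl with hl | hl
  · obtain ⟨t, -, rfl⟩ := List.mem_map.1 hl
    have hi := ivOk_atm sq
    rw [ev_append, ev_cons, ev_invW hg.ivOk, ev_cons, ev_nil, hg.ivOk, mul_one, ← mul_assoc,
      ← mul_assoc, mul_inv_eq_one] at h4
    rw [ev_append, ev_cons, ev_invW hi, ev_cons, ev_nil, hi, mul_one, ← mul_assoc,
      ← mul_assoc, mul_inv_eq_one]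
    refine lift_unique hz hr ?_ (by rw [conj_pow, h3, mul_one, mul_inv_cancel]) (h3 _)
    rw [map_mul, map_mul, map_inv, ev_atm_map' h1, atm_map, atm_map, atm_congr h1, h4]
  · obtain ⟨q, -, rfl⟩ := List.mem_map.1 hl
    rw [ev_replicate] at h4 ⊢
    exact h2 _ _ h4

/-- a subgroup covering a subgroup of coprime index contains the kernel -/
theorem ker_le [Finite K] (hs : Function.Surjective π) (hz : π.ker ≤ center K)
    (hp : commutator K = ⊤) {F : Subgroup K} (hc : (Nat.card π.ker).Coprime (F.map π).index) :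
    π.ker ≤ F := fun z hz1 => by
  have h1 := PLoc.pow_index_mem_commutator (H := (F.map π).comap π) (z := z)
    (ker_le_comap _ _ hz1) (hz hz1) (hp ▸ mem_top z)
  rw [index_comap_of_surjective _ hs] at h1
  have h2 : ⁅(F.map π).comap π, (F.map π).comap π⁆ ≤ F := commutator_le.2 fun x hx y hy => by
    obtain ⟨a, ha, e⟩ := hx
    obtain ⟨b, hb, e'⟩ := hy
    obtain ⟨u, rfl⟩ : ∃ u, x = a * u := ⟨a⁻¹ * x, by simp⟩
    obtain ⟨v, rfl⟩ : ∃ v, y = b * v := ⟨b⁻¹ * y, by simp⟩
    have hu := mem_center_iff.1 (hz (show u ∈ π.ker by simpa using e))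
    have hv := mem_center_iff.1 (hz (show v ∈ π.ker by simpa using e'))
    have : ⁅a * u, b * v⁆ = ⁅a, b⁆ := by
      rw [commutatorElement_def, commutatorElement_def, mul_inv_eq_iff_eq_mul,
        mul_inv_eq_iff_eq_mul]
      calc a * u * (b * v) = a * b * (v * u) := by rw [mul_assoc, ← hu, mul_assoc, mul_assoc]
        _ = a * b * a⁻¹ * b⁻¹ * (b * v) * (a * u) := by
          rw [mul_assoc _ b⁻¹, inv_mul_cancel_left, mul_assoc (a * b * a⁻¹) v, ← hv (a * u), hu v]
          group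
    rw [this]
    exact mul_mem (mul_mem (mul_mem ha hb) (inv_mem ha)) (inv_mem hb)
  obtain ⟨a, ha⟩ := exists_pow_eq_self_of_coprime (x := z) (hc.symm.coprime_dvd_right
    (by simpa using orderOf_dvd_natCard (⟨_, hz1⟩ : π.ker)))
  exact ha ▸ pow_mem (h2 h1) a

theorem card_of_ker_le {F : Subgroup K} (h : π.ker ≤ F) :
    Nat.card F = Nat.card π.ker * Nat.card (F.map π) := by
  rw [← MonoidHom.restrict_range, ← index_ker, MonoidHom.ker_restrict, mul_comm,
    ← Nat.card_congr (subgroupOfEquivOfLe h).toEquiv, index_mul_card]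

end

/-- the order of a central kernel is bounded by a presentation -/
def Cv (L : Type) [Group L] (r c : ℕ) : Prop :=
  ∀ (K : Type) [Group K] [Finite K] (π : K →* L), Function.Surjective π → π.ker ≤ center K →
    commutator K = ⊤ → ∀ p, p.Prime → IsPGroup p π.ker → p.Coprime r → Nat.card π.ker ∣ c

theorem cv_of {L : Type} [Group L] {r n k M D m c : ℕ} {g : ℕ → L} {T : List (List ℕ × ℕ × ℕ)}
    {Q : List (ℕ × ℕ)} (b : Bound n k (cjL (2 * k) T Q) M) (hg : Pres n k (cjL (2 * k) T Q) g)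
    (hp : ∀ j < n, g j ^ r = 1) (hD : D ∣ Nat.card (gsub n g)) (hL : Nat.card L = D * m)
    (h : M = c * D ∧ 0 < D) : Cv L (r * m) c := by
  intro K _ _ π hs hz hK p pp hp' hc
  haveI := Fact.mk pp
  obtain ⟨e, he⟩ := IsPGroup.iff_card.1 hp'
  have hc' : (Nat.card π.ker).Coprime (r * m) := he ▸ hc.pow_left e
  obtain ⟨f, h1, h2⟩ := exists_pres hs hz hc'.coprime_mul_right_right hg hp
  obtain ⟨d, hd⟩ := hD
  have h3 : (gsub n g).index ∣ m := ⟨d, Nat.eq_of_mul_eq_mul_left h.2 (by
    rw [← hL, ← (gsub n g).card_mul_index, hd]; ring)⟩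
  have h4 := card_of_ker_le (ker_le hs hz hK (F := gsub n f) (by
    rw [gsub_map' h1]; exact hc'.coprime_mul_left_right.coprime_dvd_right h3))
  have h5 := b K f h2
  rw [h4, gsub_map' h1, hd, h.1, ← mul_assoc] at h5
  exact Nat.dvd_of_mul_dvd_mul_right h.2 (dvd_of_mul_right_dvd h5)

theorem Cv.card {L : Type} [Group L] {r c : ℕ} (h : Cv L r c) {K : Type*} [Group K] [Finite K]
    (hK : commutator K = ⊤) {p : ℕ} (pp : p.Prime) (hp : IsPGroup p (center K)) (hc : p.Coprime r)
    (e : K ⧸ center K ≃* L) : Nat.card (center K) ∣ c := by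
  let s : Shrink.{0} K ≃* K := Shrink.mulEquiv
  let π : Shrink.{0} K →* L := (e.toMonoidHom.comp (QuotientGroup.mk' _)).comp s.toMonoidHom
  have hk : π.ker = (center K).comap s.toMonoidHom := by
    ext x
    exact (map_eq_one_iff _ e.injective).trans (QuotientGroup.eq_one_iff _)
  have e2 : π.ker ≃* center K := (MulEquiv.subgroupCongr (hk.trans (by
    rw [comap_equiv_eq_map_symm']; rfl))).trans (s.symm.subgroupMap _).symm
  rw [← Nat.card_congr e2.toEquiv]
  refine h _ π ((e.surjective.comp (QuotientGroup.mk'_surjective _)).comp s.surjective)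
    (fun x hx => mem_center_iff.2 fun y => s.injective ?_) ?_ p pp (hp.of_equiv e2.symm) hc
  · rw [hk] at hx
    rw [map_mul, map_mul]
    exact mem_center_iff.1 hx _
  · have := map_commutator ⊤ ⊤ s.symm.toMonoidHom
    rw [← _root_.commutator_def, hK, map_top_of_surjective _ s.symm.surjective] at this
    exact this.symm

theorem Cv.congr {L L' : Type} [Group L] [Group L'] {r c : ℕ} (h : Cv L r c) (e : L ≃* L') :
    Cv L' r c := by
  intro K _ _ π hs hz hK p pp hp hc
  have hk : (e.symm.toMonoidHom.comp π).ker = π.ker := by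
    ext x
    simp [MonoidHom.mem_ker]
  have := h K (e.symm.toMonoidHom.comp π) (e.symm.surjective.comp hs)
  rw [hk] at this
  exact this hz hK p pp hp hc

section
variable {G : Type*} [Group G]

/-- commutators in a group with an abelian normal subgroup and cyclic quotient -/
theorem exists_comm {A : Subgroup G} [hA : A.Normal] (hc : ∀ a ∈ A, ∀ b ∈ A, a * b = b * a) {y : G}
    (h : A ⊔ zpowers y = ⊤) {c : G} (hc' : c ∈ commutator G) : ∃ a ∈ A, ⁅a, y⁆ = c := by
  have m : ∀ a ∈ A, ⁅a, y⁆ ∈ A := fun a ha => by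
    have := mul_mem ha (hA.conj_mem _ (inv_mem ha) y)
    simpa only [commutatorElement_def, mul_assoc] using this
  let B : Subgroup G :=
    { carrier := {c | ∃ a ∈ A, ⁅a, y⁆ = c}
      one_mem' := ⟨1, one_mem _, by simp⟩
      mul_mem' := by
        rintro _ _ ⟨a, ha, rfl⟩ ⟨b, hb, rfl⟩
        refine ⟨a * b, mul_mem ha hb, ?_⟩
        rw [hc _ (m a ha) _ (m b hb), show ⁅a * b, y⁆ = a * ⁅b, y⁆ * a⁻¹ * ⁅a, y⁆ by
          simp only [commutatorElement_def]; group, hc a ha _ (m b hb), mul_inv_cancel_right]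
      inv_mem' := by
        rintro _ ⟨a, ha, rfl⟩
        refine ⟨a⁻¹, inv_mem ha, ?_⟩
        rw [show ⁅a⁻¹, y⁆ = a⁻¹ * ⁅a, y⁆⁻¹ * a by simp only [commutatorElement_def]; group,
          mul_assoc, ← hc a ha _ (inv_mem (m a ha)), inv_mul_cancel_left] }
  have hn : B.Normal := by
    rw [← normalizer_eq_top_iff, eq_top_iff, ← h, sup_le_iff, zpowers_le]
    refine ⟨fun a ha => mem_normalizer_iff.2 fun x => ⟨?_, ?_⟩, mem_normalizer_iff.2 fun x => ⟨?_, ?_⟩⟩
    · rintro ⟨b, hb, rfl⟩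
      exact ⟨b, hb, by rw [hc a ha _ (m b hb), mul_inv_cancel_right]⟩
    · rintro ⟨b, hb, e⟩
      refine ⟨b, hb, ?_⟩
      have := hc a ha _ (m b hb)
      rw [e] at this ⊢
      simpa [mul_assoc] using this
    · rintro ⟨b, hb, rfl⟩
      exact ⟨y * b * y⁻¹, hA.conj_mem _ hb y, by simp only [commutatorElement_def]; group⟩
    · rintro ⟨b, hb, e⟩
      refine ⟨y⁻¹ * b * y, hA.conj_mem' _ hb y, ?_⟩
      rw [show x = y⁻¹ * ⁅b, y⁆ * y by rw [e]; group]
      simp only [commutatorElement_def]; group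
  have h1 : ∀ x : G ⧸ B, x ∈ (⊤ : Subgroup G).map (QuotientGroup.mk' B) := fun x => by
    rw [map_top_of_surjective _ (QuotientGroup.mk'_surjective B)]; trivial
  have h2 : ∀ a ∈ A, (a : G ⧸ B) ∈ center (G ⧸ B) := fun a ha => mem_center_iff.2 fun x => by
    have := h1 x
    rw [← h, Subgroup.map_sup, MonoidHom.map_zpowers] at this
    refine (show _ ≤ centralizer {(a : G ⧸ B)} from sup_le ?_ ?_) this _ rfl |>.symm
    · rintro _ ⟨b, hb, rfl⟩ _ rfl
      exact congrArg (QuotientGroup.mk' B) (hc a ha b hb)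
    · rw [zpowers_le]
      rintro _ rfl
      rw [← commutatorElement_eq_one_iff_mul_comm]
      exact (QuotientGroup.eq_one_iff (N := B) ⁅a, y⁆).2 ⟨a, ha, rfl⟩
  have h3 : (y : G ⧸ B) ∈ center (G ⧸ B) := mem_center_iff.2 fun x => by
    have := h1 x
    rw [← h, Subgroup.map_sup, MonoidHom.map_zpowers] at this
    refine (show _ ≤ centralizer {(y : G ⧸ B)} from sup_le ?_ ?_) this _ rfl |>.symm
    · rintro _ ⟨b, hb, rfl⟩ _ rfl
      exact mem_center_iff.1 (h2 b hb) _
    · rw [zpowers_le]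
      rintro _ rfl
      rfl
  refine (show commutator G ≤ B from commutator_le.2 fun u _ v _ => ?_) hc'
  rw [← QuotientGroup.eq_one_iff]
  have : (u : G ⧸ B) ∈ center (G ⧸ B) := by
    refine (show ⊤ ≤ (center (G ⧸ B)).comap (QuotientGroup.mk' B) from ?_) (mem_top u)
    rw [← h]
    exact sup_le h2 (zpowers_le.2 h3)
  exact commutatorElement_eq_one_iff_mul_comm.2 (mem_center_iff.1 this (v : G ⧸ B)).symm

end

end Cfsg.Agent.Mult
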