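import Cfsg.Agent.Blk.Ind

/-! Defect groups. -/

set_option autoImplicit false
set_option linter.unusedSectionVars false

namespace Cfsg.Agent.Blk

open Cfsg Cfsg.Agent.Char Cfsg.Agent.PLoc MonoidAlgebra Subgroup
open scoped ComplexConjugate

variable {G : Type*} [Group G] [Finite G] {H : Type*} [Group H] [Finite H]

theorem le_cent_iff {Q : Subgroup G} {g : G} :
    Q ≤ centralizer ({g} : Set G) ↔ g ∈ centralizer (Q : Set G) := by
  simp only [mem_centralizer_iff, SetLike.le_def, Set.mem_singleton_iff, forall_eq,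
    SetLike.mem_coe]
  exact ⟨fun h u hu => (h hu).symm, fun h u hu => (h u hu).symm⟩

theorem cj_cent (u g : G) :
    cj u (centralizer ({g} : Set G)) = centralizer ({u * g * u⁻¹} : Set G) := by
  rw [← centralizer_zpowers, cj_centralizer, cj_zpowers, centralizer_zpowers]

theorem centralChar_isConj (χ : IrrCharacter G) {g h : G} (H : IsConj g h) :
    centralChar (χ : G → ℂ) g = centralChar (χ : G → ℂ) h := by
  rw [← om_cls_irr, ← om_cls_irr, cls_eq_of_conj H]

theorem apply_ne_zero_of_centralChar {χ : G → ℂ} {g : G} (h : centralChar χ g ≠ 0) : χ g ≠ 0 := by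
  intro h0; apply h; rw [centralChar, h0]; simp

theorem mem_center_cent (y : G) :
    (⟨y, mem_centralizer_singleton_iff.mpr rfl⟩ : centralizer ({y} : Set G)) ∈
      center (centralizer ({y} : Set G)) := by
  rw [mem_center_iff]
  intro g
  exact Subtype.ext (mem_centralizer_singleton_iff.mp g.2)

theorem nu_card_mul (p : ℕ) (K : Subgroup G) :
    (Nat.card G).factorization p = (Nat.card K).factorization p + K.index.factorization p := by
  rw [← K.card_mul_index, Nat.factorization_mul Nat.card_pos.ne' K.index_ne_zero_of_finite]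
  rfl

variable {p : ℕ} {M : Ideal AlgInt} [hp : PMod p M] [Fact p.Prime]

theorem isDefectGroup_iff {B : Set (IrrCharacter G)} {D : Subgroup G} :
    IsDefectGroup p M B D ↔ ∃ g, IsDefectClass M B g ∧ IsSylowOf p D (centralizer {g}) := by
  constructor
  · rintro ⟨g, hg, P, rfl⟩
    exact ⟨g, hg, isSylowOf_map_subtype P⟩
  · rintro ⟨g, hg, h⟩
    obtain ⟨S, -, hS⟩ := h.exists_sylow
    exact ⟨g, hg, S, hS.symm⟩

theorem defect_isPGroup {B : Set (IrrCharacter G)} {D : Subgroup G} (hD : IsDefectGroup p M B D) :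
    IsPGroup p D := by
  obtain ⟨g, -, h⟩ := isDefectGroup_iff.mp hD
  exact h.isP

theorem isDefectClass_isConj {B : Set (IrrCharacter G)} {g h : G} (hg : IsDefectClass M B g)
    (H : IsConj g h) : IsDefectClass M B h := by
  have h1 := (isClassFunction_blockCoeff B).of_isConj H
  exact ⟨h1 ▸ hg.1, h1 ▸ hg.2.1, fun χ hχ => centralChar_isConj χ H ▸ hg.2.2 χ hχ⟩

theorem defect_cj {B : Set (IrrCharacter G)} {D : Subgroup G} (hD : IsDefectGroup p M B D) (u : G) :
    IsDefectGroup p M B (cj u D) := by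
  obtain ⟨g, hg, h⟩ := isDefectGroup_iff.mp hD
  exact isDefectGroup_iff.mpr ⟨_, isDefectClass_isConj hg (isConj_conj g u), cj_cent u g ▸ h.cj u⟩

theorem exists_defect_ge {B : Set (IrrCharacter G)} {g : G} (hg : IsDefectClass M B g)
    {Q : Subgroup G} (hQ : IsPGroup p Q) (hQg : g ∈ centralizer (Q : Set G)) :
    ∃ D, IsDefectGroup p M B D ∧ Q ≤ D := by
  obtain ⟨D, hD, h⟩ := exists_isSylowOf_ge hQ (le_cent_iff.mpr hQg)
  exact ⟨D, isDefectGroup_iff.mpr ⟨g, hg, hD⟩, h⟩

theorem exists_defect {B : Set (IrrCharacter G)} (hB : IsPBlock M B) :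
    ∃ D, IsDefectGroup p M B D := by
  obtain ⟨g, hg⟩ := exists_isDefectClass hB
  obtain ⟨D, hD⟩ := exists_isSylowOf p (centralizer ({g} : Set G))
  exact ⟨D, isDefectGroup_iff.mpr ⟨g, hg, hD⟩⟩

theorem defect_exists_coeff {B : Set (IrrCharacter G)} (hB : IsPBlock M B) {D : Subgroup G}
    (hD : IsDefectGroup p M B D) {χ : IrrCharacter G} (hχ : χ ∈ B) {a : GA G} (ha : a ∈ ZR M G)
    (h : om χ a ∉ LP M) : ∃ x ∈ centralizer (D : Set G), a.coeff x ∉ LP M := by
  obtain ⟨g, hg, hS⟩ := isDefectGroup_iff.mp hD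
  exact min_max hB hS.isP hg.2.1 (le_cent_iff.mp hS.le) hχ ha h

theorem min_max_cls {B : Set (IrrCharacter G)} (hB : IsPBlock M B) {Q : Subgroup G}
    (hQ : IsPGroup p Q) {g : G} (hg : blockCoeff B g ∉ LP M)
    (hgQ : g ∈ centralizer (Q : Set G)) {χ : IrrCharacter G} (hχ : χ ∈ B) {h : G}
    (hh : centralChar (χ : G → ℂ) h ∉ LP M) : ∃ x ∈ centralizer (Q : Set G), IsConj h x := by
  obtain ⟨x, hx, h1⟩ := min_max hB hQ hg hgQ hχ (cls_mem_ZR h) (by rwa [om_cls_irr])
  exact ⟨x, hx, isConj_of_coeff_cls (ne_zero_of_notMem_LP h1)⟩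

theorem defect_le_cent {B : Set (IrrCharacter G)} (hB : IsPBlock M B) {D : Subgroup G}
    (hD : IsDefectGroup p M B D) {χ : IrrCharacter G} (hχ : χ ∈ B) {h : G}
    (hh : centralChar (χ : G → ℂ) h ∉ LP M) : ∃ x ∈ centralizer (D : Set G), IsConj h x := by
  obtain ⟨g, hg, hS⟩ := isDefectGroup_iff.mp hD
  exact min_max_cls hB hS.isP hg.2.1 (le_cent_iff.mp hS.le) hχ hh

theorem exists_cj_le_of_conj {Q D : Subgroup G} (hQ : IsPGroup p Q) {g x : G}
    (hD : IsSylowOf p D (centralizer {g})) (hx : x ∈ centralizer (Q : Set G)) (hc : IsConj g x) :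
    ∃ u, cj u Q ≤ D := by
  obtain ⟨c, rfl⟩ := isConj_iff.mp hc
  have h1 : cj c⁻¹ Q ≤ centralizer {g} := by
    rw [← le_cj_iff, cj_cent]; exact le_cent_iff.mpr hx
  obtain ⟨h, -, h2⟩ := hD.exists_cj_le (isPGroup_cj _ hQ) h1
  exact ⟨h * c⁻¹, by rwa [cj_mul]⟩

theorem le_defect {B : Set (IrrCharacter G)} (hB : IsPBlock M B) {D : Subgroup G}
    (hD : IsDefectGroup p M B D) {Q : Subgroup G} (hQ : IsPGroup p Q) {g : G}
    (hg : blockCoeff B g ∉ LP M) (hgQ : g ∈ centralizer (Q : Set G)) : ∃ u, cj u Q ≤ D := by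
  obtain ⟨h, hh, hS⟩ := isDefectGroup_iff.mp hD
  obtain ⟨χ, hχ⟩ := blk_nonempty hB
  obtain ⟨x, hx, hc⟩ := min_max_cls hB hQ hg hgQ hχ (hh.2.2 χ hχ)
  exact exists_cj_le_of_conj hQ hS hx hc

theorem defect_exists_cj_le {B : Set (IrrCharacter G)} (hB : IsPBlock M B) {D E : Subgroup G}
    (hD : IsDefectGroup p M B D) (hE : IsDefectGroup p M B E) : ∃ u, cj u D ≤ E := by
  obtain ⟨g, hg, hS⟩ := isDefectGroup_iff.mp hD
  exact le_defect hB hE hS.isP hg.2.1 (le_cent_iff.mp hS.le)

theorem defect_card_eq {B : Set (IrrCharacter G)} (hB : IsPBlock M B) {D E : Subgroup G}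
    (hD : IsDefectGroup p M B D) (hE : IsDefectGroup p M B E) : Nat.card D = Nat.card E := by
  obtain ⟨u, hu⟩ := defect_exists_cj_le hB hD hE
  obtain ⟨v, hv⟩ := defect_exists_cj_le hB hE hD
  exact le_antisymm (card_cj u D ▸ card_le_of_le hu) (card_cj v E ▸ card_le_of_le hv)

theorem defect_eq_of_le {B : Set (IrrCharacter G)} (hB : IsPBlock M B) {D E : Subgroup G}
    (hD : IsDefectGroup p M B D) (hE : IsDefectGroup p M B E) (h : D ≤ E) : D = E :=
  eq_of_le_of_card_ge h (defect_card_eq hB hD hE).ge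

theorem defect_conj {B : Set (IrrCharacter G)} (hB : IsPBlock M B) {D E : Subgroup G}
    (hD : IsDefectGroup p M B D) (hE : IsDefectGroup p M B E) : ∃ u, cj u D = E := by
  obtain ⟨u, hu⟩ := defect_exists_cj_le hB hD hE
  exact ⟨u, defect_eq_of_le hB (defect_cj hD u) hE hu⟩

theorem defect_eq_of_normal {B : Set (IrrCharacter G)} (hB : IsPBlock M B) {D E : Subgroup G}
    [D.Normal] (hD : IsDefectGroup p M B D) (hE : IsDefectGroup p M B E) : E = D := by
  obtain ⟨u, hu⟩ := defect_conj hB hD hE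
  rw [← hu, cj_eq_of_normal]

theorem defect_of_le_of_card {B : Set (IrrCharacter G)} (hB : IsPBlock M B) {D E Q : Subgroup G}
    (hD : IsDefectGroup p M B D) (hE : IsDefectGroup p M B E) (h : Q ≤ E)
    (hc : Nat.card D ≤ Nat.card Q) : IsDefectGroup p M B Q := by
  rwa [eq_of_le_of_card_ge h ((defect_card_eq hB hE hD).trans_le hc)]

theorem normal_le_defect {B : Set (IrrCharacter G)} (hB : IsPBlock M B) {D : Subgroup G}
    (hD : IsDefectGroup p M B D) {P : Subgroup G} [P.Normal] (hP : IsPGroup p P) : P ≤ D := by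
  obtain ⟨g, hg, hS⟩ := isDefectGroup_iff.mp hD
  obtain ⟨χ, hχ⟩ := blk_nonempty hB
  have h1 : g ∈ centralizer (P : Set G) := by
    by_contra h
    exact hg.2.2 χ hχ (centralChar_mem_LP hP χ h)
  exact hS.le_of_normalizes hP (le_cent_iff.mpr h1) (fun x _ => mem_normalizer_of_normal P x)

theorem Ind.map_defect_le {f : H →* G} {ξ : IrrCharacter H} {χ : IrrCharacter G}
    (h : Ind M f ξ χ) {b : Set (IrrCharacter H)} (hb : IsPBlock M b) (hξ : ξ ∈ b)
    {B : Set (IrrCharacter G)} (hB : IsPBlock M B) (hχ : χ ∈ B) {D : Subgroup H}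
    (hD : IsDefectGroup p M b D) : ∃ E, IsDefectGroup p M B E ∧ D.map f ≤ E := by
  obtain ⟨g, hg⟩ := exists_isDefectClass hB
  obtain ⟨x, hx, h1⟩ := defect_exists_coeff hb hD hξ (pull_mem_ZR f (cls_mem_ZR g))
    (notMem_LP_of_sub (h.cls g) (hg.2.2 χ hχ))
  refine exists_defect_ge (isDefectClass_isConj hg (isConj_of_coeff_cls (ne_zero_of_notMem_LP h1)))
    ((defect_isPGroup hD).map f) ?_
  rw [mem_centralizer_iff]
  rintro _ ⟨u, hu, rfl⟩
  rw [← map_mul, mem_centralizer_iff.mp hx u hu, map_mul]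

/-! ### Values of characters -/

theorem div_mem_LR_of_center (χ : IrrCharacter G) {z : G} (hz : z ∈ center G) :
    (χ : G → ℂ) z / (χ : G → ℂ) 1 ∈ LR M := by
  refine LR_of_isIntegral (Blk.isIntegral_of_pow_eq_one (orderOf_pos z).ne' ?_)
  rw [div_pow_of_center χ hz, pow_orderOf_eq_one, div_self χ.2.one_ne_zero]

theorem div_sub_one_mem_LP_of_center (χ : IrrCharacter G) {z : G} (hz : z ∈ center G)
    (hk : ∃ k, orderOf z = p ^ k) : (χ : G → ℂ) z / (χ : G → ℂ) 1 - 1 ∈ LP M := by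
  obtain ⟨k, hk⟩ := hk
  refine sub_one_mem_LP (k := k) ?_
  rw [div_pow_of_center χ hz, ← hk, pow_orderOf_eq_one, div_self χ.2.one_ne_zero]

theorem char_mul_sub_mem {χ : G → ℂ} (hχ : IsCharacter G χ) {x y : G} (hc : Commute x y)
    (hx : ∃ k, orderOf x = p ^ k) : χ (x * y) - χ y ∈ LP M := by
  let C := centralizer ({x} : Set G)
  let x' : C := ⟨x, mem_centralizer_singleton_iff.mpr rfl⟩
  let y' : C := ⟨y, mem_centralizer_singleton_iff.mpr hc.eq.symm⟩
  have : ∀ ψ : C → ℂ, IsCharacter C ψ → ψ (x' * y') - ψ y' ∈ LP M := fun ψ hψ => by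
    refine hψ.induction_on (P := fun ψ => ψ (x' * y') - ψ y' ∈ LP M) (by simp) ?_ ?_
    · intro θ hθ
      have h1 := apply_mul_of_center ⟨θ, hθ⟩ (mem_center_cent x) y'
      have h2 := div_sub_one_mem_LP_of_center (M := M) ⟨θ, hθ⟩ (mem_center_cent x)
        (by rwa [← orderOf_coe])
      have h3 := LP_mul_right h2 (irr_mem_LR ⟨θ, hθ⟩ y')
      rwa [sub_mul, one_mul, ← h1] at h3
    · intro φ ψ _ _ h1 h2
      have := (LP M).add_mem h1 h2
      simp only [Pi.add_apply]
      convert this using 1; ring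
  exact this _ (hχ.restrict C)

theorem char_sum_div_mem {χ : G → ℂ} (hχ : IsCharacter G χ) {y : G} {Q : Subgroup G} [Fintype Q]
    (hQ : Q ≤ centralizer {y}) : (∑ u : Q, χ (y * u)) / Nat.card Q ∈ LR M := by
  let C := centralizer ({y} : Set G)
  let y' : C := ⟨y, mem_centralizer_singleton_iff.mpr rfl⟩
  have : ∀ ψ : C → ℂ, IsCharacter C ψ →
      (∑ u : Q, ψ (y' * inclusion hQ u)) / Nat.card Q ∈ LR M := fun ψ hψ => by
    refine hψ.induction_on
      (P := fun ψ => (∑ u : Q, ψ (y' * inclusion hQ u)) / Nat.card Q ∈ LR M) (by simp) ?_ ?_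
    · intro θ hθ
      have h1 := apply_mul_of_center ⟨θ, hθ⟩ (mem_center_cent y)
      obtain ⟨n, hn⟩ := (hθ.isCharacter.comp (inclusion hQ)).classInner_nat isCharacter_one
      rw [classInner_one_right] at hn
      have h2 := (LR M).mul_mem (div_mem_LR_of_center (M := M) ⟨θ, hθ⟩ (mem_center_cent y))
        (natCast_mem (LR M) n)
      convert h2 using 1
      rw [← hn, Finset.sum_congr rfl (fun u _ => h1 _), ← Finset.mul_sum]
      ring
    · intro φ ψ _ _ h1 h2
      have := (LR M).add_mem h1 h2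
      simp only [Pi.add_apply, Finset.sum_add_distrib, add_div]
      exact this
  exact this _ (hχ.restrict C)

theorem lemV [Fintype G] {Φ : G → ℂ} (hΦ : IsClassFunction G Φ)
    (hc : ∀ χ : IrrCharacter G, classInner Φ χ ∈ LR M) {y : G} {Q : Subgroup G}
    (hQy : Q ≤ centralizer {y}) (h0 : ∀ u ∈ Q, u ≠ 1 → Φ (y * u) = 0) :
    Φ y / Nat.card Q ∈ LR M := by
  classical
  have h1 : Φ y = ∑ u : Q, Φ (y * u) := by
    rw [Finset.sum_eq_single 1]
    · simp
    · intro u _ hu
      exact h0 u u.2 fun h => hu (Subtype.ext h)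
    · simp
  rw [h1]
  simp only [hΦ.apply_eq_sum_irr (y * _)]
  rw [Finset.sum_comm, Finset.sum_div]
  refine (LR M).sum_mem fun χ _ => ?_
  rw [← Finset.mul_sum, mul_div_assoc]
  exact mul_mem (hc χ) (char_sum_div_mem χ.2.isCharacter hQy)

theorem dvd_orderOf_mul {Q : Subgroup G} (hQ : IsPGroup p Q) {y : G} (hy : ¬ p ∣ orderOf y)
    (hQy : Q ≤ centralizer {y}) {u : G} (hu : u ∈ Q) (hu1 : u ≠ 1) : p ∣ orderOf (y * u) := by
  have hc : Commute u y := mem_centralizer_singleton_iff.mp (hQy hu)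
  rw [← hc.eq]
  exact dvd_of_ppart_ne_one Fact.out (ppart_mk hc (IsPGroup_orderOf hQ hu) hy) hu1

/-! ### Heights -/

variable (p) in
/-- The exponent of `p` in the degree. -/
noncomputable abbrev nu (χ : IrrCharacter G) : ℕ := (charDegree (χ : G → ℂ)).factorization p

variable (p) in
/-- The least exponent of `p` in a degree. -/
noncomputable def minNu (B : Set (IrrCharacter G)) : ℕ := sInf (nu p '' B)

theorem blockDefect_eq (B : Set (IrrCharacter G)) :
    blockDefect p B = (Nat.card G).factorization p - minNu p B := rfl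

theorem minNu_le {B : Set (IrrCharacter G)} {χ : IrrCharacter G} (hχ : χ ∈ B) :
    minNu p B ≤ nu p χ := Nat.sInf_le ⟨χ, hχ, rfl⟩

theorem exists_nu_eq {B : Set (IrrCharacter G)} (hB : IsPBlock M B) :
    ∃ χ ∈ B, nu p χ = minNu p B := by
  obtain ⟨χ, hχ⟩ := blk_nonempty hB
  exact Nat.sInf_mem (s := nu p '' B) ⟨_, χ, hχ, rfl⟩

theorem height_zero_iff {B : Set (IrrCharacter G)} {χ : IrrCharacter G} (hχ : χ ∈ B) :
    blockHeight p B (χ : G → ℂ) = 0 ↔ nu p χ = minNu p B :=
  ⟨fun h => le_antisymm (Nat.sub_eq_zero_iff_le.mp h) (minNu_le hχ),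
    fun h => Nat.sub_eq_zero_iff_le.mpr h.le⟩

theorem nu_le_card (χ : IrrCharacter G) : nu p χ ≤ (Nat.card G).factorization p :=
  (Nat.factorization_le_iff_dvd (charDegree_ne_zero χ) Nat.card_pos.ne').mpr
    (charDegree_dvd_card χ) p

theorem nu_irrOne : nu p (irrOne G) = 0 := by
  rw [nu, charDegree_eq (n := 1) (by simp)]; simp

theorem deg_div_mem_LR {χ ψ : IrrCharacter G} :
    (ψ : G → ℂ) 1 / (χ : G → ℂ) 1 ∈ LR M ↔ nu p χ ≤ nu p ψ := by
  rw [irr_one_eq, irr_one_eq, div_mem_LR_iff (charDegree_ne_zero _) (charDegree_ne_zero _)]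

theorem deg_div_mem_LP {χ ψ : IrrCharacter G} :
    (ψ : G → ℂ) 1 / (χ : G → ℂ) 1 ∈ LP M ↔ nu p χ < nu p ψ := by
  rw [irr_one_eq, irr_one_eq, div_mem_LP_iff (charDegree_ne_zero _) (charDegree_ne_zero _)]

theorem centralChar_eq_mul (χ : IrrCharacter G) (g : G) : centralChar (χ : G → ℂ) g =
    ((centralizer ({g} : Set G)).index : ℂ) / charDegree (χ : G → ℂ) * (χ : G → ℂ) g := by
  rw [centralChar, ← irr_one_eq]; ring

theorem nu_index_le {χ : IrrCharacter G} {g : G} (h : centralChar (χ : G → ℂ) g ∉ LP M) :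
    (centralizer ({g} : Set G)).index.factorization p ≤ nu p χ := by
  by_contra hlt
  apply h
  rw [centralChar_eq_mul]
  exact LP_mul_right (div_mem_LP_of_lt index_ne_zero_of_finite (charDegree_ne_zero χ)
    (not_le.mp hlt)) (irr_mem_LR χ g)

theorem minNu_add_le {B : Set (IrrCharacter G)} (hB : IsPBlock M B) {y : G}
    (hy : blockCoeff B y ∉ LP M) :
    minNu p B + (Nat.card (centralizer ({y} : Set G))).factorization p ≤
      (Nat.card G).factorization p := by
  classical
  have := Fintype.ofFinite G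
  obtain ⟨D, hD⟩ := exists_isSylowOf p (centralizer ({y} : Set G))
  have hp0 : ((p ^ minNu p B : ℕ) : ℂ) ≠ 0 := by exact_mod_cast pow_ne_zero _ hp.out.1.ne_zero
  let Φ : G → ℂ := ∑ χ : IrrCharacter G,
    (if χ ∈ B then (χ : G → ℂ) 1 / (p ^ minNu p B : ℕ) else 0) • (χ : G → ℂ)
  have hΦ : ∀ g, blockCoeff B g = (p ^ minNu p B : ℕ) / Nat.card G * Φ g⁻¹ := fun g => by
    simp only [Φ]
    rw [blockCoeff_eq, Finset.sum_filter, Finset.sum_apply, Finset.mul_sum, Finset.mul_sum]
    refine Finset.sum_congr rfl fun χ _ => ?_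
    split_ifs
    · rw [Pi.smul_apply, smul_eq_mul, χ.2.isCharacter.apply_inv]; field_simp
    · simp
  have hreg := reg_of_blockCoeff_ne_zero hB (ne_zero_of_notMem_LP hy)
  have hDy : D ≤ centralizer {y⁻¹} := le_cent_iff.mpr (inv_mem (le_cent_iff.mp hD.le))
  have h1 := lemV (M := M) (Φ := Φ)
    (isClassFunction_sum _ _ fun χ _ => χ.2.isClassFunction.smul _) (fun χ => by
      rw [classInner_sum_irr]
      split_ifs with hχ
      · rw [irr_one_eq, div_mem_LR_iff (charDegree_ne_zero _) (pow_ne_zero _ hp.out.1.ne_zero),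
          hp.out.1.factorization_pow, Finsupp.single_eq_same]
        exact minNu_le hχ
      · exact zero_mem _) hDy (fun u hu hu1 => by
      have h2 := dvd_orderOf_mul hD.isP (by rwa [orderOf_inv]) hDy hu hu1
      rw [← orderOf_inv] at h2
      have h3 := blockCoeff_eq_zero (fS_mem_ZR hB).1 h2
      rw [hΦ, inv_inv, mul_eq_zero, div_eq_zero_iff] at h3
      exact h3.resolve_left (not_or.mpr ⟨hp0, card_ne_zero G⟩))
  by_contra hlt
  apply hy
  have h4 : blockCoeff B y =
      ((p ^ minNu p B * Nat.card D : ℕ) : ℂ) / Nat.card G * (Φ y⁻¹ / Nat.card D) := by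
    rw [hΦ]; have := card_ne_zero D; push_cast; field_simp
  rw [h4]
  refine LP_mul_right (div_mem_LP_of_lt (mul_ne_zero (pow_ne_zero _ hp.out.1.ne_zero)
    Nat.card_pos.ne') Nat.card_pos.ne' ?_) h1
  rw [hD.card_eq, ← pow_add, hp.out.1.factorization_pow, Finsupp.single_eq_same]
  exact not_le.mp hlt

theorem nu_index_defectClass {B : Set (IrrCharacter G)} (hB : IsPBlock M B) {y : G}
    (hy : IsDefectClass M B y) : (centralizer ({y} : Set G)).index.factorization p = minNu p B := by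
  obtain ⟨χ, hχ, h⟩ := exists_nu_eq (p := p) hB
  have h1 := nu_index_le (hy.2.2 χ hχ)
  have h2 := minNu_add_le hB hy.2.1
  have h3 := nu_card_mul p (centralizer ({y} : Set G))
  omega

theorem card_defect {B : Set (IrrCharacter G)} (hB : IsPBlock M B) {D : Subgroup G}
    (hD : IsDefectGroup p M B D) : Nat.card D = p ^ blockDefect p B := by
  obtain ⟨y, hy, hS⟩ := isDefectGroup_iff.mp hD
  rw [hS.card_eq, blockDefect_eq, nu_card_mul p (centralizer ({y} : Set G)),
    nu_index_defectClass hB hy, Nat.add_sub_cancel]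

theorem nu_index_defect {B : Set (IrrCharacter G)} (hB : IsPBlock M B) {D : Subgroup G}
    (hD : IsDefectGroup p M B D) : D.index.factorization p = minNu p B := by
  obtain ⟨χ, hχ⟩ := blk_nonempty hB
  have h1 := nu_card_mul p D
  rw [card_defect hB hD, hp.out.1.factorization_pow, Finsupp.single_eq_same, blockDefect_eq] at h1
  have h2 := (minNu_le (p := p) hχ).trans (nu_le_card χ)
  omega

theorem apply_defectClass_notMem {B : Set (IrrCharacter G)} (hB : IsPBlock M B) {y : G}
    (hy : IsDefectClass M B y) {χ : IrrCharacter G} (hχ : χ ∈ B) (h0 : nu p χ = minNu p B) :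
    (χ : G → ℂ) y ∉ LP M := fun h => by
  apply hy.2.2 χ hχ
  rw [mem_LP.symm, centralChar_eq_mul]
  exact LP_mul_left (div_unit_of_eq index_ne_zero_of_finite (charDegree_ne_zero χ)
    ((nu_index_defectClass hB hy).trans h0.symm)).1 h

theorem fS_singleton_mem_RG {χ : IrrCharacter G} (h : nu p χ = (Nat.card G).factorization p) :
    fS {χ} ∈ RG M G := fun g => by
  rw [coeff_fS, blockCoeff_singleton, ← mul_assoc, irr_one_eq, ← div_eq_inv_mul]
  exact mul_mem ((div_mem_LR_iff (charDegree_ne_zero χ) Nat.card_pos.ne').mpr h.ge)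
    (conj_irr_mem_LR χ g)

theorem blockOf_eq_singleton {χ : IrrCharacter G} (h : nu p χ = (Nat.card G).factorization p) :
    blockOf M (χ : G → ℂ) = {χ} :=
  Set.eq_singleton_iff_unique_mem.mpr ⟨mem_blockOf_self χ, fun _ hψ =>
    mem_of_fS_mem_RG (fS_singleton_mem_RG h) rfl hψ⟩

include hp in
theorem apply_eq_zero_of_defect_zero {χ : IrrCharacter G}
    (h : nu p χ = (Nat.card G).factorization p) {g : G} (hg : p ∣ orderOf g) :
    (χ : G → ℂ) g = 0 := by
  have := blockCoeff_eq_zero (fS_singleton_mem_RG (M := M) h) hg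
  rw [blockCoeff_singleton] at this
  simpa [Nat.card_pos.ne', χ.2.one_ne_zero] using this

include hp in
theorem nu_eq_of_vanish {χ : IrrCharacter G} (h : ∀ g, p ∣ orderOf g → (χ : G → ℂ) g = 0) :
    nu p χ = (Nat.card G).factorization p := by
  classical
  have := Fintype.ofFinite G
  refine le_antisymm (nu_le_card χ) ?_
  obtain ⟨P⟩ : Nonempty (Sylow p G) := inferInstance
  have hP : (P : Subgroup G) ≤ centralizer {1} := fun x _ => by
    simp [mem_centralizer_singleton_iff]
  have h1 := lemV (M := M) χ.2.isClassFunction (fun ψ => by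
      rw [irr_classInner]; split_ifs
      · exact one_mem _
      · exact zero_mem _) hP (fun u hu hu1 => h _
        (dvd_orderOf_mul P.isPGroup' (not_dvd_orderOf_one hp.out.1) hP hu hu1))
  rw [irr_one_eq, div_mem_LR_iff (charDegree_ne_zero χ) Nat.card_pos.ne', P.card_eq_multiplicity,
    hp.out.1.factorization_pow, Finsupp.single_eq_same] at h1
  exact h1

theorem nu_eq_of_blockOf_eq {χ : IrrCharacter G} (h : blockOf M (χ : G → ℂ) = {χ}) :
    nu p χ = (Nat.card G).factorization p := by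
  refine nu_eq_of_vanish (M := M) fun g hg => ?_
  have := blockCoeff_eq_zero (fS_mem_ZR (isPBlock_blockOf (M := M) χ)).1 hg
  rw [h, blockCoeff_singleton] at this
  simpa [Nat.card_pos.ne', χ.2.one_ne_zero] using this

theorem centralChar_irrOne (g : G) :
    centralChar (irrOne G : G → ℂ) g = (centralizer ({g} : Set G)).index := by
  simp [centralChar]

theorem sylow_isDefectGroup_principal (P : Sylow p G) :
    IsDefectGroup p M (principalBlock M G) (P : Subgroup G) := by
  obtain ⟨D, hD⟩ := exists_defect (p := p) (isPBlock_principal (M := M) (G := G))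
  have h1 := card_defect isPBlock_principal hD
  have h2 := minNu_le (p := p) (irrOne_mem_principal (M := M) (G := G))
  rw [nu_irrOne, Nat.le_zero] at h2
  rw [blockDefect_eq, h2, Nat.sub_zero, ← P.card_eq_multiplicity] at h1
  obtain ⟨u, -, hu⟩ := (isSylowOf_top P).exists_cj_le (defect_isPGroup hD) le_top
  have := defect_cj hD u
  rwa [eq_of_le_of_card_ge hu (by rw [card_cj, h1])] at this

end Cfsg.Agent.Blk
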