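import Cfsg.Agent.Blk.Norm

/-! Brauer's first main theorem and its relatives. -/

set_option autoImplicit false
set_option linter.unusedSectionVars false

namespace Cfsg.Agent.Blk

open Cfsg Cfsg.Agent.Char Cfsg.Agent.PLoc MonoidAlgebra Subgroup
open scoped ComplexConjugate

variable {G : Type*} [Group G] [Finite G] {H : Type*} [Group H] [Finite H]
variable {p : ℕ} [Fact p.Prime]

theorem isSylowOf_cent_of_conj {D : Subgroup G} {g c : G} (hD : IsSylowOf p D (centralizer {g}))
    (hc : IsConj g c) (h : c ∈ centralizer (D : Set G)) : IsSylowOf p D (centralizer {c}) := by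
  obtain ⟨u, rfl⟩ := isConj_iff.mp hc
  have h1 := hD.cj u
  rw [cj_cent] at h1
  exact h1.of_card_ge hD.isP (le_cent_iff.mpr h) (card_cj u D).le

theorem exists_normalizer_conj {D : Subgroup G} {c d : G} (hD : IsSylowOf p D (centralizer {c}))
    (hc : IsConj c d) (h : d ∈ centralizer (D : Set G)) :
    ∃ n ∈ normalizer (D : Set G), n * c * n⁻¹ = d := by
  have h2 := isSylowOf_cent_of_conj hD hc h
  obtain ⟨u, rfl⟩ := isConj_iff.mp hc
  have h1 := hD.cj u
  rw [cj_cent] at h1
  obtain ⟨k, hk, h3⟩ := h1.exists_cj_eq h2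
  refine ⟨k * u, cj_eq_self_iff.mp (by rw [cj_mul, h3]), ?_⟩
  have := mem_centralizer_singleton_iff.mp hk
  calc k * u * c * (k * u)⁻¹ = k * (u * c * u⁻¹) * k⁻¹ := by group
    _ = _ := by rw [this, mul_inv_cancel_right]

theorem card_comap_of_le_range {f : H →* G} (hf : Function.Injective f) {D : Subgroup G}
    (h : D ≤ f.range) : Nat.card (D.comap f) = Nat.card D := by
  rw [← card_map_of_injective hf (K := D.comap f), map_comap_eq_self h]

theorem map_cent {f : H →* G} (hf : Function.Injective f) (c : H) :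
    (centralizer ({c} : Set H)).map f = centralizer {f c} ⊓ f.range := by
  ext x
  simp only [mem_map, mem_centralizer_singleton_iff, mem_inf, MonoidHom.mem_range]
  constructor
  · rintro ⟨y, hy, rfl⟩
    exact ⟨by rw [← map_mul, hy, map_mul], y, rfl⟩
  · rintro ⟨h, y, rfl⟩
    exact ⟨y, hf (by simpa using h), rfl⟩

variable {M : Ideal AlgInt} [hp : PMod p M]

theorem exists_root_of_coeff {f : H →* G} (hf : Function.Injective f) {Q : Subgroup G}
    (hQ : IsPGroup p Q) (hQH : Q ≤ f.range) (hC : centralizer (Q : Set G) ≤ f.range)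
    (hN : f.range ≤ normalizer (Q : Set G)) {B : Set (IrrCharacter G)} (hB : IsPBlock M B) {g : G}
    (hg : blockCoeff B g ∉ LP M) (hgQ : g ∈ centralizer (Q : Set G)) :
    ∃ ξ : IrrCharacter H, ∃ χ ∈ B, Ind M f ξ χ := by
  have h1 := pull_br_mul_sub_mem hf hQ hC (fS_mem_ZR hB) (fS_mem_ZR hB)
  rw [fS_mul_self] at h1
  have h2 : ¬ ∀ ξ : IrrCharacter H, om ξ (pull f (br Q (fS B))) ∈ LP M := fun h => by
    have h3 := mem_PG_of_idem (pull_br_mem_ZR f hN (fS_mem_ZR hB))
      (by simpa using neg_mem h1) h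
    obtain ⟨x, rfl⟩ := hC hgQ
    have := h3 x
    rw [coeff_pull, coeff_br_of_mem _ hgQ, coeff_fS] at this
    exact hg this
  obtain ⟨ξ, hξ⟩ := not_forall.mp h2
  obtain ⟨χ, hχ⟩ := exists_ind (M := M) hf hQ hQH hC hN ξ
  exact ⟨ξ, χ, (hχ.mem_iff hB).mpr
    (notMem_LP_of_sub (om_pull_sub_br hf hQ hQH hN ξ (fS_mem_ZR hB)) hξ), hχ⟩

theorem exists_root {f : H →* G} (hf : Function.Injective f) {Q : Subgroup G}
    (hQH : Q ≤ f.range) (hC : centralizer (Q : Set G) ≤ f.range)
    (hN : f.range ≤ normalizer (Q : Set G)) {B : Set (IrrCharacter G)} (hB : IsPBlock M B)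
    {D : Subgroup G} (hD : IsDefectGroup p M B D) (hQD : Q ≤ D) :
    ∃ ξ : IrrCharacter H, ∃ χ ∈ B, Ind M f ξ χ := by
  obtain ⟨g, hg, h1⟩ := isDefectGroup_iff.mp hD
  exact exists_root_of_coeff hf (h1.isP.to_le hQD) hQH hC hN hB hg.2.1
    (le_cent_iff.mp (hQD.trans h1.le))

theorem Ind.defect_comap {f : H →* G} (hf : Function.Injective f) {D : Subgroup G}
    (hDH : D ≤ f.range) (hN : f.range ≤ normalizer (D : Set G)) {ξ : IrrCharacter H}
    {χ : IrrCharacter G} (h : Ind M f ξ χ) {b : Set (IrrCharacter H)} (hb : IsPBlock M b)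
    (hξ : ξ ∈ b) {B : Set (IrrCharacter G)} (hB : IsPBlock M B) (hχ : χ ∈ B)
    (hD : IsDefectGroup p M B D) : IsDefectGroup p M b (D.comap f) := by
  obtain ⟨E, hE⟩ := exists_defect hb
  haveI := normal_comap_of_range_le hN
  have h1 := normal_le_defect hb hE ((defect_isPGroup hD).comap_of_injective f hf)
  obtain ⟨E', hE', h2⟩ := h.map_defect_le hb hξ hB hχ hE
  refine defect_of_le_of_card hb hE hE h1 ?_
  rw [card_comap_of_le_range hf hDH, defect_card_eq hB hD hE', ← card_map_of_injective hf]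
  exact card_le_of_le h2

theorem mem_cent_of_blockCoeff {P : Subgroup G} [P.Normal] (hP : IsPGroup p P)
    {B : Set (IrrCharacter G)} (hB : IsPBlock M B) {g : G} (hg : blockCoeff B g ∉ LP M) :
    g ∈ centralizer (P : Set G) := by
  have hN : (MonoidHom.id G).range ≤ normalizer (P : Set G) := by
    rw [normalizer_eq_top]; exact le_top
  have hr : ∀ K : Subgroup G, K ≤ (MonoidHom.id G).range := fun K x _ => ⟨x, rfl⟩
  have h1 := pull_br_mul_sub_mem (f := MonoidHom.id G) Function.injective_id hP (hr _)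
    (fS_mem_ZR hB) (fS_mem_ZR hB)
  have h2 := pull_br_mem_ZR (MonoidHom.id G) hN (fS_mem_ZR hB)
  have h3 := fun ξ => om_pull_sub_br (f := MonoidHom.id G) Function.injective_id hP (hr _) hN ξ
    (fS_mem_ZR hB)
  simp only [pull_id, fS_mul_self] at h1 h2 h3
  have h4 := sub_mem_PG_of_idem (fS_mem_ZR hB) h2 (by rw [fS_mul_self, sub_self]; exact zero_mem _)
    (by simpa using neg_mem h1) h3
  by_contra hc
  have := h4 g
  rw [coeff_sub, Finsupp.sub_apply, coeff_br_of_notMem _ hc, sub_zero, coeff_fS] at this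
  exact hg this

theorem isSylowOf_of_blockCoeff {P : Subgroup G} [P.Normal] {B : Set (IrrCharacter G)}
    (hB : IsPBlock M B) (hP : IsDefectGroup p M B P) {g : G} (hg : blockCoeff B g ∉ LP M) :
    IsSylowOf p P (centralizer {g}) := by
  have h1 := le_cent_iff.mpr (mem_cent_of_blockCoeff (defect_isPGroup hP) hB hg)
  obtain ⟨Q, hQ⟩ := exists_isSylowOf p (centralizer ({g} : Set G))
  obtain ⟨u, hu⟩ := le_defect hB hP hQ.isP hg (le_cent_iff.mp hQ.le)
  exact hQ.of_card_ge (defect_isPGroup hP) h1 (card_cj u Q ▸ card_le_of_le hu)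

section first
variable {f : H →* G} (hf : Function.Injective f) {D : Subgroup G}
  (hN : f.range = normalizer (D : Set G))
include hf hN

omit hp in
theorem isSylowOf_map_cent {c : H} (hc : IsSylowOf p (D.comap f) (centralizer {c})) :
    IsSylowOf p D (centralizer {f c}) := by
  have h1 := hc.map f
  rw [map_comap_eq_self (hN ▸ le_normalizer), map_cent hf, hN] at h1
  exact isSylowOf_of_normalizer h1

omit hp in
theorem pull_br_cls {c : H} (hc : IsSylowOf p (D.comap f) (centralizer {c})) :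
    pull f (br D (cls (f c))) = cls c := by
  have h1 := isSylowOf_map_cent hf hN hc
  refine ga_ext fun h => ?_
  rw [coeff_pull]
  by_cases hh : IsConj c h
  · rw [coeff_cls_of_conj hh, coeff_br_of_mem, coeff_cls_of_conj (f.map_isConj hh)]
    obtain ⟨u, rfl⟩ := isConj_iff.mp hh
    simp only [map_mul, map_inv]
    exact conj_mem_of_mem_normalizer (normalizer_le_normalizer_centralizer D (hN ▸ ⟨u, rfl⟩))
      (le_cent_iff.mp h1.le)
  · rw [coeff_cls_of_not_conj hh]
    by_cases h2 : f h ∈ centralizer (D : Set G)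
    · rw [coeff_br_of_mem _ h2]
      refine coeff_cls_of_not_conj fun h3 => hh ?_
      obtain ⟨n, hn, h4⟩ := exists_normalizer_conj h1 h3 h2
      obtain ⟨u, rfl⟩ : n ∈ f.range := hN ▸ hn
      exact isConj_iff.mpr ⟨u, hf (by simpa using h4)⟩
    · exact coeff_br_of_notMem _ h2

theorem Ind.centralChar_sub {ξ : IrrCharacter H} {χ : IrrCharacter G} (h : Ind M f ξ χ) {c : H}
    (hc : IsSylowOf p (D.comap f) (centralizer {c})) :
    centralChar (ξ : H → ℂ) c - centralChar (χ : G → ℂ) (f c) ∈ LP M := by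
  have h1 := om_pull_sub_br (M := M) hf (isSylowOf_map_cent hf hN hc).isP (hN ▸ le_normalizer) hN.le ξ
    (cls_mem_ZR (f c))
  rw [pull_br_cls hf hN hc, om_cls_irr] at h1
  exact LP_trans (LP_symm h1) (h.cls _)

theorem Ind.mem_of_defect {ξ ξ' : IrrCharacter H} {χ : IrrCharacter G} (h : Ind M f ξ χ)
    (h' : Ind M f ξ' χ) {b : Set (IrrCharacter H)} (hb : IsPBlock M b) (hξ : ξ ∈ b)
    (hD : IsDefectGroup p M b (D.comap f)) : ξ' ∈ b := by
  have := Fintype.ofFinite (ConjClasses H)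
  haveI := normal_comap_of_range_le hN.le
  have h1 : om ξ' (fS b) - om ξ (fS b) ∈ LP M := by
    rw [om_eq_sum_cls _ (fS_mem_ZA b), om_eq_sum_cls _ (fS_mem_ZA b), ← Finset.sum_sub_distrib]
    refine (LP M).sum_mem fun C _ => ?_
    rw [← mul_sub, om_cls_irr, om_cls_irr, coeff_fS]
    by_cases hC : blockCoeff b C.out ∈ LP M
    · exact LP_mul_right hC (sub_mem (centralChar_mem_LR _ _) (centralChar_mem_LR _ _))
    · have h2 := isSylowOf_of_blockCoeff hb hD hC
      exact LP_mul_left (blockCoeff_mem_LR hb _)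
        (LP_trans (h'.centralChar_sub hf hN h2) (LP_symm (h.centralChar_sub hf hN h2)))
  rw [om_fS_of_mem hξ] at h1
  exact mem_of_om_fS_ne_zero (ne_zero_of_notMem_LP (notMem_LP_of_sub h1 one_notMem_LP))

theorem Ind.defect_of_comap {ξ : IrrCharacter H} {χ : IrrCharacter G} (h : Ind M f ξ χ)
    {b : Set (IrrCharacter H)} (hb : IsPBlock M b) (hξ : ξ ∈ b) {B : Set (IrrCharacter G)}
    (hB : IsPBlock M B) (hχ : χ ∈ B) (hD : IsDefectGroup p M b (D.comap f)) :
    IsDefectGroup p M B D := by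
  obtain ⟨E, hE, h1⟩ := h.map_defect_le hb hξ hB hχ hD
  rw [map_comap_eq_self (hN ▸ le_normalizer)] at h1
  obtain ⟨c, hc, h2⟩ := isDefectGroup_iff.mp hD
  have h3 := notMem_LP_of_sub (LP_symm (h.centralChar_sub hf hN h2)) (hc.2.2 ξ hξ)
  obtain ⟨x, hx, h4⟩ := defect_le_cent hB hE hχ h3
  obtain ⟨u, hu⟩ := exists_cj_le_of_conj (defect_isPGroup hE) (isSylowOf_map_cent hf hN h2) hx h4
  exact defect_of_le_of_card hB hE hE h1 (card_cj u E ▸ card_le_of_le hu)

end first

theorem le_normalizer_sup_cent (P : Subgroup G) :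
    P ⊔ centralizer (P : Set G) ≤ normalizer (P : Set G) :=
  sup_le le_normalizer (centralizer_le_normalizer _)

/-- A root in `D C(D)`. -/
theorem exists_root_defect {B : Set (IrrCharacter G)} (hB : IsPBlock M B) {D : Subgroup G}
    (hD : IsDefectGroup p M B D) {K : Subgroup G} (h1 : D ⊔ centralizer (D : Set G) ≤ K)
    (h2 : K ≤ normalizer (D : Set G)) :
    ∃ ξ : IrrCharacter K, ∃ χ ∈ B, Ind M K.subtype ξ χ ∧
      IsDefectGroup p M (blockOf M (ξ : K → ℂ)) (D.subgroupOf K) := by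
  have h3 : D ≤ K.subtype.range := by rw [range_subtype]; exact le_sup_left.trans h1
  have h4 : K.subtype.range ≤ normalizer (D : Set G) := by rwa [range_subtype]
  obtain ⟨ξ, χ, hχ, h⟩ := exists_root K.subtype_injective h3
    (by rw [range_subtype]; exact le_sup_right.trans h1) h4 hB hD le_rfl
  exact ⟨ξ, χ, hχ, h, h.defect_comap K.subtype_injective h3 h4 (isPBlock_blockOf ξ)
    (mem_blockOf_self ξ) hB hχ hD⟩

theorem centralChar_mul_notMem {B : Set (IrrCharacter G)} (hB : IsPBlock M B) {y : G}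
    (hy : IsDefectClass M B y) {P : Subgroup G} (hP : IsSylowOf p P (centralizer {y})) {x : G}
    (hx : x ∈ P) (hxP : x ∈ centralizer (P : Set G)) {χ : IrrCharacter G} (hχ : χ ∈ B) :
    centralChar (χ : G → ℂ) (x * y) ∉ LP M := by
  obtain ⟨ψ, hψ, h0⟩ := exists_nu_eq (p := p) hB
  refine notMem_LP_of_sub (blk_same hB hχ hψ _) ?_
  have h1 : (ψ : G → ℂ) (x * y) ∉ LP M := notMem_LP_of_sub (char_mul_sub_mem ψ.2.isCharacter
    (mem_centralizer_singleton_iff.mp (hP.le hx)) (IsPGroup_orderOf hP.isP hx))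
    (apply_defectClass_notMem hB hy hψ h0)
  rw [centralChar_eq_mul, mul_comm]
  refine mul_notMem_LP (irr_mem_LR _ _) h1 fun h => ?_
  rw [div_mem_LP_iff (index_pos' _).ne' (charDegree_ne_zero _)] at h
  have h2 : P ≤ centralizer {x * y} := le_cent_iff.mpr (mul_mem hxP (le_cent_iff.mp hP.le))
  have h3 := (Nat.factorization_le_iff_dvd (index_pos' _).ne' (index_pos' _).ne').mpr
    (index_dvd_of_le h2) p
  rw [nu_index_defect hB (isDefectGroup_iff.mpr ⟨y, hy, hP⟩), ← h0] at h3
  exact absurd h (not_lt.mpr h3)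

theorem exists_conj_ppart_mem {B : Set (IrrCharacter G)} (hB : IsPBlock M B) {P : Subgroup G}
    (hP : IsDefectGroup p M B P) {χ : IrrCharacter G} (hχ : χ ∈ B) {g : G}
    (hg : centralChar (χ : G → ℂ) g ∉ LP M) :
    ∃ x, IsConj g x ∧ x ∈ centralizer (P : Set G) ∧
      ∀ z, IsPPart p x z → z ∈ P ∧ z ∈ centralizer (P : Set G) := by
  obtain ⟨K, hK⟩ : ∃ K, K = P ⊔ centralizer (P : Set G) := ⟨_, rfl⟩
  obtain ⟨ξ, ψ, hψ, h, hD⟩ := exists_root_defect hB hP hK.ge (hK ▸ le_normalizer_sup_cent P)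
  have h4 : K.subtype.range ≤ normalizer (P : Set G) := by
    rw [range_subtype, hK]; exact le_normalizer_sup_cent P
  have h1 := om_pull_sub_br (M := M) K.subtype_injective (defect_isPGroup hP)
    (by rw [range_subtype, hK]; exact le_sup_left) h4 ξ (cls_mem_ZR g)
  have h2 := notMem_LP_of_sub (LP_symm h1) (notMem_LP_of_sub (h.cls g)
    (notMem_LP_of_sub (blk_same hB hψ hχ g) hg))
  obtain ⟨x, hx, h3⟩ := exists_cls_of_om_notMem ξ (pull_br_mem_ZR _ h4 (cls_mem_ZR g)) h2
  rw [coeff_pull] at hx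
  have h5 : K.subtype x ∈ centralizer (P : Set G) := by
    by_contra hc
    rw [coeff_br_of_notMem _ hc] at hx
    exact hx (zero_mem _)
  rw [coeff_br_of_mem _ h5] at hx
  refine ⟨x, isConj_of_coeff_cls (ne_zero_of_notMem_LP hx), h5, fun z hz => ⟨?_,
    ppart_mem Fact.out hz h5⟩⟩
  haveI : (P.subgroupOf K).Normal := normal_comap_of_range_le h4
  by_contra hc
  exact apply_ne_zero_of_centralChar (ne_zero_of_notMem_LP h3)
    (apply_eq_zero_of_normal_defect (isPBlock_blockOf ξ) hD (mem_blockOf_self ξ)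
      (x := ⟨z, ppart_mem Fact.out hz x.2⟩) (ppart_subgroup Fact.out hz) hc)

theorem Ind.exists_conj_center {f : H →* G} (hf : Function.Injective f) {ξ : IrrCharacter H}
    {χ : IrrCharacter G} (h : Ind M f ξ χ) {b : Set (IrrCharacter H)} (hb : IsPBlock M b)
    (hξ : ξ ∈ b) {B : Set (IrrCharacter G)} (hB : IsPBlock M B) (hχ : χ ∈ B) {D : Subgroup H}
    (hD : IsDefectGroup p M b D) {P : Subgroup G} (hP : IsDefectGroup p M B P) {x : G} (hx : x ∈ P)
    (hxP : x ∈ centralizer (P : Set G)) :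
    ∃ z ∈ D, z ∈ centralizer (D : Set H) ∧ IsConj x (f z) := by
  obtain ⟨y, hy, h1⟩ := isDefectGroup_iff.mp hP
  have h2 := notMem_LP_of_sub (h.cls (x * y)) (centralChar_mul_notMem hB hy h1 hx hxP hχ)
  obtain ⟨w, hw, h3⟩ := exists_cls_of_om_notMem ξ (pull_mem_ZR _ (cls_mem_ZR _)) h2
  rw [coeff_pull] at hw
  obtain ⟨v, hv, -, h4⟩ := exists_conj_ppart_mem hb hD hξ h3
  obtain ⟨z, hz⟩ := exists_ppart (p := p) Fact.out v
  refine ⟨z, (h4 z hz).1, (h4 z hz).2, ppart_isConj Fact.out (ppart_mk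
    (mem_centralizer_singleton_iff.mp (h1.le hx)) (IsPGroup_orderOf h1.isP hx)
    (reg_of_isDefectClass hB hy)) (ppart_map_inj f hf hz)
    ((isConj_of_coeff_cls (ne_zero_of_notMem_LP hw)).trans (f.map_isConj hv))⟩

theorem blockDefect_eq_zero_iff {B : Set (IrrCharacter G)} (hB : IsPBlock M B) {D : Subgroup G}
    (hD : IsDefectGroup p M B D) : blockDefect p B = 0 ↔ D = ⊥ := by
  rw [← card_eq_one, card_defect hB hD, Nat.pow_eq_one]
  simp [(Fact.out : p.Prime).ne_one]

omit hp in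
theorem exists_central_order_p {D : Subgroup G} (hD : IsPGroup p D) (h : D ≠ ⊥) :
    ∃ z ∈ D, z ∈ centralizer (D : Set G) ∧ orderOf z = p := by
  haveI := (nontrivial_iff_ne_bot D).mpr h
  haveI := hD.center_nontrivial
  obtain ⟨k, hk, h1⟩ := (hD.to_subgroup (center D)).nontrivial_iff_card.mp inferInstance
  obtain ⟨z, hz, h2⟩ := exists_mem_orderOf_eq_prime (H := center D) (p := p) Fact.out
    (h1 ▸ dvd_pow_self p hk.ne')
  refine ⟨z, z.2, fun x hx => ?_, by rwa [Subgroup.orderOf_coe]⟩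
  exact congrArg Subtype.val (mem_center_iff.mp hz ⟨x, hx⟩)

theorem nu_eq_of_defect_bot {B : Set (IrrCharacter G)} (hB : IsPBlock M B)
    (hD : IsDefectGroup p M B ⊥) {χ : IrrCharacter G} (hχ : χ ∈ B) :
    nu p χ = (Nat.card G).factorization p := by
  have h1 := nu_index_defect hB hD
  rw [index_bot] at h1
  exact le_antisymm (nu_le_card χ) (h1 ▸ minNu_le hχ)

theorem card_le_of_dual {ι κ F : Type*} [Field F] [Fintype ι] [Fintype κ] [DecidableEq ι]
    (Λ : ι → κ → F) (Φ : κ → ι → F) (h : ∀ i j, ∑ k, Λ i k * Φ k j = if i = j then 1 else 0) :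
    Fintype.card ι ≤ Fintype.card κ := by
  have h1 : Matrix.of Λ * Matrix.of Φ = 1 := by
    ext i j; rw [Matrix.mul_apply, Matrix.one_apply]; exact h i j
  calc Fintype.card ι = (Matrix.of Λ * Matrix.of Φ).rank := by rw [h1, Matrix.rank_one]
    _ ≤ (Matrix.of Λ).rank := Matrix.rank_mul_le_left _ _
    _ ≤ _ := Matrix.rank_le_card_width _

theorem card_le_of_inj {ι κ F : Type*} [Field F] [Fintype ι] [Fintype κ]
    (Λ : ι → κ → F) (h : ∀ v : κ → F, (∀ i, ∑ k, Λ i k * v k = 0) → v = 0) :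
    Fintype.card κ ≤ Fintype.card ι := by
  have h1 : Function.Injective (Matrix.of Λ).mulVecLin :=
    (injective_iff_map_eq_zero _).mpr fun v hv => h v fun i => congrFun hv i
  simpa using LinearMap.finrank_le_finrank_of_injective h1

/-- Duality between central characters and block idempotents, on a set of classes. -/
theorem card_blocks_le {ι : Type*} (B : ι → Set (IrrCharacter G)) (hB : ∀ i, IsPBlock M (B i))
    (hinj : Function.Injective B) (S : ConjClasses G → Prop)
    (hS : ∀ i j, ∀ χ ∈ B i, ∀ g, centralChar (χ : G → ℂ) g ∉ LP M → blockCoeff (B j) g ∉ LP M →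
      S (ConjClasses.mk g)) : Nat.card ι ≤ Nat.card {C // S C} := by
  classical
  have := Fintype.ofFinite (ConjClasses G)
  have : Finite ι := Finite.of_injective B hinj
  have := Fintype.ofFinite ι
  choose χ hχ using fun i => blk_nonempty (hB i)
  rw [Nat.card_eq_fintype_card, Nat.card_eq_fintype_card]
  refine card_le_of_dual (F := RF M)
    (fun i C => res M ⟨centralChar (χ i : G → ℂ) C.1.out, centralChar_mem_LR _ _⟩)
    (fun C j => res M ⟨blockCoeff (B j) C.1.out, blockCoeff_mem_LR (hB j) _⟩) fun i j => ?_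
  have h1 := om_eq_sum_cls (χ i : G → ℂ) (fS_mem_ZA (B j))
  simp only [om_cls_irr, coeff_fS] at h1
  rw [← Finset.sum_filter_add_sum_filter_not Finset.univ S,
    Finset.sum_subtype (p := S) (F := inferInstance) (Finset.univ.filter S) (by simp)] at h1
  have h2 : (if i = j then (1 : RF M) else 0) = res M (if i = j then 1 else 0) := by
    split_ifs <;> simp
  simp only [← map_mul]
  rw [← map_sum, h2, res_eq_res, AddSubmonoidClass.coe_finsetSum]
  have h3 : ((if i = j then 1 else 0 : LR M) : ℂ) = om (χ i) (fS (B j)) := by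
    split_ifs with h
    · subst h; rw [om_fS_of_mem (hχ i)]; rfl
    · rw [om_fS_of_notMem fun h' => h (hinj (blk_eq_of_mem (hB i) (hB j) (hχ i) h'))]; rfl
  rw [h3, h1]
  simp only [Subring.coe_mul, mul_comm (centralChar _ _), sub_add_cancel_left]
  refine neg_mem ((LP M).sum_mem fun C hC => ?_)
  by_contra hc
  refine (Finset.mem_filter.mp hC).2 (mk_out C ▸ hS i j _ (hχ i) _ (fun h => hc ?_) fun h => hc ?_)
  · exact LP_mul_left (blockCoeff_mem_LR (hB j) _) h
  · exact LP_mul_right h (centralChar_mem_LR _ _)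

theorem mem_PG_of_not_dvd (h : ¬ p ∣ Nat.card G) {a : GA G} (ha : a ∈ ZA G)
    (h1 : ∀ χ : IrrCharacter G, om χ a ∈ LP M) : a ∈ PG M G := by
  rw [cen_eq_sum ha]
  exact (PG M G).sum_mem fun χ _ => smul_mem_PG (h1 χ) (fS_mem_RG_of_not_dvd h _)

end Cfsg.Agent.Blk
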