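import Cfsg.Agent.Blk.Main
import Cfsg.Agent.Char.Misc

/-! Blocks, normal subgroups and quotients. -/

set_option autoImplicit false
set_option linter.unusedSectionVars false

namespace Cfsg.Agent.Blk

open Cfsg Cfsg.Agent.Char Cfsg.Agent.PLoc MonoidAlgebra Subgroup
open scoped ComplexConjugate

variable {G : Type*} [Group G] [Finite G] {H : Type*} [Group H] [Finite H]

/-- Inflation along a surjective homomorphism. -/
def infl (f : H →* G) (hf : Function.Surjective f) (χ : IrrCharacter G) : IrrCharacter H :=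
  ⟨fun h => (χ : G → ℂ) (f h), χ.2.comp_of_surjective f hf⟩

theorem infl_apply (f : H →* G) (hf : Function.Surjective f) (χ : IrrCharacter G) (h : H) :
    (infl f hf χ : H → ℂ) h = (χ : G → ℂ) (f h) := rfl

theorem infl_injective (f : H →* G) (hf : Function.Surjective f) :
    Function.Injective (infl f hf) := fun χ ψ h => Subtype.ext (funext fun g => by
  obtain ⟨x, rfl⟩ := hf g
  exact congrFun (congrArg Subtype.val h) x)

theorem om_infl (f : H →* G) (hf : Function.Surjective f) (χ : IrrCharacter G) (a : GA H) :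
    om (infl f hf χ) a = om χ (push f a) := (om_push f _ a).symm

theorem exists_infl (f : H →* G) (hf : Function.Surjective f) {ψ : IrrCharacter H}
    (h : ∀ n ∈ f.ker, (ψ : H → ℂ) n = (ψ : H → ℂ) 1) : ∃ χ, infl f hf χ = ψ := by
  obtain ⟨χ, hχ, h1⟩ := ψ.2.exists_of_surjective f hf h
  exact ⟨⟨χ, hχ⟩, Subtype.ext (funext h1)⟩

theorem charDegree_infl (f : H →* G) (hf : Function.Surjective f) (χ : IrrCharacter G) :
    charDegree (infl f hf χ : H → ℂ) = charDegree (χ : G → ℂ) := by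
  simp only [charDegree, infl_apply, map_one]

/-- Conjugation of a character by an automorphism. -/
def irrAut (α : MulAut H) (ξ : IrrCharacter H) : IrrCharacter H :=
  infl α.toMonoidHom α.surjective ξ

theorem irrAut_apply (α : MulAut H) (ξ : IrrCharacter H) (h : H) :
    (irrAut α ξ : H → ℂ) h = (ξ : H → ℂ) (α h) := rfl

theorem irrAut_irrAut (α β : MulAut H) (ξ : IrrCharacter H) :
    irrAut α (irrAut β ξ) = irrAut (β * α) ξ := rfl

theorem irrAut_one (ξ : IrrCharacter H) : irrAut 1 ξ = ξ := rfl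

theorem om_irrAut (α : MulAut H) (ξ : IrrCharacter H) (a : GA H) :
    om (irrAut α ξ) a = om ξ (push α.toMonoidHom a) := om_infl _ _ _ _

section cover
variable {e : H →* G} {α : G →* MulAut H}

/-- `e` embeds `H` as a normal subgroup on which `G` acts through `α`. -/
structure NormEmb (e : H →* G) (α : G →* MulAut H) : Prop where
  inj : Function.Injective e
  cnj : ∀ g h, e (α g h) = g * e h * g⁻¹

theorem normEmb_subtype (N : Subgroup G) [N.Normal] : NormEmb N.subtype MulAut.conjNormal :=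
  ⟨N.subtype_injective, fun _ _ => rfl⟩

variable (α) in
/-- Invariant sets of characters. -/
def Invt (A : Set (IrrCharacter H)) : Prop := ∀ g, ∀ ξ ∈ A, irrAut (α g) ξ ∈ A

theorem Invt.iff {A : Set (IrrCharacter H)} (hA : Invt α A) (g : G) (ξ : IrrCharacter H) :
    irrAut (α g) ξ ∈ A ↔ ξ ∈ A := by
  refine ⟨fun h => ?_, hA g ξ⟩
  have := hA g⁻¹ _ h
  rwa [irrAut_irrAut, ← map_mul, mul_inv_cancel, map_one, irrAut_one] at this

theorem Invt.compl {A : Set (IrrCharacter H)} (hA : Invt α A) : Invt α Aᶜ :=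
  fun g ξ h h' => h ((hA.iff g ξ).mp h')

variable (α) in
/-- The union of the orbits of the members of `b`. -/
def orb (b : Set (IrrCharacter H)) : Set (IrrCharacter H) := {ζ | ∃ g, ∃ ξ ∈ b, ζ = irrAut (α g) ξ}

theorem invt_orb (b : Set (IrrCharacter H)) : Invt α (orb α b) := by
  rintro g _ ⟨k, ξ, hξ, rfl⟩
  exact ⟨k * g, ξ, hξ, by rw [irrAut_irrAut, map_mul]⟩

theorem subset_orb {b : Set (IrrCharacter H)} {ξ : IrrCharacter H} (h : ξ ∈ b) : ξ ∈ orb α b :=
  ⟨1, ξ, h, by rw [map_one, irrAut_one]⟩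

theorem Invt.push_fS {A : Set (IrrCharacter H)} (hA : Invt α A) (g : G) :
    push (α g).toMonoidHom (fS A) = fS A := by
  classical
  refine cen_ext (push_mem_ZA _ (α g).surjective (fS_mem_ZA A)) (fS_mem_ZA A) fun ξ => ?_
  rw [← om_irrAut, om_fS, om_fS]
  exact if_congr (hA.iff g ξ) rfl rfl

theorem NormEmb.push_mem_ZA (he : NormEmb e α) {u : GA H}
    (hu : ∀ g, push (α g).toMonoidHom u = u) : push e u ∈ ZA G := by
  rw [mem_ZA]
  intro x g
  refine (single_comm_iff _ g).mp ?_ x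
  have key : ∀ a : GA H, single g 1 * push e a = push e (push (α g).toMonoidHom a) * single g 1 := by
    intro a
    induction a using induction_linear with
    | zero => simp
    | add a b ha hb => simp only [map_add, mul_add, add_mul, ha, hb]
    | single h c => simp [single_mul_single, he.cnj]
  rw [key, hu]

theorem NormEmb.push_pull (he : NormEmb e α) {a : GA G} (ha : a ∈ ZA G) (g : G) :
    push (α g).toMonoidHom (pull e a) = pull e a := by
  refine ga_ext fun h => ?_
  obtain ⟨k, rfl⟩ := (α g).surjective h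
  refine (coeff_push (α g).toMonoidHom (α g).injective _ k).trans ?_
  rw [coeff_pull, coeff_pull, he.cnj, mem_ZA.mp ha]

theorem NormEmb.fS_mem_ZA (he : NormEmb e α) {A : Set (IrrCharacter H)} (hA : Invt α A) :
    push e (fS A) ∈ ZA G := he.push_mem_ZA hA.push_fS

theorem NormEmb.range_normal (he : NormEmb e α) : e.range.Normal :=
  ⟨by rintro _ ⟨h, rfl⟩ g; exact ⟨α g h, he.cnj g h⟩⟩

variable [Fintype H]

variable (e) in
/-- `θ` is a constituent of the restriction of `χ`. -/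
def Over (χ : IrrCharacter G) (θ : IrrCharacter H) : Prop :=
  classInner (fun h => (χ : G → ℂ) (e h)) (θ : H → ℂ) ≠ 0

theorem NormEmb.over_aut (he : NormEmb e α) {χ : IrrCharacter G} {θ : IrrCharacter H}
    (h : Over e χ θ) (g : G) : Over e χ (irrAut (α g) θ) := by
  rw [Over, ← classInner_comp_equiv (α g).toEquiv] at h
  have h1 : (fun x => (χ : G → ℂ) (e x)) = fun x => (χ : G → ℂ) (e ((α g).toEquiv x)) := by
    ext x
    change _ = (χ : G → ℂ) (e (α g x))
    rw [he.cnj, χ.2.isClassFunction]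
  rw [Over, h1]
  exact h

theorem om_push_fS_ne_zero_iff (χ : IrrCharacter G) (A : Set (IrrCharacter H)) :
    om χ (push e (fS A)) ≠ 0 ↔ ∃ θ ∈ A, Over e χ θ := by
  classical
  obtain ⟨m, hm, -⟩ := (χ.2.isCharacter.comp e).exists_mult
  have h1 : ev χ (push e (fS A)) =
      ((∑ θ ∈ Finset.univ.filter (· ∈ A), m θ * charDegree (θ : H → ℂ) : ℕ) : ℂ) := by
    rw [ev_push, ev_fS]
    push_cast
    exact Finset.sum_congr rfl fun θ _ => by rw [hm, irr_one_eq]
  rw [om_def, div_ne_zero_iff, and_iff_left χ.2.one_ne_zero, h1, Nat.cast_ne_zero, Ne,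
    Finset.sum_eq_zero_iff]
  simp only [Over, hm, Finset.mem_filter, Finset.mem_univ, true_and, mul_eq_zero,
    charDegree_ne_zero, or_false, not_forall, ne_eq, Nat.cast_eq_zero, exists_prop]

theorem NormEmb.om_eq_one (he : NormEmb e α) {A : Set (IrrCharacter H)} (hA : Invt α A)
    {χ : IrrCharacter G} (h : om χ (push e (fS A)) ≠ 0) : om χ (push e (fS A)) = 1 := by
  have := om_mul χ (he.fS_mem_ZA hA) (push e (fS A))
  rw [← map_mul, fS_mul_self] at this
  exact (mul_left_cancel₀ h (by rw [← this, mul_one])).symm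

theorem NormEmb.mem_of_over (he : NormEmb e α) {A : Set (IrrCharacter H)} (hA : Invt α A)
    {χ : IrrCharacter G} (h : om χ (push e (fS A)) ≠ 0) {θ : IrrCharacter H} (hθ : Over e χ θ) :
    θ ∈ A := by
  by_contra hc
  have h1 := (om_push_fS_ne_zero_iff χ Aᶜ).mpr ⟨θ, hc, hθ⟩
  have := om_mul χ (he.fS_mem_ZA hA) (push e (fS Aᶜ))
  rw [← map_mul, fS_mul_fS, Set.inter_compl_self, fS_empty, map_zero, om_zero] at this
  exact mul_ne_zero h h1 this.symm

theorem NormEmb.clifford (he : NormEmb e α) {χ : IrrCharacter G} {θ ζ : IrrCharacter H}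
    (hθ : Over e χ θ) (hζ : Over e χ ζ) : ∃ g, ζ = irrAut (α g) θ := by
  obtain ⟨g, _, rfl, h⟩ := he.mem_of_over (invt_orb {θ})
    ((om_push_fS_ne_zero_iff χ _).mpr ⟨θ, subset_orb rfl, hθ⟩) hζ
  exact ⟨g, h⟩

theorem NormEmb.om_push_eq (he : NormEmb e α) {χ : IrrCharacter G} {θ : IrrCharacter H}
    (hθ : Over e χ θ) {u : GA H} (hu : ∀ g, push (α g).toMonoidHom u = u) :
    om χ (push e u) = om θ u := by
  obtain ⟨m, hm, hm'⟩ := (χ.2.isCharacter.comp e).exists_mult
  have h1 : (χ : G → ℂ) 1 = ∑ ζ : IrrCharacter H, m ζ * (ζ : H → ℂ) 1 := by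
    simpa using congrFun hm' 1
  rw [om_def, ev_push, hm', ev_sum_fun, div_eq_iff χ.2.one_ne_zero, h1, Finset.mul_sum]
  refine Finset.sum_congr rfl fun ζ _ => ?_
  rw [ev_smul_fun, ev_eq_om]
  by_cases h : m ζ = 0
  · simp [h]
  · obtain ⟨g, rfl⟩ := he.clifford hθ (ζ := ζ) (by rw [Over, hm]; exact_mod_cast h)
    rw [om_irrAut, hu]; ring

theorem NormEmb.om_eq_pull (he : NormEmb e α) {χ : IrrCharacter G} {θ : IrrCharacter H}
    (hθ : Over e χ θ) {a : GA G} (ha : a ∈ ZA G) (ha' : ∀ g, g ∉ e.range → a.coeff g = 0) :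
    om χ a = om θ (pull e a) := by
  conv_lhs => rw [← Blk.push_pull e he.inj ha']
  exact he.om_push_eq hθ (he.push_pull ha)

theorem NormEmb.coeff_cls (he : NormEmb e α) (n : H) (g : G) (hg : g ∉ e.range) :
    (cls (e n)).coeff g = 0 := coeff_cls_of_not_conj fun h => hg (by
  obtain ⟨c, rfl⟩ := isConj_iff.mp h
  exact ⟨α c n, he.cnj c n⟩)

theorem NormEmb.centralChar_eq (he : NormEmb e α) {χ : IrrCharacter G} {θ : IrrCharacter H}
    (hθ : Over e χ θ) (n : H) : centralChar (χ : G → ℂ) (e n) = om θ (pull e (cls (e n))) := by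
  rw [← om_cls_irr, he.om_eq_pull hθ (cls_mem_ZA _) (he.coeff_cls n)]

theorem exists_over_left (θ : IrrCharacter H) (he : Function.Injective e) :
    ∃ χ : IrrCharacter G, Over e χ θ := by
  by_contra hc
  have := Fintype.ofFinite G
  have h1 : ∀ χ : IrrCharacter G, ev χ (push e (fS {θ})) = 0 := fun χ => by
    rw [ev_eq_om]
    by_contra h
    obtain ⟨_, rfl, h2⟩ := (om_push_fS_ne_zero_iff χ {θ}).mp (left_ne_zero_of_mul h)
    exact hc ⟨χ, h2⟩
  classical
  have h2 : ev (fun g => if g = 1 then (Nat.card G : ℂ) else 0) (push e (fS {θ})) = 0 := by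
    rw [regular_eq_sum_irr, ev_sum_fun]
    simp [ev_smul_fun, h1]
  rw [ev_eq_sum, Finset.sum_eq_single 1, ← map_one e, coeff_push e he, coeff_fS,
    blockCoeff_singleton, θ.2.isCharacter.conj_apply_one] at h2
  · simp [Nat.card_pos.ne', θ.2.one_ne_zero] at h2
  · intro g _ hg; simp [hg]
  · simp

theorem exists_over_right (χ : IrrCharacter G) : ∃ θ : IrrCharacter H, Over e χ θ := by
  obtain ⟨θ, hθ, h⟩ := (χ.2.isCharacter.comp e).exists_irr_constituent (fun h => by
    simpa [χ.2.one_ne_zero] using congrFun h 1)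
  exact ⟨⟨θ, hθ⟩, h⟩

variable {M : Ideal AlgInt} [M.IsMaximal]

theorem sameBlock_infl (f : H →* G) (hf : Function.Surjective f) {χ ψ : IrrCharacter G}
    (h : SameBlock M (χ : G → ℂ) ψ) : SameBlock M (infl f hf χ : H → ℂ) (infl f hf ψ) :=
  sameBlock_of_om fun a ha => by
    rw [om_infl, om_infl]; exact om_sub_mem_of_sameBlock h (push_mem_ZR f hf ha)

theorem fS_orb_mem_ZR {b : Set (IrrCharacter H)} (hb : IsPBlock M b) : fS (orb α b) ∈ ZR M H := by
  refine fS_mem_ZR_of_closed ?_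
  rintro _ ⟨g, ξ, hξ, rfl⟩ ψ h
  have h1 := sameBlock_infl (α g⁻¹).toMonoidHom (α g⁻¹).surjective h
  change SameBlock M (irrAut (α g⁻¹) (irrAut (α g) ξ) : H → ℂ) (irrAut (α g⁻¹) ψ) at h1
  rw [irrAut_irrAut, ← map_mul, mul_inv_cancel, map_one, irrAut_one] at h1
  exact ⟨g, _, blk_mem hb hξ h1, by
    rw [irrAut_irrAut, ← map_mul, inv_mul_cancel, map_one, irrAut_one]⟩

theorem NormEmb.fS_mem_ZR (he : NormEmb e α) {A : Set (IrrCharacter H)} (hA : Invt α A)
    (h : fS A ∈ RG M H) : push e (fS A) ∈ ZR M G := ⟨push_mem_RG e h, he.fS_mem_ZA hA⟩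

theorem NormEmb.mem_of_sameBlock (he : NormEmb e α) {A : Set (IrrCharacter H)} (hA : Invt α A)
    (h : fS A ∈ RG M H) {χ χ' : IrrCharacter G} (hχ : SameBlock M (χ : G → ℂ) χ')
    {θ θ' : IrrCharacter H} (hθ : θ ∈ A) (h1 : Over e χ θ) (h2 : Over e χ' θ') : θ' ∈ A := by
  have h3 := om_sub_mem_of_sameBlock (sameBlock_symm hχ) (he.fS_mem_ZR hA h)
  rw [he.om_eq_one hA ((om_push_fS_ne_zero_iff χ A).mpr ⟨θ, hθ, h1⟩)] at h3
  exact he.mem_of_over hA (ne_zero_of_notMem_LP (notMem_LP_of_sub h3 one_notMem_LP)) h2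

theorem NormEmb.exists_over_of_cong (he : NormEmb e α) {b : Set (IrrCharacter H)}
    (hb : IsPBlock M b) {θ : IrrCharacter H} (hθ : θ ∈ b) {χ : IrrCharacter G}
    (h : ∀ n : H, centralChar (χ : G → ℂ) (e n) - om θ (pull e (cls (e n))) ∈ LP M) :
    ∃ ζ ∈ b, Over e χ ζ := by
  have := Fintype.ofFinite (ConjClasses G)
  have hs := he.fS_mem_ZR (invt_orb b) (fS_orb_mem_ZR hb).1
  have h1 : om χ (push e (fS (orb α b))) - om θ (pull e (push e (fS (orb α b)))) ∈ LP M := by
    rw [cen_eq_sum_cls hs.2, pull_sum, om_sum, om_sum, ← Finset.sum_sub_distrib]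
    refine (LP M).sum_mem fun C _ => ?_
    rw [pull_smul, om_smul, om_smul, ← mul_sub, om_cls_irr]
    by_cases hC : C.out ∈ e.range
    · obtain ⟨n, hn⟩ := hC
      rw [← hn]
      exact LP_mul_left (hs.1 _) (h n)
    · rw [coeff_push_of_notMem e _ hC, zero_mul]; exact zero_mem _
  rw [pull_push e he.inj, om_fS_of_mem (subset_orb hθ)] at h1
  obtain ⟨_, ⟨g, ξ, hξ, rfl⟩, h2⟩ := (om_push_fS_ne_zero_iff χ _).mp
    (ne_zero_of_notMem_LP (notMem_LP_of_sub h1 one_notMem_LP))
  have := he.over_aut h2 g⁻¹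
  rw [irrAut_irrAut, ← map_mul, mul_inv_cancel, map_one, irrAut_one] at this
  exact ⟨ξ, hξ, this⟩

theorem NormEmb.cong_of_over (he : NormEmb e α) {χ χ' : IrrCharacter G} {θ θ' : IrrCharacter H}
    (h : Over e χ θ) (hχ : SameBlock M (χ : G → ℂ) χ') (hθ : SameBlock M (θ : H → ℂ) θ') (n : H) :
    centralChar (χ' : G → ℂ) (e n) - om θ' (pull e (cls (e n))) ∈ LP M := by
  refine LP_trans (sameBlock_symm hχ _) ?_
  rw [he.centralChar_eq h]
  exact om_sub_mem_of_sameBlock hθ (pull_mem_ZR e (cls_mem_ZR _))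

theorem NormEmb.mem_orb_of_ind (he : NormEmb e α) {b : Set (IrrCharacter H)} (hb : IsPBlock M b)
    {ξ ξ' : IrrCharacter H} (hξ : ξ ∈ b) {χ : IrrCharacter G} (h : Ind M e ξ χ)
    (h' : Ind M e ξ' χ) : ξ' ∈ orb α b := by
  have hs := he.fS_mem_ZR (invt_orb b) (fS_orb_mem_ZR hb).1
  have h1 := LP_trans (h' _ hs) (LP_symm (h _ hs))
  rw [pull_push e he.inj, om_fS_of_mem (subset_orb hξ)] at h1
  exact mem_of_om_fS_ne_zero (ne_zero_of_notMem_LP (notMem_LP_of_sub h1 one_notMem_LP))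

end cover

variable {p : ℕ} {M : Ideal AlgInt} [hp : PMod p M] [Fact p.Prime]

theorem fS_mem_RG_of_not_dvd (h : ¬ p ∣ Nat.card G) (A : Set (IrrCharacter G)) : fS A ∈ RG M G := by
  refine (fS_mem_ZR_of_closed fun χ hχ ψ hψ => ?_).1
  have : nu p χ = (Nat.card G).factorization p :=
    le_antisymm (nu_le_card χ) (by rw [Nat.factorization_eq_zero_of_not_dvd h]; exact Nat.zero_le _)
  have h1 : ψ ∈ blockOf M (χ : G → ℂ) := hψ
  rw [blockOf_eq_singleton this] at h1
  rwa [h1]

theorem apply_eq_of_sameBlock {N : Subgroup G} [N.Normal] (hN : ¬ p ∣ Nat.card N)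
    {χ ψ : IrrCharacter G} (h : SameBlock M (χ : G → ℂ) ψ)
    (hχ : ∀ n ∈ N, (χ : G → ℂ) n = (χ : G → ℂ) 1) : ∀ n ∈ N, (ψ : G → ℂ) n = (ψ : G → ℂ) 1 := by
  classical
  have := Fintype.ofFinite N
  have he := normEmb_subtype N
  obtain ⟨θ, hθ⟩ := exists_over_right (e := N.subtype) ψ
  have h1 : Over N.subtype χ (irrOne N) := by
    rw [Over, irrOne_coe, classInner_one_right, Finset.sum_congr rfl fun n _ => hχ _ n.2]
    simp [χ.2.one_ne_zero]
  have h2 : θ ∈ ({irrOne N} : Set (IrrCharacter N)) :=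
    he.mem_of_sameBlock (A := {irrOne N}) (by rintro g _ rfl; rfl) (fS_mem_RG_of_not_dvd hN _) h
      rfl h1 hθ
  rw [h2] at hθ
  exact fun n hn => ψ.2.apply_eq_of_classInner_one N hθ hn

theorem principal_apply_eq {N : Subgroup G} [N.Normal] (hN : ¬ p ∣ Nat.card N)
    {ψ : IrrCharacter G} (h : ψ ∈ principalBlock M G) : ∀ n ∈ N, (ψ : G → ℂ) n = (ψ : G → ℂ) 1 :=
  apply_eq_of_sameBlock hN (χ := irrOne G) h fun _ _ => rfl

theorem not_dvd_pPrimeCore : ¬ p ∣ Nat.card (pPrimeCore p G) :=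
  (Nat.Prime.coprime_iff_not_dvd Fact.out).mp pPrimeCore_coprime.symm

theorem mem_of_index_pow {N : Subgroup G} [N.Normal] (h : ∃ k, N.index = p ^ k) {g : G}
    (hg : ¬ p ∣ orderOf g) : g ∈ N := by
  obtain ⟨k, hk⟩ := h
  refine mem_of_pow_mem_of_coprime (N.pow_index_mem g) ?_
  rw [hk]
  exact Nat.Coprime.pow_right _ ((Nat.Prime.coprime_iff_not_dvd Fact.out).mpr hg).symm

theorem mem_principal_of_apply_eq {N : Subgroup G} [hN : N.Normal] (h : ∃ k, N.index = p ^ k)
    {χ : IrrCharacter G} (hχ : ∀ n ∈ N, (χ : G → ℂ) n = (χ : G → ℂ) 1) :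
    χ ∈ principalBlock M G := by
  refine sameBlock_of_reg (χ := irrOne G) fun g hg => ?_
  rw [centralChar_irrOne, centralChar, hχ g (mem_of_index_pow h hg),
    mul_div_cancel_right₀ _ χ.2.one_ne_zero, sub_self]
  exact zero_mem _

theorem sameBlock_of_infl_coprime {f : H →* G} (hf : Function.Surjective f)
    (hN : ¬ p ∣ Nat.card f.ker) {χ ψ : IrrCharacter G}
    (h : SameBlock M (infl f hf χ : H → ℂ) (infl f hf ψ)) : SameBlock M (χ : G → ℂ) ψ := by
  classical
  have := Fintype.ofFinite G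
  have := Fintype.ofFinite H
  refine sameBlock_of_om fun a ha => ?_
  have h1 := om_sub_mem_of_sameBlock h (pull_mem_ZR f ha)
  have h2 : ∀ θ : IrrCharacter G, om (infl f hf θ) (pull f a) = Nat.card f.ker * om θ a := by
    intro θ
    rw [om_def, om_def, ev_eq_sum, ev_eq_sum]
    simp only [coeff_pull, infl_apply, map_one]
    rw [sum_comp_of_surjective f hf (fun g => a.coeff g * (θ : G → ℂ) g), mul_div_assoc]
  rw [h2, h2, ← mul_sub] at h1
  exact LP_of_mul_left (natCast_mem _ _) (mt natCast_mem_LP.mp hN) h1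

/-- Every block has a member with a given normal `p`-subgroup in its kernel. -/
theorem exists_infl_mem {P : Subgroup G} [P.Normal] (hP : IsPGroup p P)
    {B : Set (IrrCharacter G)} (hB : IsPBlock M B) :
    ∃ χ : IrrCharacter (G ⧸ P),
      infl (QuotientGroup.mk' P) (QuotientGroup.mk'_surjective P) χ ∈ B := by
  classical
  have := Fintype.ofFinite G
  by_contra hc
  push Not at hc
  have h1 : push (QuotientGroup.mk' P) (fS B) = 0 :=
    cen_ext (push_mem_ZA _ (QuotientGroup.mk'_surjective P) (fS_mem_ZA B)) (zero_mem _) fun χ => by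
      rw [← om_infl _ (QuotientGroup.mk'_surjective P), om_fS_of_notMem (hc χ), om_zero]
  have h2 : IsNilpotent (piF (⟨fS B, (fS_mem_ZR hB).1⟩ : RG M G)) := by
    refine isNilpotent_of_mapDomain_eq_zero hP (ga_ext fun y => ?_)
    change (mapDomain _ _).coeff y = 0
    have h3 := congrArg (fun a : GA (G ⧸ P) => a.coeff y) h1
    simp only [coeff_push_eq_sum] at h3
    rw [coeff_mapDomain_eq_sum]
    have h4 : ∀ g, (if QuotientGroup.mk' P g = y then
        (piF (⟨fS B, (fS_mem_ZR hB).1⟩ : RG M G)).coeff g else 0) =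
        res M (if QuotientGroup.mk' P g = y then ⟨(fS B).coeff g, (fS_mem_ZR hB).1 g⟩ else 0) := by
      intro g
      split_ifs
      · exact coeff_piF _ _
      · simp
    simp only [h4]
    rw [← map_sum, res_eq_zero, AddSubmonoidClass.coe_finsetSum]
    simp only [apply_ite Subtype.val, ZeroMemClass.coe_zero]
    rw [h3]; exact zero_mem _
  have h3 : IsIdempotentElem (piF (⟨fS B, (fS_mem_ZR hB).1⟩ : RG M G)) := by
    rw [IsIdempotentElem, ← map_mul]; congr 1; exact Subtype.ext (fS_mul_self B)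
  obtain ⟨χ, hχ⟩ := blk_nonempty hB
  exact fS_notMem_PG hχ (piF_eq_zero.mp (h3.eq_zero_of_isNilpotent h2))

theorem exists_reg_preimage {f : H →* G} (hf : Function.Surjective f) {g : G}
    (hg : ¬ p ∣ orderOf g) : ∃ h, f h = g ∧ ¬ p ∣ orderOf h := by
  obtain ⟨x, rfl⟩ := hf g
  obtain ⟨y, -, h1, h2⟩ := exists_coprime_preimage (p := p) f (mem_top x)
    ((Nat.Prime.coprime_iff_not_dvd Fact.out).mpr hg).symm
  exact ⟨y, h2, (Nat.Prime.coprime_iff_not_dvd Fact.out).mp h1.symm⟩

theorem eq_of_reg_of_map_eq {f : H →* G} (hk : IsPGroup p f.ker) {x y : H}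
    (hx : x ∈ centralizer (f.ker : Set H)) (hx' : ¬ p ∣ orderOf x) (hy : ¬ p ∣ orderOf y)
    (h : f x = f y) : x = y := by
  have h1 : y * x⁻¹ ∈ f.ker := by simp [MonoidHom.mem_ker, h]
  have h2 := ppart_mk (p := p) (mem_centralizer_iff.mp hx _ h1) (IsPGroup_orderOf hk h1) hx'
  rw [inv_mul_cancel_right] at h2
  exact (mul_inv_eq_one.mp (ppart_unique Fact.out h2 (ppart_one hy))).symm

theorem push_cls_of_reg {f : H →* G} (hf : Function.Surjective f) (hk : IsPGroup p f.ker) {x : H}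
    (hx : x ∈ centralizer (f.ker : Set H)) (hx' : ¬ p ∣ orderOf x) :
    push f (cls x) = cls (f x) := by
  classical
  have := Fintype.ofFinite H
  refine ga_ext fun g => ?_
  rw [coeff_push_eq_sum]
  by_cases hg : IsConj (f x) g
  · obtain ⟨c, rfl⟩ := isConj_iff.mp hg
    obtain ⟨c, rfl⟩ := hf c
    rw [coeff_cls_of_conj hg, Finset.sum_eq_single (c * x * c⁻¹), if_pos (by simp),
      coeff_cls_of_conj (isConj_conj x c)]
    · intro y _ hy
      split_ifs with h
      · refine coeff_cls_of_not_conj fun h' => hy (eq_of_reg_of_map_eq hk ?_ ?_ ?_ (by simp [h])).symm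
        · exact (normal_centralizer (H := f.ker)).conj_mem _ hx c
        · rwa [← orderOf_isConj (isConj_conj x c)]
        · rwa [← orderOf_isConj h']
      · rfl
    · simp
  · rw [coeff_cls_of_not_conj hg]
    refine Finset.sum_eq_zero fun y _ => ?_
    split_ifs with h
    · exact coeff_cls_of_not_conj fun h' => hg (h ▸ f.map_isConj h')
    · rfl

theorem sameBlock_of_infl_pgroup {f : H →* G} (hf : Function.Surjective f) (hk : IsPGroup p f.ker)
    (hC : ∀ x, ¬ p ∣ orderOf x → x ∈ centralizer (f.ker : Set H)) {χ ψ : IrrCharacter G}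
    (h : SameBlock M (infl f hf χ : H → ℂ) (infl f hf ψ)) : SameBlock M (χ : G → ℂ) ψ := by
  refine sameBlock_of_reg fun g hg => ?_
  obtain ⟨x, rfl, hx⟩ := exists_reg_preimage hf hg
  have := om_sub_mem_of_sameBlock h (cls_mem_ZR x)
  rwa [om_infl, om_infl, push_cls_of_reg hf hk (hC x hx) hx, om_cls_irr, om_cls_irr] at this

theorem fS_mul_single_of_ker {B : Set (IrrCharacter G)} {v : G}
    (h : ∀ χ ∈ B, (χ : G → ℂ) v = (χ : G → ℂ) 1) : fS B * single v 1 = fS B := by
  refine ga_ext fun g => ?_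
  rw [coeff_mul_single_apply, mul_one, coeff_fS, coeff_fS, blockCoeff, blockCoeff]
  congr 1
  refine finsum_congr fun χ => finsum_congr fun hχ => ?_
  rw [χ.2.isCharacter.apply_mul_of_eq_one']
  rw [χ.2.isCharacter.apply_inv, h χ hχ, χ.2.isCharacter.conj_apply_one]

theorem principal_apply_mul {u : G} (hu : ∃ k, orderOf u = p ^ k)
    {v : centralizer ({u} : Set G)} (hv : v ∈ pPrimeCore p (centralizer ({u} : Set G)))
    {c : centralizer ({u} : Set G)} (hc : IsPPart p (c : G) u) (hcv : IsPPart p (c * v : G) u)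
    {χ : IrrCharacter G} (hχ : χ ∈ principalBlock M G) :
    (χ : G → ℂ) (c * v) = (χ : G → ℂ) c := by
  classical
  have h1 := principal_section (M := M) hu χ.2.isClassFunction c hc
  have h2 := principal_section (M := M) hu χ.2.isClassFunction (c * v) hcv
  rw [blockPart_irr, if_pos hχ] at h1 h2
  rw [h1, ← Subgroup.coe_mul, h2, ← one_mul (1 : ℂ), ← single_mul_single, ← mul_assoc,
    ZA_comm (fS_mem_ZA _), mul_assoc,
    fS_mul_single_of_ker fun ξ hξ => principal_apply_eq not_dvd_pPrimeCore hξ v hv,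
    ZA_comm (fS_mem_ZA _), one_mul]

theorem sum_sq_of_ker [Fintype G] (N : Subgroup G) [N.Normal]
    [DecidablePred fun χ : IrrCharacter G => ∀ n ∈ N, (χ : G → ℂ) n = (χ : G → ℂ) 1] :
    ∑ χ ∈ Finset.univ.filter (fun χ : IrrCharacter G => ∀ n ∈ N, (χ : G → ℂ) n = (χ : G → ℂ) 1),
      (χ : G → ℂ) 1 ^ 2 =
      N.index := by
  classical
  rw [index_eq_card, ← sum_irr_one_sq]
  symm
  refine Finset.sum_bij (fun χ _ => infl (QuotientGroup.mk' N) (QuotientGroup.mk'_surjective N) χ)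
    (fun χ _ => ?_) (fun χ _ ψ _ h => infl_injective _ _ h) (fun ψ hψ => ?_) (fun χ _ => ?_)
  · refine Finset.mem_filter.mpr ⟨Finset.mem_univ _, fun n hn => ?_⟩
    rw [infl_apply, infl_apply, map_one, QuotientGroup.mk'_apply, (QuotientGroup.eq_one_iff n).mpr hn]
  · obtain ⟨χ, hχ⟩ := exists_infl (QuotientGroup.mk' N) (QuotientGroup.mk'_surjective N) (ψ := ψ)
      (by rw [QuotientGroup.ker_mk']; exact (Finset.mem_filter.mp hψ).2)
    exact ⟨χ, Finset.mem_univ _, hχ⟩
  · rw [infl_apply, map_one]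

theorem NormEmb.over_of_orb [Fintype H] {e : H →* G} {α : G →* MulAut H} (he : NormEmb e α)
    {b : Set (IrrCharacter H)} {χ : IrrCharacter G} {θ : IrrCharacter H} (hθ : θ ∈ orb α b)
    (h : Over e χ θ) : ∃ ξ ∈ b, Over e χ ξ := by
  obtain ⟨g, ξ, hξ, rfl⟩ := hθ
  have := he.over_aut h g⁻¹
  rw [irrAut_irrAut, ← map_mul, mul_inv_cancel, map_one, irrAut_one] at this
  exact ⟨ξ, hξ, this⟩

theorem over_of_sameBlock {N : Subgroup G} [N.Normal] [Fintype N] (hN : ¬ p ∣ Nat.card N)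
    {χ ψ : IrrCharacter G} (h : SameBlock M (χ : G → ℂ) ψ) {θ : IrrCharacter N}
    (hθ : Over N.subtype χ θ) : Over N.subtype ψ θ := by
  have he := normEmb_subtype N
  obtain ⟨θ', hθ'⟩ := exists_over_right (e := N.subtype) ψ
  obtain ⟨_, rfl, h1⟩ := he.over_of_orb (he.mem_of_sameBlock (invt_orb {θ})
    (fS_mem_RG_of_not_dvd hN _) h (subset_orb rfl) hθ hθ') hθ'
  exact h1

theorem blockOf_eq_singleton_of_not_dvd (h : ¬ p ∣ Nat.card G) (χ : IrrCharacter G) :
    blockOf M (χ : G → ℂ) = {χ} :=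
  blockOf_eq_singleton
    (le_antisymm (nu_le_card χ) (by rw [Nat.factorization_eq_zero_of_not_dvd h]; exact Nat.zero_le _))

theorem blockCoeff_one_ne_zero {B : Set (IrrCharacter G)} {χ : IrrCharacter G} (hχ : χ ∈ B) :
    blockCoeff B 1 ≠ 0 := by
  classical
  have := Fintype.ofFinite G
  rw [blockCoeff_eq]
  refine mul_ne_zero (inv_ne_zero (card_ne_zero G)) ?_
  have h1 : ∑ χ ∈ Finset.univ.filter (· ∈ B), (χ : G → ℂ) 1 * conj ((χ : G → ℂ) 1) =
      ((∑ χ ∈ Finset.univ.filter (· ∈ B), charDegree (χ : G → ℂ) ^ 2 : ℕ) : ℂ) := by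
    push_cast
    exact Finset.sum_congr rfl fun χ _ => by rw [χ.2.isCharacter.conj_apply_one, irr_one_eq, sq]
  rw [h1, Nat.cast_ne_zero, Ne, Finset.sum_eq_zero_iff]
  exact fun h => charDegree_ne_zero χ (pow_eq_zero_iff two_ne_zero |>.mp (h χ (by simpa using hχ)))

/-- The kernel of a block is `p`-regular. -/
theorem reg_of_mem_blockKer {B : Set (IrrCharacter G)} (hB : IsPBlock M B) {v : G}
    (hv : ∀ χ ∈ B, (χ : G → ℂ) v = (χ : G → ℂ) 1) : ¬ p ∣ orderOf v := by
  obtain ⟨χ, hχ⟩ := blk_nonempty hB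
  refine reg_of_blockCoeff_ne_zero hB (fun h => blockCoeff_one_ne_zero hχ ?_)
  rw [← h, blockCoeff, blockCoeff]
  congr 1
  exact finsum_congr fun χ => finsum_congr fun hχ => by rw [hv χ hχ]

theorem mem_principal_iff (h : ∃ k, (pPrimeCore p G).index = p ^ k) {χ : IrrCharacter G} :
    χ ∈ principalBlock M G ↔ ∀ n ∈ pPrimeCore p G, (χ : G → ℂ) n = (χ : G → ℂ) 1 :=
  ⟨principal_apply_eq not_dvd_pPrimeCore, mem_principal_of_apply_eq h⟩

theorem blockPart_classInd (B : Set (IrrCharacter G)) (c d : G) :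
    blockPart B (classInd d) c = (Nat.card (centralizer ({d} : Set G)) : ℂ)⁻¹ *
      ∑ᶠ χ ∈ B, (χ : G → ℂ) c * conj ((χ : G → ℂ) d) := by
  classical
  have := Fintype.ofFinite G
  rw [blockPart_eq, finsum_mem_irr, Finset.mul_sum]
  exact Finset.sum_congr rfl fun χ _ => by rw [classInner_classInd _ χ.2.isClassFunction]; ring

theorem card_cent_cent {u : G} {d : centralizer ({u} : Set G)} (hd : IsPPart p (d : G) u) :
    Nat.card (centralizer ({d} : Set (centralizer ({u} : Set G)))) =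
      Nat.card (centralizer ({(d : G)} : Set G)) := by
  rw [← card_subgroupOf_of_le (centralizer_le_of_ppart Fact.out hd)]
  congr 2
  ext x
  simp only [mem_centralizer_singleton_iff, mem_subgroupOf, Subtype.ext_iff, Subgroup.coe_mul]

/-- The principal block columns on a `p`-section. -/
theorem principal_sum_section {u : G} (hu : ∃ k, orderOf u = p ^ k)
    {c d : centralizer ({u} : Set G)} (hc : IsPPart p (c : G) u) (hd : IsPPart p (d : G) u) :
    ∑ᶠ χ ∈ principalBlock M G, (χ : G → ℂ) c * conj ((χ : G → ℂ) d) =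
      ∑ᶠ ξ ∈ principalBlock M (centralizer ({u} : Set G)),
        (ξ : centralizer ({u} : Set G) → ℂ) c * conj ((ξ : centralizer ({u} : Set G) → ℂ) d) := by
  classical
  have h1 := principal_section (M := M) hu (isClassFunction_classInd (d : G)) c hc
  set u' : centralizer ({u} : Set G) := ⟨u, mem_centralizer_singleton_iff.mpr rfl⟩
  rw [← blockPart_eq_ev _ ((isClassFunction_classInd (d : G)).restrict _),
    blockPart_congr_section (fS_mem_ZR isPBlock_principal).1 (θ' := classInd d) (x := u') ?_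
      (ppart_subgroup (x := u') Fact.out hc) (IsConj.refl _),
    blockPart_classInd, blockPart_classInd, card_cent_cent hd] at h1
  · exact mul_left_cancel₀ (inv_ne_zero (card_ne_zero _)) h1
  · intro x z hx hz
    have hz' : z = u' := by
      obtain ⟨k, rfl⟩ := isConj_iff.mp hz
      rw [mem_center_iff.mp (mem_center_cent u) k, mul_inv_cancel_right]
    subst hz'
    simp only [classInd]
    refine if_congr ⟨fun h => ?_, fun h => (centralizer ({u} : Set G)).subtype.map_isConj h⟩ rfl rfl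
    obtain ⟨k, hk⟩ := isConj_iff.mp h
    have h2 := ppart_conj hd k
    rw [hk] at h2
    have h3 : k * u * k⁻¹ = u := ppart_unique Fact.out h2 (ppart_coe hx)
    exact isConj_iff.mpr ⟨⟨k, mem_centralizer_singleton_iff.mpr (mul_inv_eq_iff_eq_mul.mp h3)⟩,
      Subtype.ext hk⟩

end Cfsg.Agent.Blk
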