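import Cfsg.Agent.Blk.BS3
import Cfsg.Agent.S0942
import Cfsg.Agent.S0943

/-! Glauberman's Z*-theorem. -/

set_option autoImplicit false
set_option linter.unusedSectionVars false

namespace Cfsg.Agent.Blk

open Cfsg Cfsg.Agent.Char Cfsg.Agent.PLoc MonoidAlgebra Subgroup
open scoped ComplexConjugate

variable {G : Type*} [Group G] [Finite G]

theorem isolated_subgroup {u : G} (hu : IsIsolatedInvolution u) {K : Subgroup G} (hK : u ∈ K) :
    IsIsolatedInvolution (⟨u, hK⟩ : K) :=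
  ⟨by simpa using hu.1, fun g hc => Subtype.ext (hu.2 g (hc.map K.subtype))⟩

theorem isolated_odd_comm {u : G} (hu : IsIsolatedInvolution u) (g : G) :
    (orderOf (u * g * u⁻¹ * g⁻¹)).Coprime 2 := by
  rw [Inv.inv_of_ord2 hu.1, show u * g * u * g⁻¹ = u * (g * u * g⁻¹) by group]
  exact Nat.coprime_two_right.mpr (Inv.isolated_odd_mul hu (isConj_conj u g))

theorem zstar_val {M : Ideal AlgInt} (hM : IsPModular 2 M) {u v : G} (hu : IsIsolatedInvolution u)
    (hv : orderOf v = 2) (hc : Commute u v) (hne : v ≠ u)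
    (ih : ∀ x z : G, IsIsolatedInvolution x → orderOf z = 2 → ∀ (hx : x ∈ centralizer {z})
      (k : centralizer ({z} : Set G)), ⟨x, hx⟩ * k * ⟨x, hx⟩⁻¹ * k⁻¹ ∈ pPrimeCore 2 _)
    {χ : IrrCharacter G} (hχ : χ ∈ principalBlock M G) :
    (χ : G → ℂ) u * (χ : G → ℂ) v = (χ : G → ℂ) 1 * (χ : G → ℂ) (u * v) := by
  refine S0943.result χ u v fun x y hx hy => ?_
  have hx' := Inv.isolated_of_isConj hu hx
  have hy2 : orderOf y = 2 := Inv.orderOf_isConj hy ▸ hv
  have h1 := Inv.isolated_mod_four hx' hy2 fun h =>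
    hne (Inv.isolated_eq hu (hx.trans (h.symm.trans hy.symm)) hc)
  rw [← Inv.orderOf_isConj (isConj_iff.mpr ⟨y, by group⟩ : IsConj (x * y) (y * x))] at h1
  obtain ⟨h2, h3, h4⟩ := Inv.s0209 x y hx'.1 hy2 (Nat.even_iff.mpr (by omega))
  obtain ⟨m, hm⟩ : ∃ m, orderOf (x * y) / 2 = 2 * m + 1 := ⟨orderOf (x * y) / 4, by omega⟩
  have h5 := (Inv.isConj_mul_pow (Inv.sq_of_ord2 hx'.1) (Inv.sq_of_ord2 hy2) _).2 ⟨m, hm⟩
  set z := (x * y) ^ (orderOf (x * y) / 2) with hz
  have h6 := ih x z hx' h2 (mem_centralizer_singleton_iff.mpr h3.symm)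
    ⟨y, mem_centralizer_singleton_iff.mpr h4.symm⟩
  have h7 : x * y = z * (x * y * x⁻¹ * y⁻¹) ^ (m + 1) := by
    rw [Inv.inv_of_ord2 hx'.1, Inv.inv_of_ord2 hy2, mul_assoc (x * y), ← sq, ← pow_mul, hz,
      ← pow_add, show orderOf (x * y) / 2 + 2 * (m + 1) = orderOf (x * y) + 1 by omega, pow_succ,
      pow_orderOf_eq_one, one_mul]
  rw [h7, S0942.result 2 M hM z ⟨1, by simpa using h2⟩ ((x * y * x⁻¹ * y⁻¹) ^ (m + 1))
    (pow_mem (mem_map_of_mem (centralizer {z}).subtype h6) _) χ hχ]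
  obtain ⟨g, hg⟩ := isConj_iff.mp hx.symm
  obtain ⟨k, hk⟩ := isConj_iff.mp (hy.trans (h5.trans (isConj_conj _ g)))
  obtain ⟨c, -, e1, e2⟩ := Inv.s1182 u hu ⊤ (le_normalizer (mem_top u)) v (g * (x * z) * g⁻¹) (mem_top _) (mem_top _)
    hc.symm (hg ▸ ((Commute.refl x).mul_left h3).map (MulAut.conj g)) k (mem_top _) hk
  rw [← χ.2.isClassFunction (u * v) c, ← conj_mul, e2, e1.eq, mul_inv_cancel_right, ← hg, conj_mul,
    Inv.mul_mul_of_ord2 hx'.1, χ.2.isClassFunction]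

universe u in
theorem zstar_aux (n : ℕ) : ∀ (G : Type u) [Group G] [Finite G], Nat.card G = n →
    ∀ t : G, IsIsolatedInvolution t → ∀ g, t * g * t⁻¹ * g⁻¹ ∈ pPrimeCore 2 G := by
  induction n using Nat.strong_induction_on with | _ n ih => ?_
  intro G _ _ hG u hu
  classical
  by_cases h1 : ∃ z ∈ center G, orderOf z = 2
  · obtain ⟨z, hz, hz2⟩ := h1
    intro g
    by_cases e : u = z
    · rw [e, ← mem_center_iff.mp hz g]; simp
    have := Inv.normal_of_le_center (zpowers_le.mpr hz)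
    have h2 := ih _ (hG ▸ card_quotient_lt (N := zpowers z) (by
      rw [Ne, zpowers_eq_bot]; exact Inv.ne_one_of_ord2 hz2)) _ rfl _ (Inv.s1181 u hu (zpowers z) (by
        rw [Inv.mem_zpowers_ord2 (Inv.sq_of_ord2 hz2), not_or]
        exact ⟨Inv.ne_one_of_ord2 hu.1, e⟩)).2 g
    have h3 : IsSylowOf 2 (zpowers z)
        ((pPrimeCore 2 (G ⧸ zpowers z)).comap (QuotientGroup.mk' (zpowers z))) :=
      ⟨QuotientGroup.le_comap_mk' _ _, IsPGroup.of_card (n := 1) (by
        rw [Nat.card_zpowers, hz2]; rfl), by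
          have := relIndex_ker ((pPrimeCore 2 (G ⧸ zpowers z)).comap
            (QuotientGroup.mk' (zpowers z))) (QuotientGroup.mk' (zpowers z))
          rw [QuotientGroup.ker_mk',
            map_comap_eq_self_of_surjective (QuotientGroup.mk'_surjective _)] at this
          rw [this]
          exact odd_iff_not_dvd.mp (Nat.coprime_two_right.mp pPrimeCore_coprime)⟩
    have h4 := h3.npc_of_burnside fun x _ => by
      rw [centralizer_zpowers, mem_centralizer_singleton_iff]; exact mem_center_iff.mp hz x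
    refine pPrimeCoreOf_le_pPrimeCore ((pPrimeCore 2 (G ⧸ zpowers z)).comap
      (QuotientGroup.mk' (zpowers z))) ?_
    rw [← h4.pResOf_eq_pPrimeCoreOf]
    exact mem_pResOf h2 (isolated_odd_comm hu g)
  by_cases h2 : R1 G
  · exact bs_main _ G rfl h2 u hu.1
  obtain ⟨v, hv, hc, hne⟩ : ∃ v, orderOf v = 2 ∧ Commute u v ∧ v ≠ u := by
    obtain ⟨S, hS⟩ := (IsPGroup.of_card (p := 2) (G := zpowers u) (n := 1)
      (by rw [Nat.card_zpowers, hu.1]; rfl)).exists_le_sylow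
    have huS : u ∈ (S : Subgroup G) := hS (mem_zpowers u)
    by_contra h
    have key : ∀ a : S, orderOf a = 2 → (a : G) = u := fun a ha => by_contra fun e =>
      h ⟨a, (orderOf_coe a).trans ha, (mul_inv_eq_iff_eq_mul.mp (Inv.isolated_eq_of_mem_pgroup hu
        (isConj_conj u a) S.isPGroup' huS (mul_mem (mul_mem a.2 huS) (inv_mem a.2)))).symm, e⟩
    exact h2 (r1_of_sylow S fun a b ha hb _ => Subtype.ext ((key a ha).trans (key b hb).symm))
  obtain ⟨M, hM⟩ := exists_isPModular 2 Nat.prime_two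
  have : PMod 2 M := ⟨hM⟩
  have h3 : ∀ x z : G, IsIsolatedInvolution x → orderOf z = 2 → ∀ (hx : x ∈ centralizer {z})
      (k : centralizer ({z} : Set G)), ⟨x, hx⟩ * k * ⟨x, hx⟩⁻¹ * k⁻¹ ∈ pPrimeCore 2 _ :=
    fun x z hx hz hxz => ih _ (hG ▸ card_lt_of_ne_top fun e => h1 ⟨z, mem_center_iff.mpr fun g =>
      mem_centralizer_singleton_iff.mp (e ▸ mem_top g), hz⟩) _ rfl _ (isolated_subgroup hx hxz)
  by_contra h4
  have h5 : ∀ χ ∈ principalBlock M G, χ ≠ irrOne G →
      (χ : G → ℂ) v * conj ((χ : G → ℂ) 1) + (χ : G → ℂ) v * conj ((χ : G → ℂ) u) = 0 := by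
    intro χ hχ hne1
    have e1 := zstar_val hM hu hv hc hne h3 hχ
    have e2 := zstar_val hM hu (v := u * v) (Inv.ord2_iff.mpr ⟨by
      rw [← sq, hc.mul_pow, sq, sq, Inv.sq_of_ord2 hu.1, Inv.sq_of_ord2 hv, one_mul], fun e =>
        hne ((eq_inv_of_mul_eq_one_right e).trans (Inv.inv_of_ord2 hu.1))⟩)
      ((Commute.refl u).mul_right hc) (by simpa using Inv.ne_one_of_ord2 hv) h3 hχ
    rw [Inv.mul_mul_of_ord2 hu.1] at e2
    have e3 : (χ : G → ℂ) u ≠ (χ : G → ℂ) 1 := fun e => h4 (by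
      have := χ.2.isClassFunction.charKer_normal
      have hK := χ.2.isCharacter.mem_charKer.mpr e
      refine zstar_of_normal hu hK (ih _ ?_ _ rfl _ (isolated_subgroup hu hK))
      refine hG ▸ card_lt_of_ne_top fun e => hne1 (Subtype.ext (χ.2.eq_one_of_forall_eq fun g => ?_))
      exact χ.2.isCharacter.mem_charKer.mp (e ▸ mem_top g))
    rw [← χ.2.isCharacter.apply_inv, ← χ.2.isCharacter.apply_inv, inv_one, Inv.inv_of_ord2 hu.1]
    apply mul_left_cancel₀ (sub_ne_zero.mpr e3)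
    linear_combination (χ : G → ℂ) u * e1 + (χ : G → ℂ) 1 * e2
  have h6 := block_orth (isPBlock_principal (M := M)) (ppart_self Nat.prime_two ⟨1, by simpa using hv⟩)
    (ppart_self Nat.prime_two ⟨1, by simpa using hu.1⟩) fun h => hne (Inv.isolated_eq hu h.symm hc)
  have h7 := block_orth (isPBlock_principal (M := M)) (ppart_self Nat.prime_two ⟨1, by simpa using hv⟩)
    (ppart_one (y := (1 : G)) (by simp)) fun h => Inv.ne_one_of_ord2 hv (isConj_one_right.mp h.symm)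
  rw [finsum_mem_irr] at h6 h7
  have h8 := congrArg₂ (· + ·) h7 h6
  rw [← Finset.sum_add_distrib, Finset.sum_eq_single (irrOne G)
    (fun χ hχ => h5 χ (Finset.mem_filter.mp hχ).2) (by simp [irrOne_mem_principal])] at h8
  norm_num at h8

/-- Glauberman's Z*-theorem. -/
theorem zstar {t : G} (ht : IsIsolatedInvolution t) (g : G) : t * g * t⁻¹ * g⁻¹ ∈ pPrimeCore 2 G :=
  zstar_aux _ G rfl t ht g

end Cfsg.Agent.Blk
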