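/-
The Sylow 2-subgroup of `G₂(q)`, `q` odd: a model `(Z_N × Z_N) : 2²` and fusion of involutions.
-/
import Cfsg.Agent.Inv.Isolated
import Cfsg.Agent.S0215
import Cfsg.Agent.S0111

set_option autoImplicit false

namespace Cfsg.Agent.G2S

/-- the model -/
@[ext] structure MM (N : ℕ) where
  a : ZMod N
  b : ZMod N
  e : Bool
  f : Bool

variable {N : ℕ}

/-- sign -/
def sg (e : Bool) (x : ZMod N) : ZMod N := cond e (-x) x

@[simp] theorem sg_t (x : ZMod N) : sg true x = -x := rfl
@[simp] theorem sg_f (x : ZMod N) : sg false x = x := rfl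

instance : Mul (MM N) := ⟨fun g h => ⟨g.a + sg g.e (cond g.f h.b h.a), g.b + sg g.e (cond g.f h.a h.b),
  xor g.e h.e, xor g.f h.f⟩⟩
instance : One (MM N) := ⟨⟨0, 0, false, false⟩⟩
instance : Inv (MM N) := ⟨fun g => ⟨- sg g.e (cond g.f g.b g.a), - sg g.e (cond g.f g.a g.b), g.e, g.f⟩⟩

theorem mul_df (g h : MM N) : g * h = ⟨g.a + sg g.e (cond g.f h.b h.a),
  g.b + sg g.e (cond g.f h.a h.b), xor g.e h.e, xor g.f h.f⟩ := rfl
theorem one_df : (1 : MM N) = ⟨0, 0, false, false⟩ := rfl
theorem inv_df (g : MM N) :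
  g⁻¹ = ⟨- sg g.e (cond g.f g.b g.a), - sg g.e (cond g.f g.a g.b), g.e, g.f⟩ := rfl

instance : Group (MM N) := Group.ofLeftAxioms
  (by
    rintro ⟨a, b, e, f⟩ ⟨a', b', e', f'⟩ ⟨a'', b'', e'', f''⟩
    cases e <;> cases f <;> cases e' <;> cases f' <;> simp [mul_df] <;> constructor <;> ring)
  (by rintro ⟨a, b, e, f⟩; simp [mul_df, one_df])
  (by rintro ⟨a, b, e, f⟩; cases e <;> cases f <;> simp [mul_df, one_df, inv_df])

/-- coordinates -/
def eqv : MM N ≃ ZMod N × ZMod N × Bool × Bool :=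
  ⟨fun g => (g.a, g.b, g.e, g.f), fun p => ⟨p.1, p.2.1, p.2.2.1, p.2.2.2⟩, fun _ => rfl, fun _ => rfl⟩

theorem card_MM : Nat.card (MM N) = N * N * 4 := by
  rw [Nat.card_congr eqv]
  simp [mul_assoc]

/-- the arithmetic of `ZMod N` that is used -/
structure Qd (q : ZMod N) : Prop where
  ne : q + q ≠ 0
  four : q + q + (q + q) = 0
  two : ∀ a : ZMod N, a + a = 0 → a = 0 ∨ a = q + q

/-- central involution -/
def zz (q : ZMod N) : MM N := ⟨q + q, q + q, false, false⟩
/-- non-central involution of the torus -/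
def tt (q : ZMod N) : MM N := ⟨q + q, 0, false, false⟩
/-- the swap -/
def ww : MM N := ⟨0, 0, false, true⟩
/-- diagonal element -/
def dd : MM N := ⟨1, 1, false, false⟩

/-- expand products -/
macro "mm_simp" l:(Lean.Parser.Tactic.location)? : tactic => `(tactic| simp only [mul_df, one_df, tt, zz, ww, dd, sg_f, sg_t,
  cond_false, cond_true, MM.mk.injEq, Bool.xor_false, Bool.xor_true, Bool.not_false, Bool.not_true,
  and_true] $[$l]?)

theorem isConj_of {G : Type*} [Group G] {a b : G} (c : G) (h : c * a = b * c) : IsConj a b :=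
  isConj_iff.2 ⟨c, by rw [h, mul_inv_cancel_right]⟩

variable {q : ZMod N} (h : Qd q)
include h

theorem Qd.neg : -(q + q) = q + q := neg_eq_of_add_eq_zero_left h.four

theorem Qd.z_comm (g : MM N) : g * zz q = zz q * g := by
  obtain ⟨a, b, e, f⟩ := g
  have := h.neg
  cases e <;> cases f <;> mm_simp <;> simp only [this, add_comm, and_self]

theorem Qd.z_sq : zz q * zz q = 1 := by simp [mul_df, zz, one_df, h.four]
theorem Qd.z_ne : zz q ≠ 1 := fun e => h.ne (congrArg MM.a e)
theorem Qd.t_sq : tt q * tt q = 1 := by simp [mul_df, tt, one_df, h.four]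
theorem Qd.t_ne : tt q ≠ 1 := fun e => h.ne (congrArg MM.a e)

theorem Qd.torus {a b : ZMod N} (hu : (⟨a, b, false, false⟩ : MM N) * ⟨a, b, false, false⟩ = 1) :
    (⟨a, b, false, false⟩ : MM N) = 1 ∨ (⟨a, b, false, false⟩ : MM N) = zz q ∨
      IsConj (⟨a, b, false, false⟩ : MM N) (tt q) := by
  simp only [mul_df, one_df, sg_f, cond_false, MM.mk.injEq] at hu
  rcases h.two a hu.1 with rfl | rfl <;> rcases h.two b hu.2.1 with rfl | rfl
  · exact .inl rfl
  · exact .inr (.inr (isConj_of ww (by simp [mul_df, ww, tt])))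
  · exact .inr (.inr (IsConj.refl _))
  · exact .inr (.inl rfl)

theorem Qd.p1 {u : MM N} (hu : u * u = 1) : u = 1 ∨ u = zz q ∨ IsConj u (u * zz q) := by
  obtain ⟨a, b, e, f⟩ := u
  have h4 := h.four
  cases e <;> cases f
  · simp only [mul_df, one_df, sg_f, cond_false, MM.mk.injEq] at hu
    rcases h.two a hu.1 with rfl | rfl <;> rcases h.two b hu.2.1 with rfl | rfl
    · exact .inl rfl
    · exact .inr (.inr (isConj_of ww (by simp [mul_df, ww, zz, h4])))
    · exact .inr (.inr (isConj_of ww (by simp [mul_df, ww, zz, h4])))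
    · exact .inr (.inl rfl)
  · refine .inr (.inr (isConj_of (tt q) ?_))
    mm_simp
    exact ⟨by ring, by linear_combination -h4⟩
  · refine .inr (.inr (isConj_of ⟨q, q, false, false⟩ ?_))
    mm_simp
    exact ⟨by linear_combination h4, by linear_combination h4⟩
  · refine .inr (.inr (isConj_of (tt q) ?_))
    mm_simp
    exact ⟨by linear_combination h4, by linear_combination h4⟩

theorem Qd.p2 {u : MM N} (hu : u * u = 1) : u = 1 ∨ u = zz q ∨ IsConj u (tt q) ∨
    (∃ c, c * u = u * c ∧ c * c = zz q) ∨ (tt q * u = u * tt q ∧ IsConj (tt q * u) u) := by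
  obtain ⟨a, b, e, f⟩ := u
  have h4 := h.four
  cases e <;> cases f
  · rcases h.torus hu with a | a | a
    · exact .inl a
    · exact .inr (.inl a)
    · exact .inr (.inr (.inl a))
  · refine .inr (.inr (.inr (.inl ⟨⟨q, q, false, false⟩, ?_, rfl⟩)))
    simp [mul_df, add_comm]
  · refine .inr (.inr (.inr (.inr ⟨?_, isConj_of ⟨q, 0, false, false⟩ ?_⟩))) <;> mm_simp
    · exact ⟨by linear_combination h4, by ring⟩
    · exact ⟨by linear_combination h4, by ring⟩
  · refine .inr (.inr (.inr (.inl ⟨⟨q, -q, false, false⟩, ?_, ?_⟩))) <;> mm_simp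
    · exact ⟨by ring, by ring⟩
    · exact ⟨trivial, by linear_combination -h4⟩

theorem Qd.p3 {c : MM N} (hu : c * c * (c * c) = 1) :
    c * c = 1 ∨ c * c = zz q ∨ IsConj (c * c) (tt q) := by
  have e : c * c = ⟨(c * c).a, (c * c).b, false, false⟩ := by ext <;> simp [mul_df]
  rw [e] at hu ⊢
  exact h.torus hu

theorem Qd.p4 {u : MM N} (hu : u * u = 1) (he : u.e = false) :
    u = 1 ∨ u = zz q ∨ IsConj u (tt q) ∨ IsConj u ww := by
  obtain ⟨a, b, e, f⟩ := u
  obtain rfl : e = false := he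
  cases f
  · rcases h.torus hu with a | a | a
    · exact .inl a
    · exact .inr (.inl a)
    · exact .inr (.inr (.inl a))
  · refine .inr (.inr (.inr (isConj_of ⟨b, 0, false, false⟩ ?_)))
    mm_simp at hu ⊢
    linear_combination hu.1

theorem Qd.p5 {u : MM N} (hu : u * u = 1) (hf : u.f = false) :
    u = 1 ∨ u = zz q ∨ IsConj u (tt q) ∨ ∀ c : MM N, c.f = false → c * u = u * c → c * c = 1 := by
  obtain ⟨a, b, e, f⟩ := u
  obtain rfl : f = false := hf
  cases e
  · rcases h.torus hu with a | a | a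
    · exact .inl a
    · exact .inr (.inl a)
    · exact .inr (.inr (.inl a))
  · refine .inr (.inr (.inr ?_))
    rintro ⟨a', b', e', f'⟩ (rfl : f' = false) hc
    cases e'
    · mm_simp at hc ⊢
      exact ⟨by linear_combination hc.1, by linear_combination hc.2⟩
    · simp [mul_df, one_df]

omit h

/-- flag homomorphisms -/
def fe : MM N →* Multiplicative (ZMod 2) where
  toFun g := Multiplicative.ofAdd (cond g.e 1 0)
  map_one' := rfl
  map_mul' := by
    rintro ⟨a, b, e, f⟩ ⟨a', b', e', f'⟩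
    cases e <;> cases e' <;> simp only [mul_df] <;> decide

/-- flag homomorphisms -/
def ff : MM N →* Multiplicative (ZMod 2) where
  toFun g := Multiplicative.ofAdd (cond g.f 1 0)
  map_one' := rfl
  map_mul' := by
    rintro ⟨a, b, e, f⟩ ⟨a', b', e', f'⟩
    cases f <;> cases f' <;> simp only [mul_df] <;> decide

theorem mem_fe {g : MM N} : g ∈ (fe : MM N →* _).ker ↔ g.e = false := by
  obtain ⟨a, b, e, f⟩ := g
  cases e <;> simp [MonoidHom.mem_ker, fe]

theorem mem_ff {g : MM N} : g ∈ (ff : MM N →* _).ker ↔ g.f = false := by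
  obtain ⟨a, b, e, f⟩ := g
  cases f <;> simp [MonoidHom.mem_ker, ff]

theorem index_fe : (fe : MM N →* _).ker.index = 2 := by
  rw [Subgroup.index_ker, MonoidHom.range_eq_top.2, Subgroup.card_top]
  · simp
  · intro x
    fin_cases x
    exacts [⟨1, rfl⟩, ⟨⟨0, 0, true, false⟩, rfl⟩]

theorem index_ff : (ff : MM N →* _).ker.index = 2 := by
  rw [Subgroup.index_ker, MonoidHom.range_eq_top.2, Subgroup.card_top]
  · simp
  · intro x
    fin_cases x
    exacts [⟨1, rfl⟩, ⟨⟨0, 0, false, true⟩, rfl⟩]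

end Cfsg.Agent.G2S
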