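/-
Fusion of involutions in a simple group with Sylow 2-subgroup `(Z_N × Z_N) : 2²`.
-/
import Cfsg.Agent.Blk.G2S1

set_option autoImplicit false

namespace Cfsg.Agent.G2S

open Subgroup MulAction Cfsg.Agent.PLoc

theorem four_dvd {X : Type*} [Finite X] (σ : Equiv.Perm X) {k : ℕ} (hk : σ ^ 2 ^ k = 1)
    (h : ∀ x, σ (σ x) ≠ x) : 4 ∣ Nat.card X := by
  classical
  have := Fintype.ofFinite X
  rw [Nat.card_congr (selfEquivSigmaOrbits (zpowers σ) X), Nat.card_sigma]
  refine Finset.dvd_sum fun ω _ => ?_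
  rw [Nat.card_eq_fintype_card, ← minimalPeriod_eq_card]
  have h1 : Function.minimalPeriod (σ • ·) ω.out ∣ 2 ^ k := by
    rw [← pow_smul_eq_iff_minimalPeriod_dvd, hk, one_smul]
  obtain ⟨j, -, hj⟩ := (Nat.dvd_prime_pow Nat.prime_two).1 h1
  have h2 : ¬ Function.minimalPeriod (σ • ·) ω.out ∣ 2 := by
    rw [← pow_smul_eq_iff_minimalPeriod_dvd, pow_two, mul_smul]
    exact h _
  rw [hj] at h2 ⊢
  rcases j with _ | _ | j
  · simp at h2
  · simp at h2
  · exact ⟨2 ^ j, by ring⟩

variable {G : Type*} [Group G] [Finite G]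

theorem transfer_four (hG : ∀ (s : G →* ℤˣ) g, s g = 1) {Q : Subgroup G} (hQ : Q.index % 4 = 2)
    {w d : G} (hw : w * w = 1) (hd : d * w = w * d) {k : ℕ} (hk : d ^ 2 ^ k = 1) :
    ∃ g : G, g⁻¹ * w * g ∈ Q ∧ g⁻¹ * (d * d) * g ∈ Q := by
  classical
  have := Fintype.ofFinite (G ⧸ Q)
  by_contra hn
  push Not at hn
  have key : ∀ (a g : G), a • (g : G ⧸ Q) = g ↔ g⁻¹ * a * g ∈ Q := fun a g => by
    rw [Quotient.smul_mk, eq_comm, QuotientGroup.eq, smul_eq_mul, mul_assoc]
  have hs := hG (Equiv.Perm.sign.comp (toPermHom G (G ⧸ Q))) w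
  rw [MonoidHom.comp_apply, Equiv.Perm.sign_of_pow_two_eq_one
    (by rw [← map_pow, pow_two, hw, map_one])] at hs
  have inv : ∀ x : G ⧸ Q, toPermHom G (G ⧸ Q) d x ∈ Function.fixedPoints (toPermHom G (G ⧸ Q) w) ↔
      x ∈ Function.fixedPoints (toPermHom G (G ⧸ Q) w) := fun x => by
    show w • d • x = d • x ↔ w • x = x
    rw [← mul_smul, ← hd, mul_smul, smul_left_cancel_iff]
  have h4 := four_dvd ((toPermHom G (G ⧸ Q) d).subtypePerm inv) (k := k)
    (by rw [Equiv.Perm.subtypePerm_pow]; ext x; simp only [← map_pow, hk, map_one]; rfl) (by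
      rintro ⟨x, hx⟩ e
      induction x using QuotientGroup.induction_on with | H g => ?_
      refine hn g ((key _ _).1 hx) ((key _ _).1 ?_)
      rw [mul_smul]
      exact congrArg Subtype.val e)
  have hle : Fintype.card (Function.fixedPoints (toPermHom G (G ⧸ Q) w)) ≤ Fintype.card (G ⧸ Q) :=
    Fintype.card_subtype_le _
  rw [index, Nat.card_eq_fintype_card] at hQ
  have h4' : 4 ∣ Fintype.card (Function.fixedPoints (toPermHom G (G ⧸ Q) w)) := by
    rw [← Nat.card_eq_fintype_card]; exact h4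
  rw [Odd.neg_one_pow (by rw [Nat.odd_iff]; omega)] at hs
  exact absurd hs (by decide)

theorem extremal (S : Sylow 2 G) {z a : G} (hz : ∀ s ∈ S, s * z = z * s) (ha : IsConj a z)
    {R : Subgroup G} (hR : IsPGroup 2 R) (hc : ∀ r ∈ R, r * a = a * r) :
    ∃ g : G, g * a * g⁻¹ = z ∧ ∀ r ∈ R, g * r * g⁻¹ ∈ S := by
  obtain ⟨c, rfl⟩ := isConj_iff.1 ha
  have h1 : IsSylowOf 2 (S : Subgroup G) (centralizer {c * a * c⁻¹}) :=
    (isSylowOf_top S).of_le (fun s hs => mem_centralizer_singleton_iff.2 (hz s hs)) le_top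
  obtain ⟨h, hh, e⟩ := h1.exists_cj_le (isPGroup_cj c hR) (cj_le_iff'.2 fun r hr => by
    rw [mem_centralizer_singleton_iff]
    calc _ = c * (r * a) * c⁻¹ := by group
      _ = _ := by rw [hc r hr]; group)
  rw [mem_centralizer_singleton_iff] at hh
  refine ⟨h * c, ?_, fun r hr => ?_⟩
  · calc _ = h * (c * a * c⁻¹) * h⁻¹ := by group
      _ = _ := by rw [hh]; group
  · have := cj_le_iff'.1 e _ (cj_le_iff'.1 le_rfl r hr)
    simp only [mul_assoc, mul_inv_rev] at this ⊢
    exact this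

variable {N : ℕ} {q : ZMod N}

theorem simple_facts [IsSimpleGroup G] (h : Qd q) {φ : MM N →* G} (hi : Function.Injective φ) :
    (∀ M : Subgroup G, M.Normal → M.index ≠ 2) ∧ ¬ ∀ g, g * φ (zz q) = φ (zz q) * g := by
  have nc : φ ww * φ (tt q) ≠ φ (tt q) * φ ww := fun e => by
    rw [← map_mul, ← map_mul] at e
    have := congrArg MM.a (hi e)
    simp only [mul_df, ww, tt, sg_f, cond_true, cond_false, add_zero] at this
    exact h.ne this.symm
  constructor
  · intro M hM h2
    rcases hM.eq_bot_or_eq_top with rfl | rfl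
    · rw [index_bot] at h2
      have := isCyclic_of_prime_card (p := 2) h2
      exact nc (IsCyclic.commGroup.mul_comm _ _)
    · simp at h2
  · intro hc
    rcases (inferInstance : (center G).Normal).eq_bot_or_eq_top with e | e
    · have : φ (zz q) ∈ center G := mem_center_iff.2 hc
      rw [e, mem_bot, map_eq_one_iff _ hi] at this
      exact h.z_ne this
    · exact nc (mem_center_iff.1 (e ▸ mem_top _) _)

theorem t_conj_z [IsSimpleGroup G] (h : Qd q) {φ : MM N →* G} (hi : Function.Injective φ)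
    (S : Sylow 2 G) (hS : φ.range = S) : IsConj (φ (tt q)) (φ (zz q)) := by
  have mem : ∀ m, φ m ∈ S := fun m => by
    show φ m ∈ (S : Subgroup G)
    rw [← hS]; exact ⟨m, rfl⟩
  have ex : ∀ s ∈ S, ∃ m, φ m = s := fun s hs => by
    have : s ∈ φ.range := by rw [hS]; exact hs
    exact this
  have z1 : φ (zz q) ≠ 1 := fun e => h.z_ne (hi (e.trans (map_one φ).symm))
  have z2 : φ (zz q) * φ (zz q) = 1 := by rw [← map_mul, h.z_sq, map_one]
  have oz : orderOf (φ (zz q)) = 2 := orderOf_eq_prime (by rw [pow_two, z2]) z1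
  have zc : ∀ s ∈ S, s * φ (zz q) = φ (zz q) * s := fun s hs => by
    obtain ⟨m, rfl⟩ := ex s hs
    rw [← map_mul, h.z_comm, map_mul]
  by_contra hn
  obtain ⟨g, hg, hne⟩ : ∃ g : G, g * φ (zz q) * g⁻¹ ∈ S ∧ g * φ (zz q) * g⁻¹ ≠ φ (zz q) := by
    by_contra hh
    push Not at hh
    obtain ⟨K, hK, ho, hc⟩ := S0215.result S _ oz (mem _) hh
    rcases hK.eq_bot_or_eq_top with rfl | rfl
    · refine (simple_facts h hi).2 fun g => ?_
      have := mem_bot.1 (hc g)
      rw [mul_inv_eq_one, mul_inv_eq_iff_eq_mul] at this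
      exact this.symm
    · rw [card_top] at ho
      exact (Nat.not_even_iff_odd.2 ho) (even_iff_two_dvd.2 (oz ▸ orderOf_dvd_natCard _))
  obtain ⟨u, hu⟩ := ex _ hg
  have cu : IsConj (φ u) (φ (zz q)) := (isConj_iff.2 ⟨g, hu.symm⟩).symm
  have uu : u * u = 1 := hi (by rw [map_mul, hu, map_one]; simp [mul_assoc, ← mul_assoc (φ _), z2])
  have u1 : u ≠ 1 := by
    rintro rfl
    rw [map_one] at cu
    exact z1 (isConj_one_right.1 cu)
  have uz : u ≠ zz q := fun e => hne (by rw [← hu, e])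
  obtain ⟨x, hx, hR⟩ := extremal S zc cu (R := S ⊓ centralizer {φ u}) (S.isPGroup'.to_le inf_le_left)
    fun r hr => mem_centralizer_singleton_iff.1 hr.2
  have hψ : ∀ c, c * u = u * c → ∃ m, φ m = x * φ c * x⁻¹ := fun c hc =>
    ex _ (hR _ ⟨mem _, mem_centralizer_singleton_iff.2 (by rw [← map_mul, hc, map_mul])⟩)
  rcases h.p2 uu with e | e | e | ⟨c, hc, e⟩ | ⟨hc, e⟩
  · exact u1 e
  · exact uz e
  · exact hn ((φ.map_isConj e).symm.trans cu)
  · obtain ⟨m, hm⟩ := hψ c hc
    have h1 : φ (m * m) = x * φ (zz q) * x⁻¹ := by rw [map_mul, hm, ← e, map_mul]; group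
    have h2 : m * m * (m * m) = 1 :=
      hi (by rw [map_mul, h1, map_one]; simp [mul_assoc, ← mul_assoc (φ _), z2])
    rcases h.p3 h2 with a | a | a
    · rw [a, map_one, eq_comm, conj_eq_one_iff] at h1
      exact z1 h1
    · rw [a] at h1
      rw [← hx] at h1
      nth_rw 2 [hx] at h1
      exact uz (hi (by simpa using h1))
    · exact hn ((φ.map_isConj a).symm.trans (isConj_iff.2 ⟨x, h1.symm⟩).symm)
  · obtain ⟨m, hm⟩ := hψ _ hc
    have ct : IsConj (φ (tt q)) (φ m) := isConj_iff.2 ⟨x, hm.symm⟩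
    have h2 : m * m = 1 := hi (by
      rw [map_mul, hm, map_one]; simp [mul_assoc, ← mul_assoc (φ _), ← map_mul, h.t_sq])
    rcases h.p1 h2 with rfl | rfl | a
    · rw [map_one] at ct
      exact h.t_ne (hi ((isConj_one_left.1 ct).trans (map_one φ).symm))
    · exact hn ct
    · refine hn (ct.trans ((φ.map_isConj a).trans (IsConj.trans ?_ ((φ.map_isConj e).trans cu))))
      refine (isConj_iff.2 ⟨x, ?_⟩).symm
      rw [map_mul, map_mul, hm, ← hx]
      group

theorem fusion [IsSimpleGroup G] (h : Qd q) {φ : MM N →* G} (hi : Function.Injective φ)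
    (S : Sylow 2 G) (hS : φ.range = S) :
    (∀ x y : G, orderOf x = 2 → orderOf y = 2 → IsConj x y) ∨
      (N ∣ 4 ∧ ∃ x y : G, orderOf x = 2 ∧ orderOf y = 2 ∧ ¬ IsConj x y ∧
        ∀ z : G, orderOf z = 2 → IsConj z x ∨ IsConj z y) := by
  have tz := t_conj_z h hi S hS
  have od : ∀ m : MM N, m * m = 1 → m ≠ 1 → orderOf (φ m) = 2 := fun m a b =>
    orderOf_eq_prime (by rw [pow_two, ← map_mul, a, map_one]) fun e => b (hi (e.trans (map_one φ).symm))
  have rel : ∀ K : Subgroup (MM N), K.index = 2 → (K.map φ).relIndex S = 2 := fun K hK => by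
    rw [← hS, MonoidHom.range_eq_map, relIndex_map_map_of_injective _ _ hi, relIndex_top_right, hK]
  have le : ∀ K : Subgroup (MM N), K.map φ ≤ S := fun K => hS ▸ map_le_range _ _
  have two : ∀ u : G, orderOf u = 2 → IsConj u (φ (zz q)) ∨ IsConj u (φ ww) := fun u hu => by
    have cj : ∀ g : G, orderOf (g * u * g⁻¹) = 2 := fun g => by
      rw [← hu]; exact (SemiconjBy.orderOf_eq g (by simp [SemiconjBy])).symm
    obtain ⟨g, hg⟩ : ∃ g : G, g * u * g⁻¹ ∈ (fe : MM N →* _).ker.map φ := by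
      obtain ⟨g, hg⟩ := Inv.exists_conj_mem_sylow S (x := u) (k := 1) (by rw [pow_one, ← hu, pow_orderOf_eq_one])
      by_cases hq : g * u * g⁻¹ ∈ (fe : MM N →* _).ker.map φ
      · exact ⟨g, hq⟩
      rcases S0111.result S _ (le _) (rel _ index_fe) _ (cj g) hg hq with ⟨M, a, b, -⟩ | ⟨g', hg'⟩
      · exact ((simple_facts h hi).1 M a b).elim
      · exact ⟨g' * g, by simpa only [mul_assoc, mul_inv_rev] using hg'⟩
    obtain ⟨m, hm, e⟩ := hg
    have om := cj g
    rw [← e] at om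
    have c : IsConj u (φ m) := isConj_iff.2 ⟨g, e.symm⟩
    have mm : m * m = 1 := hi (by rw [map_mul, map_one, ← pow_two, ← om, pow_orderOf_eq_one])
    rcases h.p4 mm (mem_fe.1 hm) with rfl | rfl | a | a
    · simp at om
    · exact .inl c
    · exact .inl (c.trans ((φ.map_isConj a).trans tz))
    · exact .inr (c.trans (φ.map_isConj a))
  have w2 : (ww : MM N) * ww = 1 := by simp [mul_df, ww, one_df]
  by_cases hw : IsConj (φ ww) (φ (zz q))
  · have : ∀ u : G, orderOf u = 2 → IsConj u (φ (zz q)) := fun u hu =>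
      (two u hu).elim id (·.trans hw)
    exact .inl fun x y a b => (this x a).trans (this y b).symm
  refine .inr ⟨?_, _, _, od _ h.z_sq h.z_ne, od _ w2 (by simp [ww, one_df]), fun e => hw e.symm, two⟩
  have hG : ∀ (s : G →* ℤˣ) g, s g = 1 := fun s g => by
    by_contra hne
    refine (simple_facts h hi).1 s.ker inferInstance ?_
    rw [index_ker, MonoidHom.range_eq_top.2, card_top]
    · simp
    · intro y
      rcases Int.units_eq_one_or y with rfl | rfl
      · exact ⟨1, map_one _⟩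
      · exact ⟨g, (Int.units_eq_one_or _).resolve_left hne⟩
  obtain ⟨k, hk⟩ := S.isPGroup' ⟨φ dd, le ⊤ ⟨dd, trivial, rfl⟩⟩
  obtain ⟨g, ⟨m, hm, e⟩, ⟨c, hc, e'⟩⟩ := transfer_four hG (Q := (ff : MM N →* _).ker.map φ) (w := φ ww)
    (d := φ dd) (k := k) (by
      rw [← relIndex_mul_index (le _), rel _ index_ff]
      have := S.not_dvd_index
      omega) (by rw [← map_mul, w2, map_one])
    (by rw [← map_mul, ← map_mul]; simp [mul_df, ww, dd]) (congrArg Subtype.val hk)
  have cw : IsConj (φ ww) (φ m) := isConj_iff.2 ⟨g⁻¹, by rw [e, inv_inv]⟩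
  have mm : m * m = 1 := hi (by
    rw [map_mul, e, map_one]; simp [mul_assoc, ← mul_assoc (φ _), ← map_mul, w2])
  rcases h.p5 mm (mem_ff.1 hm) with rfl | rfl | a | a
  · rw [map_one] at cw
    exact absurd (hi ((isConj_one_left.1 cw).trans (map_one φ).symm)) (by simp [ww, one_df])
  · exact (hw cw).elim
  · exact (hw (cw.trans ((φ.map_isConj a).trans tz))).elim
  · have dw : (dd : MM N) * dd * ww = ww * (dd * dd) := by simp [mul_df, ww, dd]
    have h1 := a c (mem_ff.1 hc) (hi (by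
      rw [map_mul, map_mul, e, e']
      calc _ = g⁻¹ * φ (dd * dd * ww) * g := by rw [map_mul, map_mul]; group
        _ = _ := by rw [dw, map_mul, map_mul]; group))
    have h2 : φ (dd * dd * (dd * dd)) = φ 1 := by
      have := congrArg φ h1
      rw [map_mul, e', map_one] at this
      rw [map_one, map_mul, map_mul]
      calc _ = g * (g⁻¹ * (φ dd * φ dd) * g * (g⁻¹ * (φ dd * φ dd) * g)) * g⁻¹ := by group
        _ = 1 := by rw [this]; group
    have h3 := congrArg MM.a (hi h2)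
    simp only [mul_df, dd, one_df, Bool.xor_false, sg_f, cond_false] at h3
    rw [← ZMod.natCast_eq_zero_iff]
    rw [← h3]; push_cast; ring

end Cfsg.Agent.G2S
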