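/-
The Sylow 2-subgroup of `G₂(q)`, `q` odd.
-/
import Cfsg.Agent.Blk.G2S2
import Cfsg.Agent.Lie.SL2
import Cfsg.Agent.Lie.All
import Cfsg.Agent.S1059

set_option autoImplicit false

namespace Cfsg.Agent.G2S

open Cfsg.Lie Cfsg.Agent.Lie
open scoped Matrix MatrixGroups

theorem exists_hom {Γ : Type*} [Group Γ] {N : ℕ} (hN : 2 < N) {x y i w : Γ} (xy : x * y = y * x)
    (xN : x ^ N = 1) (yN : y ^ N = 1) (ix : i * x = x⁻¹ * i) (iy : i * y = y⁻¹ * i) (ii : i * i = 1)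
    (wx : w * x = y * w) (wy : w * y = x * w) (w2 : w * w = 1) (iw : w * i = i * w)
    (ind : ∀ a b : ℕ, x ^ a * y ^ b = 1 → N ∣ a ∧ N ∣ b) :
    ∃ φ : MM N →* Γ, Function.Injective φ := by
  have : NeZero N := ⟨by omega⟩
  have add : ∀ {u : Γ}, u ^ N = 1 → ∀ a b : ZMod N, u ^ (a + b).val = u ^ a.val * u ^ b.val :=
    fun h a b => by rw [ZMod.val_add, ← pow_eq_pow_mod _ h, pow_add]
  have neg : ∀ {u : Γ}, u ^ N = 1 → ∀ a : ZMod N, u ^ (-a).val = u⁻¹ ^ a.val := fun h a => by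
    rw [inv_pow, eq_inv_iff_mul_eq_one, ← add h]; simp
  let T : ZMod N → ZMod N → Γ := fun a b => x ^ a.val * y ^ b.val
  have cm : ∀ a b : ℕ, y ^ a * x ^ b = x ^ b * y ^ a := fun a b => (Commute.pow_pow xy b a).symm
  have Tadd : ∀ a b a' b', T (a + a') (b + b') = T a b * T a' b' := fun a b a' b' => by
    simp only [T, add xN, add yN, mul_assoc]
    rw [← mul_assoc (y ^ _) (x ^ _), cm, mul_assoc]
  have iT : ∀ a b, i * T a b = T (-a) (-b) * i := fun a b => by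
    simp only [T, neg xN, neg yN]
    exact (SemiconjBy.pow_right ix _).mul_right (SemiconjBy.pow_right iy _)
  have wT : ∀ a b, w * T a b = T b a * w := fun a b => by
    simp only [T, ← cm]
    rw [cm]
    exact (SemiconjBy.pow_right wx _).mul_right (SemiconjBy.pow_right wy _)
  let σ : Bool → Bool → Γ := fun e f => cond e i 1 * cond f w 1
  have σT : ∀ e f a b, σ e f * T a b = T (sg e (cond f b a)) (sg e (cond f a b)) * σ e f := by
    intro e f a b
    cases e <;> cases f <;> simp only [σ, cond_true, cond_false, sg_t, sg_f, mul_one, one_mul, iT, wT]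
    rw [mul_assoc, wT, ← mul_assoc, iT, mul_assoc]
  have i2 : ∀ u, i * (i * u) = u := fun u => by rw [← mul_assoc, ii, one_mul]
  have wi : ∀ u, w * (i * u) = i * (w * u) := fun u => by rw [← mul_assoc, iw, mul_assoc]
  have σσ : ∀ e f e' f', σ (xor e e') (xor f f') = σ e f * σ e' f' := by
    intro e f e' f'
    cases e <;> cases f <;> cases e' <;> cases f' <;> simp [σ, mul_assoc, ii, i2, w2, iw, wi]
  let φ : MM N →* Γ := MonoidHom.mk' (fun g => T g.a g.b * σ g.e g.f) fun g h => by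
    simp only [mul_df, Tadd, σσ]
    rw [mul_assoc (T g.a g.b), mul_assoc (T g.a g.b), ← mul_assoc (σ _ _) (T _ _), σT,
      mul_assoc (T (sg _ _) _)]
  have tor : ∀ a b, φ ⟨a, b, false, false⟩ = 1 → a = 0 ∧ b = 0 := fun a b h => by
    have h' : x ^ a.val * y ^ b.val = 1 := by simpa [φ, σ, T] using h
    obtain ⟨h1, h2⟩ := ind _ _ h'
    exact ⟨ZMod.val_eq_zero _ |>.1 (Nat.eq_zero_of_dvd_of_lt h1 (ZMod.val_lt a)),
      ZMod.val_eq_zero _ |>.1 (Nat.eq_zero_of_dvd_of_lt h2 (ZMod.val_lt b))⟩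
  have h1 : (1 : ZMod N) ≠ 0 := fun e => by
    have := (ZMod.natCast_eq_zero_iff 1 N).1 (by simpa using e)
    have := Nat.le_of_dvd one_pos this
    omega
  have h2 : (1 + 1 : ZMod N) ≠ 0 := fun e => by
    have := (ZMod.natCast_eq_zero_iff 2 N).1 (by rw [← e]; push_cast; ring)
    have := Nat.le_of_dvd two_pos this
    omega
  refine ⟨φ, (injective_iff_map_eq_one _).2 ?_⟩
  rintro ⟨a, b, e, f⟩ h
  have hc : φ (⟨1, 0, false, false⟩ * ⟨a, b, e, f⟩ * ⟨-1, 0, false, false⟩ * ⟨a, b, e, f⟩⁻¹) = 1 := by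
    rw [map_mul, map_mul, map_mul, map_inv, h, mul_one, inv_one, mul_one, ← map_mul]
    convert map_one φ using 2
    simp [mul_df, one_df]
  cases e <;> cases f
  · obtain ⟨rfl, rfl⟩ := tor a b h
    rfl
  all_goals
    simp only [mul_df, inv_df, sg_f, sg_t, cond_false, cond_true, Bool.xor_false, Bool.xor_true,
      Bool.not_false, Bool.not_true] at hc
    have := (tor _ _ hc).1
  · exact (h1 (by linear_combination this)).elim
  · exact (h2 (by linear_combination this)).elim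
  · exact (h1 (by linear_combination this)).elim

theorem exists_hom' {Γ : Type*} [Group Γ] {n : ℕ} (hn : 1 ≤ n) {x A C B D z : Γ}
    (AC : A * C = C * A) (xA : x * A = A * x) (xx : x * x = A * C)
    (Bx : B * x = A⁻¹ * x * B) (Dx : D * x = C⁻¹ * x * D) (BA : B * A = A⁻¹ * B) (DA : D * A = A * D)
    (BD : B * D = D * B) (BB : B * B = z) (DD : D * D = z) (Az : A ^ 2 ^ n = z) (Cz : C ^ 2 ^ n = z)
    (z1 : z ≠ 1) (zz : z * z = 1) : ∃ φ : MM (2 ^ (n + 1)) →* Γ, Function.Injective φ := by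
  have cA : Commute x A := xA
  have hC : C = x * (A⁻¹ * x) := by
    rw [← mul_assoc, cA.inv_right.eq, mul_assoc, xx, inv_mul_cancel_left]
  have cy : Commute x (A⁻¹ * x) := cA.inv_right.mul_right (Commute.refl x)
  have xN : x ^ 2 ^ (n + 1) = 1 := by
    rw [pow_succ', pow_mul, pow_two, xx, Commute.mul_pow AC, Az, Cz, zz]
  have AN : A ^ 2 ^ (n + 1) = 1 := by rw [pow_succ, pow_mul, Az, pow_two, zz]
  have CN : C ^ 2 ^ (n + 1) = 1 := by rw [pow_succ, pow_mul, Cz, pow_two, zz]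
  have oA : orderOf A = 2 ^ (n + 1) := orderOf_eq_prime_pow (Az ▸ z1) AN
  have oC : orderOf C = 2 ^ (n + 1) := orderOf_eq_prime_pow (Cz ▸ z1) CN
  have By : B * (A⁻¹ * x) = x * B := by
    have : B * A⁻¹ = A * B := by simpa using (SemiconjBy.inv_right BA).eq
    rw [← mul_assoc, this, mul_assoc, Bx]; group
  have Dx' : D * x = (A⁻¹ * x)⁻¹ * D := by
    rw [Dx, hC, mul_inv_rev x, inv_mul_cancel_right]
  have Dy : D * (A⁻¹ * x) = x⁻¹ * D := by
    rw [← mul_assoc, (Commute.inv_right DA).eq, mul_assoc, Dx', mul_inv_rev, inv_inv, ← mul_assoc,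
      ← mul_assoc, ← cA.inv_inv.eq]
    group
  have ix : B * D * x = x⁻¹ * (B * D) := by
    rw [mul_assoc, Dx', ← mul_assoc, (SemiconjBy.inv_right By).eq, mul_assoc]
  have hx : (x ^ 2 ^ n)⁻¹ = x ^ 2 ^ n := by
    rw [inv_eq_iff_mul_eq_one, ← pow_add, ← two_mul, ← pow_succ', xN]
  refine exists_hom (x := x) (y := A⁻¹ * x) (i := B * D) (w := B * x ^ 2 ^ n) ?_ cy xN ?_ ix ?_ ?_
    ?_ ?_ ?_ ?_ fun a b h => ?_
  · calc 2 < 2 ^ 2 := by norm_num
      _ ≤ _ := Nat.pow_le_pow_right two_pos (by omega)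
  · rw [cA.symm.inv_left.mul_pow, inv_pow, AN, xN]; simp
  · rw [mul_assoc, Dy, ← mul_assoc, (SemiconjBy.inv_right Bx).eq, mul_assoc]
  · rw [mul_assoc, ← mul_assoc D, ← BD, ← mul_assoc, ← mul_assoc, BB, mul_assoc, DD, zz]
  · rw [mul_assoc, ((Commute.refl x).pow_left _).eq, ← mul_assoc, Bx, mul_assoc]
  · rw [mul_assoc, (cy.pow_left _).eq, ← mul_assoc, By, mul_assoc]
  · have := (SemiconjBy.pow_right By (2 ^ n)).eq
    rw [mul_assoc, ← mul_assoc (x ^ _), ← this, ← mul_assoc, ← mul_assoc, BB, mul_assoc,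
      ← cy.symm.mul_pow, cy.symm.eq, ← hC, Cz, zz]
  · have := (SemiconjBy.pow_right ix (2 ^ n)).eq
    rw [inv_pow, hx] at this
    rw [mul_assoc, ← this, ← mul_assoc, ← mul_assoc, ← mul_assoc, mul_assoc B D B, ← BD, ← mul_assoc]
  · have h' : (A⁻¹ * x) ^ a * x ^ b = 1 := by
      have := ((SemiconjBy.pow_right Bx a).mul_right (SemiconjBy.pow_right By b)).eq
      rw [h, mul_one] at this
      exact (mul_eq_right.1 this.symm)
    have h1 : 2 ^ (n + 1) ∣ a + b := by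
      rw [← oC, orderOf_dvd_iff_pow_eq_one, hC, cy.mul_pow, pow_add, pow_add]
      calc _ = x ^ a * (x ^ b * (A⁻¹ * x) ^ a) * (A⁻¹ * x) ^ b := by group
        _ = 1 := by rw [(cy.pow_pow b a).eq, h', mul_one, h]
    have h2 : 2 ^ (n + 1) ∣ b := by
      obtain ⟨c, hc⟩ := h1
      rw [cA.symm.inv_left.mul_pow, (cA.symm.inv_left.pow_pow b b).eq, ← mul_assoc, ← pow_add, hc,
        pow_mul, xN, one_pow, one_mul, inv_pow, inv_eq_one] at h
      rwa [← oA, orderOf_dvd_iff_pow_eq_one]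
    exact ⟨(Nat.dvd_add_left h2).1 h1, h2⟩

variable {F : Type*} [Field F]

/-- conjugation by `diag(ε, 1)` -/
def cd0 (ε : Fˣ) (g : SL(2, F)) : SL(2, F) :=
  ⟨!![g 0 0, ε * g 0 1; (ε : F)⁻¹ * g 1 0, g 1 1], by
    rw [Matrix.det_fin_two_of]; refine Eq.trans ?_ (sl2_det g); field_simp⟩

theorem coe_cd0 (ε : Fˣ) (g : SL(2, F)) :
  (cd0 ε g).1 = !![g 0 0, ε * g 0 1; (ε : F)⁻¹ * g 1 0, g 1 1] := rfl

/-- conjugation by `diag(ε, 1)` -/
def cd (ε : Fˣ) : SL(2, F) →* SL(2, F) := MonoidHom.mk' (cd0 ε) fun g h => by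
  ext i j
  fin_cases i <;> fin_cases j <;> simp [coe_cd0, Matrix.mul_apply, Fin.sum_univ_two] <;> field_simp

theorem coe_cd (ε : Fˣ) (g : SL(2, F)) :
  (cd ε g).1 = !![g 0 0, ε * g 0 1; (ε : F)⁻¹ * g 1 0, g 1 1] := rfl

theorem mem_range_of_pow [Fintype F] {K : Type*} [Field K] [Algebra F K] {x : K}
    (h : x ^ Fintype.card F = x) : ∃ t : F, algebraMap F K t = x := by
  classical
  have h1 := Fintype.one_lt_card (α := F)
  have hr : x ∈ ((Polynomial.X ^ Fintype.card F - Polynomial.X : Polynomial F).map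
      (algebraMap F K)).roots := by
    rw [Polynomial.mem_roots (Polynomial.map_ne_zero (FiniteField.X_pow_card_sub_X_ne_zero F h1))]
    simp [h]
  rw [Polynomial.Splits.roots_map (Polynomial.splits_iff_card_roots.2 (by
    rw [FiniteField.roots_X_pow_card_sub_X, FiniteField.X_pow_card_sub_X_natDegree_eq F h1]; rfl))] at hr
  obtain ⟨t, -, e⟩ := Multiset.mem_map.1 hr
  exact ⟨t, e⟩

theorem exists_tau [Fintype F] {n m : ℕ} (hn : 1 ≤ n) (hm : Odd m) (h2 : (2 : F) ≠ 0)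
    (hq : Fintype.card F + 1 = 2 ^ (n + 1) * m) :
    ∃ τ : F, (!![τ, 1; 1, 0] : Matrix (Fin 2) (Fin 2) F) ^ 2 ^ (n + 1) = -1 := by
  obtain ⟨γ, hγ⟩ := IsAlgClosed.exists_pow_nat_eq (-1 : AlgebraicClosure F) (n := 2 ^ (n + 1)) (by positivity)
  have g0 : γ ≠ 0 := by
    rintro rfl
    simp at hγ
  have gq : γ ^ Fintype.card F = -γ⁻¹ := by
    have : γ ^ (Fintype.card F + 1) = -1 := by rw [hq, pow_mul, hγ, hm.neg_one_pow]
    rw [pow_succ] at this
    field_simp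
    exact this
  obtain ⟨τ, hτ⟩ : ∃ τ : F, algebraMap F _ τ = γ - γ⁻¹ := mem_range_of_pow (by
    have := map_sub (FiniteField.frobeniusAlgHom F (AlgebraicClosure F)) γ γ⁻¹
    simp only [FiniteField.coe_frobeniusAlgHom] at this
    rw [this, inv_pow, gq, inv_neg, inv_inv]; ring)
  have key : ∀ k : ℕ, ∃ u v : F, (!![τ, 1; 1, 0] : Matrix (Fin 2) (Fin 2) F) ^ k = !![u * τ + v, u; u, v] ∧
      γ ^ k = algebraMap F _ u * γ + algebraMap F _ v ∧
      (-γ⁻¹) ^ k = algebraMap F _ u * (-γ⁻¹) + algebraMap F _ v := by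
    intro k
    induction k with
    | zero => exact ⟨0, 1, by simp [Matrix.one_fin_two], by simp, by simp⟩
    | succ k ih =>
      obtain ⟨u, v, a, b, c⟩ := ih
      refine ⟨u * τ + v, u, ?_, ?_, ?_⟩
      · rw [pow_succ, a]; simp
      · rw [pow_succ, b, map_add, map_mul, hτ]; field_simp; ring
      · rw [pow_succ, c, map_add, map_mul, hτ]; field_simp; ring
  obtain ⟨u, v, a, b, c⟩ := key (2 ^ (n + 1))
  have ev : Even (2 ^ (n + 1)) := (Nat.even_pow.2 ⟨even_two, by omega⟩)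
  rw [ev.neg_pow, inv_pow, hγ, inv_neg, inv_one] at c
  rw [hγ] at b
  have ne : γ + γ⁻¹ ≠ 0 := fun e => by
    have e2 : γ ^ 2 = -1 := by field_simp at e; linear_combination e
    rw [pow_succ', pow_mul, e2, (Nat.even_pow.2 ⟨even_two, by omega⟩ : Even (2 ^ n)).neg_one_pow] at hγ
    exact h2 ((algebraMap F (AlgebraicClosure F)).injective (by
      rw [map_zero, map_ofNat]; linear_combination hγ))
  have u0 : u = 0 := (algebraMap F (AlgebraicClosure F)).injective (by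
    rw [map_zero]
    exact (mul_eq_zero.1 (by linear_combination c - b)).resolve_right ne)
  subst u0
  have v1 : v = -1 := (algebraMap F (AlgebraicClosure F)).injective (by simpa using b.symm)
  refine ⟨τ, ?_⟩
  rw [a, v1, Matrix.one_fin_two]; simp

theorem sD_pow (ε : Fˣ) (k : ℕ) : sD ε ^ k = sD (ε ^ k) := by
  induction k with
  | zero => ext i j; fin_cases i <;> fin_cases j <;> simp
  | succ k ih =>
    rw [pow_succ, ih]
    ext i j; fin_cases i <;> fin_cases j <;> simp [Matrix.mul_apply, Fin.sum_univ_two, pow_succ, mul_comm]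

theorem sl2_data [Fintype F] (hF : Odd (Fintype.card F)) :
    ∃ (n m : ℕ) (ε : Fˣ) (s a : SL(2, F)), 1 ≤ n ∧ Odd m ∧ Fintype.card F ^ 2 - 1 = 2 ^ (n + 2) * m ∧
      s * cd ε s * sD ε = a ∧ a * (sN 1 * s) = s * cd ε (sN 1) ∧ s * cd ε a = a * s ∧
      a * (sN 1 * a) = sN 1 ∧ a ^ 2 ^ n = sD (-1) := by
  have h1 := Fintype.one_lt_card (α := F)
  have h2 : (2 : F) ≠ 0 := Ring.two_ne_zero fun e =>
    (Nat.not_even_iff_odd.2 hF) (Nat.even_iff.2 (FiniteField.even_card_of_char_two e))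
  obtain ⟨k, hk⟩ := hF
  rcases Nat.even_or_odd k with ⟨j, rfl⟩ | ⟨j, rfl⟩
  · obtain ⟨n, m, hm, e⟩ := Nat.exists_eq_two_pow_mul_odd (n := j) (by omega)
    obtain ⟨g, hg⟩ := IsCyclic.exists_ofOrder_eq_natCard (α := Fˣ)
    rw [Nat.card_units, Nat.card_eq_fintype_card, hk] at hg
    have hg' : orderOf g = 2 * (m * 2 ^ (n + 1)) := by
      rw [hg, e, Nat.add_sub_cancel]; ring
    have hε : (g ^ m) ^ 2 ^ (n + 1) = -1 := by
      rw [← pow_mul]
      refine ((Units.inv_eq_self_iff _).1 ?_).resolve_left fun e => ?_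
      · rw [inv_eq_iff_mul_eq_one, ← pow_add, ← two_mul, ← hg', pow_orderOf_eq_one]
      · have := Nat.le_of_dvd (by have := hm.pos; positivity) (orderOf_dvd_of_pow_eq_one e)
        have : 0 < m * 2 ^ (n + 1) := by have := hm.pos; positivity
        omega
    refine ⟨n + 1, m * (2 * j + 1), g ^ m, 1, sD (g ^ m), by omega, hm.mul ⟨j, rfl⟩, ?_, by simp, ?_, ?_, ?_,
      by rw [sD_pow, hε]⟩
    · rw [hk, Nat.sub_eq_iff_eq_add (Nat.one_le_pow _ _ (by omega))]
      calc _ = 8 * (j * (2 * j + 1)) + 1 := by ring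
        _ = _ := by nth_rw 1 [e]; ring
    all_goals
      generalize g ^ m = ε
      ext i j
      fin_cases i <;> fin_cases j <;> simp [Matrix.mul_apply, Fin.sum_univ_two, coe_cd]
  · obtain ⟨n, m, hm, e⟩ := Nat.exists_eq_two_pow_mul_odd (n := j + 1) (by omega)
    obtain ⟨τ, hτ⟩ := exists_tau (F := F) (n := n + 1) (by omega) hm h2 (by
      rw [hk, pow_succ, pow_succ]; linarith)
    obtain ⟨s, hs⟩ : ∃ s : SL(2, F), s.1 = !![-τ, 1; -1, 0] := ⟨⟨_, by simp⟩, rfl⟩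
    obtain ⟨a, ha⟩ : ∃ s : SL(2, F), s.1 = !![-(τ ^ 2 + 1), -τ; -τ, -1] := ⟨⟨_, by simp; ring⟩, rfl⟩
    refine ⟨n + 1, m * (2 * j + 1), -1, s, a, by omega, hm.mul ⟨j, rfl⟩, ?_, ?_, ?_, ?_, ?_, ?_⟩
    · rw [hk, Nat.sub_eq_iff_eq_add (Nat.one_le_pow _ _ (by omega))]
      calc _ = 8 * ((j + 1) * (2 * j + 1)) + 1 := by ring
        _ = _ := by nth_rw 1 [e]; ring
    rotate_left 4
    · refine Subtype.ext ?_
      have : (!![-(τ ^ 2 + 1), -τ; -τ, -1] : Matrix (Fin 2) (Fin 2) F) = -(!![τ, 1; 1, 0] ^ 2) := by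
        rw [pow_two (!![τ, 1; 1, 0])]; simp [pow_two]
      rw [Matrix.SpecialLinearGroup.coe_pow, ha, this, (Nat.even_pow.2 ⟨even_two, by omega⟩ : Even (2 ^ (n + 1))).neg_pow, ← pow_mul,
        ← pow_succ', hτ, Matrix.one_fin_two]
      simp
    all_goals
      ext i j
      fin_cases i <;> fin_cases j <;> simp [Matrix.mul_apply, Fin.sum_univ_two, coe_cd, hs, ha] <;> ring

theorem sl2_hom_ext {Γ : Type*} [Group Γ] {f g : SL(2, F) →* Γ} (h : ∀ t, f (sU t) = g (sU t))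
    (h' : ∀ t, f (sL t) = g (sL t)) (x : SL(2, F)) : f x = g x :=
  sl2_le (S := f.eqLocusM g) h h' x

theorem cd_sU (ε : Fˣ) (t : F) : cd ε (sU t) = sU (ε * t) := by
  ext i j; fin_cases i <;> fin_cases j <;> simp [coe_cd]

theorem cd_sL (ε : Fˣ) (t : F) : cd ε (sL t) = sL ((ε⁻¹ : Fˣ) * t) := by
  ext i j; fin_cases i <;> fin_cases j <;> simp [coe_cd]

/-- roots -/
def rr (i : Fin 12) : Rt chevG2 := i

theorem exists_emb [Fintype F] (hF : Odd (Fintype.card F)) : ∃ (n m : ℕ), 1 ≤ n ∧ Odd m ∧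
    Fintype.card F ^ 2 - 1 = 2 ^ (n + 2) * m ∧
    ∃ φ : MM (2 ^ (n + 1)) →* chevG2.group F, Function.Injective φ := by
  obtain ⟨n, m, ε, s, a, hn, hm, hq, e1, e2, e3, e4, e5⟩ := sl2_data hF
  refine ⟨n, m, hn, hm, hq, ?_⟩
  have hS := (sys_xG : Sys (xG : Rt chevG2 → F → _) _)
  have mem : ∀ r t, xG r t ∈ chevG2.group F := fun r t => group_eq (D := chevG2) F ▸ mem_XS (Set.mem_univ r) t
  have memh : ∀ r t, hX xG r t ∈ chevG2.group F := fun r t =>
    group_eq (D := chevG2) F ▸ NX_le_XS (HX_le_NX (hX_mem r t))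
  have ex : ∀ r : Rt chevG2, ∃ f : SL(2, F) →* chevG2.group F, (∀ t, (f (sU t)).1 = xG r t) ∧
      (∀ t, (f (sL t)).1 = xG (ng r) t) ∧ ∀ a, (f (sD a)).1 = dg (coch r a) := fun r => by
    obtain ⟨f, h1, h2, -, h4⟩ := hS.exists_sl2 r
    exact ⟨f.codRestrict _ fun g => sl2_le (S := ((chevG2.group F).comap f).toSubmonoid)
      (fun t => show f _ ∈ _ from h1 t ▸ mem _ _) (fun t => show f _ ∈ _ from h2 t ▸ mem _ _) g,
      h1, h2, fun a => (h4 a).trans (hG_eq _ _)⟩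
  obtain ⟨f, f1, f2, f3⟩ := ex (rr 7)
  obtain ⟨g, g1, g2, g3⟩ := ex (rr 11)
  have cx : ∀ r s : Rt chevG2, s ≠ r → s ≠ ng r → N r s = 0 → ∀ t u : F, xG s u * xG r t = xG r t * xG s u :=
    fun r s a b c t u => by
      rw [hS.comm r trivial s trivial a b, cT, if_pos c, cwL]; simp
  have fg : ∀ x y, f x * g y = g y * f x := fun x y => by
    refine sl2_le (S := (Submonoid.centralizer {g y}).comap f) (fun t => ?_) (fun t => ?_) x _ rfl |>.symm
    all_goals
      rintro _ rfl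
      refine (sl2_le (S := (Submonoid.centralizer {f _}).comap g) (fun u => ?_) (fun u => ?_) y _ rfl).symm
      all_goals
        rintro _ rfl
        refine Subtype.ext ?_
        simp only [Subgroup.coe_mul, f1, f2, g1, g2]
        exact cx _ _ (by decide) (by decide) (by decide) _ _
  obtain ⟨h, hh⟩ : ∃ h : chevG2.group F, h.1 = dg (coch (rr 7) ε * coch (rr 6) ε) :=
    ⟨⟨_, mul_mem (memh (rr 7) ε) (memh (rr 6) ε)⟩, by rw [map_mul, ← hG_eq, ← hG_eq]⟩
  have hc : ∀ (r : Rt chevG2) (k : SL(2, F) →* chevG2.group F), A (rr 7) r + A (rr 6) r = 1 →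
      A (rr 7) (ng r) + A (rr 6) (ng r) = -1 → (∀ t, (k (sU t)).1 = xG r t) →
      (∀ t, (k (sL t)).1 = xG (ng r) t) → ∀ x, h * k x = k (cd ε x) * h := fun r k a b k1 k2 x => by
    rw [← mul_inv_eq_iff_eq_mul]
    refine sl2_hom_ext (f := (MulAut.conj h).toMonoidHom.comp k) (g := k.comp (cd ε)) (fun t => ?_)
      (fun t => ?_) x <;> refine Subtype.ext ?_
    · show h.1 * (k _).1 * h.1⁻¹ = (k (cd ε _)).1
      rw [cd_sU, k1, k1, hh, dg_conj, chv_mul, chv_coch_co, chv_coch_co, ← zpow_add, a, zpow_one]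
    · show h.1 * (k _).1 * h.1⁻¹ = (k (cd ε _)).1
      rw [cd_sL, k2, k2, hh, dg_conj, chv_mul, chv_coch_co, chv_coch_co, ← zpow_add, b, zpow_neg_one]
  have hf := hc _ f (by decide) (by decide) f1 f2
  have hg := hc _ g (by decide) (by decide) g1 g2
  have h2 : h * h = f (sD ε) * g (sD ε) := Subtype.ext (by
    rw [Subgroup.coe_mul, Subgroup.coe_mul, hh, f3, g3, ← map_mul, ← map_mul]
    congr 1
    funext j
    simp only [Pi.mul_apply, coch, ← zpow_add]
    congr 1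
    revert j
    decide)
  have hz : g (sD (-1)) = f (sD (-1)) := Subtype.ext (by
    rw [f3, g3]
    congr 1
    funext j
    have : ∀ j, Even (A (rr 11) (sim j)) ↔ Even (A (rr 7) (sim j)) := by decide
    simp only [coch]
    by_cases e : Even (A (rr 7) (sim j))
    · rw [e.neg_one_zpow, ((this j).2 e).neg_one_zpow]
    · rw [(Int.not_even_iff_odd.1 e).neg_one_zpow, (Int.not_even_iff_odd.1 (mt (this j).1 e)).neg_one_zpow])
  have bb : (sN 1 * sN 1 : SL(2, F)) = sD (-1) := by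
    ext i j; fin_cases i <;> fin_cases j <;> simp [Matrix.mul_apply, Fin.sum_univ_two]
  have gf : ∀ x y u, g y * (f x * u) = f x * (g y * u) := fun x y u => by
    rw [← mul_assoc, ← fg, mul_assoc]
  have hf' : ∀ x u, h * (f x * u) = f (cd ε x) * (h * u) := fun x u => by rw [← mul_assoc, hf, mul_assoc]
  have hg' : ∀ x u, h * (g x * u) = g (cd ε x) * (h * u) := fun x u => by rw [← mul_assoc, hg, mul_assoc]
  have ff : ∀ x y u, f x * (f y * u) = f (x * y) * u := fun x y u => by rw [map_mul, mul_assoc]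
  have gg : ∀ x y u, g x * (g y * u) = g (x * y) * u := fun x y u => by rw [map_mul, mul_assoc]
  refine exists_hom' (x := f s * g s * h) (A := f a) (C := g a) (B := f (sN 1)) (D := g (sN 1))
    (z := f (sD (-1))) hn (fg _ _) ?_ ?_ ?_ ?_ ?_ (fg _ _).symm (fg _ _) (by rw [← map_mul, bb])
    (by rw [← map_mul, bb, hz]) (by rw [← map_pow, e5]) (by rw [← map_pow, e5, hz]) (fun e => ?_) ?_
  · simp only [mul_assoc, hf, gf, ff, e3]
  · simp only [mul_assoc, hf', hg', gf, ff, gg, h2]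
    rw [← map_mul, ← e1]; simp only [mul_assoc]
  · rw [mul_assoc (f a)⁻¹, eq_inv_mul_iff_mul_eq]
    simp only [mul_assoc, hf, gf, ff, e2]
  · rw [mul_assoc (g a)⁻¹, eq_inv_mul_iff_mul_eq]
    simp only [mul_assoc, hg, gf, gg, e2]
  · rw [eq_inv_mul_iff_mul_eq, ← map_mul, ← map_mul, e4]
  · have := congrArg Subtype.val e
    rw [f3, OneMemClass.coe_one, ← map_one dg] at this
    have h1 := congrFun (dg_inj this) ⟨1, by decide⟩
    have o : Odd (A (rr 7) (sim (⟨1, by decide⟩ : Ix chevG2))) := by decide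
    simp only [coch, o.neg_one_zpow, Pi.one_apply] at h1
    have h3 : (2 : F) = 0 := by
      have := congrArg Units.val h1
      simp only [Units.val_neg, Units.val_one] at this
      linear_combination -this
    exact Ring.two_ne_zero (fun e =>
      (Nat.not_even_iff_odd.2 hF) (Nat.even_iff.2 (FiniteField.even_card_of_char_two e))) h3
  · rw [← map_mul, ← pow_two, sD_pow, neg_one_sq, ← pow_zero (1 : Fˣ), ← sD_pow, pow_zero, map_one]

theorem qd (n : ℕ) (hn : 1 ≤ n) : Qd ((2 ^ (n - 1) : ℕ) : ZMod (2 ^ (n + 1))) := by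
  obtain ⟨k, rfl⟩ : ∃ k, n = k + 1 := ⟨n - 1, by omega⟩
  have e : ((2 ^ (k + 1 - 1) : ℕ) : ZMod (2 ^ (k + 1 + 1))) + (2 ^ (k + 1 - 1) : ℕ) = (2 ^ (k + 1) : ℕ) := by
    rw [← Nat.cast_add, Nat.add_sub_cancel, ← two_mul, ← pow_succ']
  refine ⟨?_, ?_, fun a ha => ?_⟩ <;> rw [e]
  · rw [Ne, ZMod.natCast_eq_zero_iff, Nat.pow_dvd_pow_iff_le_right one_lt_two]
    omega
  · rw [← Nat.cast_add, ← two_mul, ← pow_succ', ZMod.natCast_self]
  · rcases (ZMod.neg_eq_self_iff a).1 (neg_eq_of_add_eq_zero_left ha) with h | h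
    · exact .inl h
    · right
      rw [← ZMod.natCast_zmod_val a, Nat.eq_of_mul_eq_mul_left two_pos (h.trans (pow_succ' 2 (k + 1)))]

theorem main {G : Type*} [Group G] [Finite G] [IsSimpleGroup G] [Fintype F]
    (hF : Odd (Fintype.card F)) (S : Sylow 2 G) (P : Sylow 2 (chevG2.group F))
    (e : (S : Subgroup G) ≃* (P : Subgroup (chevG2.group F))) :
    (∀ x y : G, orderOf x = 2 → orderOf y = 2 → IsConj x y) ∨
      (Nat.card (S : Subgroup G) = 64 ∧ ∃ x y : G, orderOf x = 2 ∧ orderOf y = 2 ∧ ¬ IsConj x y ∧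
        ∀ z : G, orderOf z = 2 → IsConj z x ∨ IsConj z y) := by
  obtain ⟨n, m, hn, hm, hq, φ, hφ⟩ := exists_emb hF
  have hc := S1059.result (F := F) rfl
  have cM : Nat.card (MM (2 ^ (n + 1))) = 2 ^ (2 * n + 4) := by rw [card_MM]; ring
  have cr : Nat.card φ.range = 2 ^ (2 * n + 4) := by
    rw [← cM]; exact (Nat.card_congr (MonoidHom.ofInjective hφ).toEquiv).symm
  have h1 := Fintype.one_lt_card (α := F)
  set q := Fintype.card F
  have h6 : q ^ 6 - 1 = (q ^ 2 - 1) * (q ^ 4 + q ^ 2 + 1) := by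
    obtain ⟨k, hk⟩ : ∃ k, q ^ 2 = k + 1 := ⟨q ^ 2 - 1, by have := Nat.one_le_pow 2 q (by omega); omega⟩
    rw [show q ^ 6 = (q ^ 2) ^ 3 by ring, show q ^ 4 = (q ^ 2) ^ 2 by ring, hk, Nat.add_sub_cancel,
      Nat.sub_eq_iff_eq_add (Nat.one_le_pow _ _ (by omega))]
    ring
  have ho : Odd (q ^ 6 * m * m * (q ^ 4 + q ^ 2 + 1)) :=
    ((hF.pow.mul hm).mul hm).mul ((hF.pow.add_odd hF.pow).add_one)
  have hc' : Nat.card (chevG2.group F) = 2 ^ (2 * n + 4) * (q ^ 6 * m * m * (q ^ 4 + q ^ 2 + 1)) := by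
    rw [hc, h6, hq]; ring
  have : Finite (chevG2.group F) := Nat.finite_of_card_ne_zero (by
    rw [hc']; exact mul_ne_zero (by positivity) ho.pos.ne')
  have hi : φ.range.index = q ^ 6 * m * m * (q ^ 4 + q ^ 2 + 1) := by
    have := φ.range.card_mul_index
    rw [cr, hc'] at this
    exact Nat.eq_of_mul_eq_mul_left (by positivity) this
  let P' : Sylow 2 (chevG2.group F) := (IsPGroup.of_card cr).toSylow (by
    rw [hi, ← even_iff_two_dvd]; exact Nat.not_even_iff_odd.2 ho)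
  let e' : MM (2 ^ (n + 1)) ≃* (S : Subgroup G) :=
    (MonoidHom.ofInjective hφ).trans ((P'.equiv P).trans e.symm)
  refine (fusion (qd n hn) (φ := (S : Subgroup G).subtype.comp e'.toMonoidHom)
    (Subtype.val_injective.comp e'.injective) S ?_).imp id fun ⟨a, b⟩ => ⟨?_, b⟩
  · rw [MonoidHom.range_comp, MonoidHom.range_eq_top.2 e'.surjective, ← MonoidHom.range_eq_map,
      Subgroup.range_subtype]
  · have : n + 1 ≤ 2 := (Nat.pow_dvd_pow_iff_le_right one_lt_two).1 a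
    rw [← Nat.card_congr e'.toEquiv, cM, show n = 1 by omega]
    norm_num

end Cfsg.Agent.G2S
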