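import Cfsg.Agent.Blk.Rad

/-! Induced blocks and the Brauer homomorphism. -/

set_option autoImplicit false
set_option linter.unusedSectionVars false

namespace Cfsg.Agent.Blk

open Cfsg Cfsg.Agent.Char Cfsg.Agent.PLoc MonoidAlgebra
open scoped ComplexConjugate

variable {G : Type*} [Group G] [Finite G] {H : Type*} [Group H] [Finite H]

section push
variable (f : H →* G)

/-- The map of group algebras induced by a homomorphism. -/
noncomputable def push : GA H →+* GA G := mapDomainRingHom ℂ f

@[simp] theorem push_single (h : H) (c : ℂ) : push f (single h c) = single (f h) c :=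
  mapDomain_single

theorem push_smul (c : ℂ) (a : GA H) : push f (c • a) = c • push f a := mapDomain_smul _ _ _

theorem ev_push (χ : G → ℂ) (a : GA H) : ev χ (push f a) = ev (fun h => χ (f h)) a := by
  induction a using induction_linear with
  | zero => simp
  | add a b ha hb => simp only [map_add, ha, hb]
  | single g c => simp

theorem om_push (χ : G → ℂ) (a : GA H) : om χ (push f a) = om (fun h => χ (f h)) a := by
  rw [om_def, om_def, ev_push, map_one]

theorem coeff_push_eq_sum [Fintype H] [DecidableEq G] (a : GA H) (g : G) :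
    (push f a).coeff g = ∑ h, if f h = g then a.coeff h else 0 :=
  coeff_mapDomain_eq_sum f a g

theorem coeff_push (hf : Function.Injective f) (a : GA H) (h : H) :
    (push f a).coeff (f h) = a.coeff h := Finsupp.mapDomain_apply hf _ _

theorem coeff_push_of_notMem (a : GA H) {g : G} (hg : g ∉ f.range) : (push f a).coeff g = 0 :=
  Finsupp.mapDomain_notin_range _ _ hg

theorem push_mem_ZA (hf : Function.Surjective f) {a : GA H} (ha : a ∈ ZA H) : push f a ∈ ZA G := by
  rw [Subalgebra.mem_center_iff]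
  intro b
  induction b using induction_linear with
  | zero => simp
  | add b b' hb hb' => simp only [add_mul, mul_add, hb, hb']
  | single g c =>
    obtain ⟨h, rfl⟩ := hf g
    rw [← push_single, ← map_mul, ← map_mul, ZA_comm ha]

/-- Restriction of coefficients along a homomorphism. -/
noncomputable def pull (a : GA G) : GA H := ofFn fun h => a.coeff (f h)

@[simp] theorem coeff_pull (a : GA G) (h : H) : (pull f a).coeff h = a.coeff (f h) := rfl

theorem pull_add (a b : GA G) : pull f (a + b) = pull f a + pull f b := ga_ext fun _ => rfl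
theorem pull_sub (a b : GA G) : pull f (a - b) = pull f a - pull f b := ga_ext fun _ => rfl
theorem pull_smul (c : ℂ) (a : GA G) : pull f (c • a) = c • pull f a := ga_ext fun _ => rfl
@[simp] theorem pull_zero : pull f (0 : GA G) = 0 := ga_ext fun _ => rfl

theorem pull_sum {ι : Type*} (s : Finset ι) (a : ι → GA G) :
    pull f (∑ i ∈ s, a i) = ∑ i ∈ s, pull f (a i) :=
  ga_ext fun _ => by simp only [coeff_pull, coeff_sum_apply]

theorem pull_pull {K : Type*} [Group K] [Finite K] (e : K →* H) (a : GA G) :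
    pull e (pull f a) = pull (f.comp e) a := ga_ext fun _ => rfl

theorem pull_id (a : GA G) : pull (MonoidHom.id G) a = a := ga_ext fun _ => rfl

theorem pull_mem_ZA {a : GA G} (ha : a ∈ ZA G) : pull f a ∈ ZA H :=
  ofFn_mem_ZA ((mem_ZA.mp ha).comp f)

theorem pull_push (hf : Function.Injective f) (a : GA H) : pull f (push f a) = a :=
  ga_ext fun h => coeff_push f hf a h

theorem pull_one (hf : Function.Injective f) : pull f (1 : GA G) = 1 := by
  rw [← map_one (push f), pull_push f hf]

theorem push_pull (hf : Function.Injective f) {a : GA G} (ha : ∀ g, g ∉ f.range → a.coeff g = 0) :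
    push f (pull f a) = a := by
  refine ga_ext fun g => ?_
  by_cases hg : g ∈ f.range
  · obtain ⟨h, rfl⟩ := hg
    rw [coeff_push f hf, coeff_pull]
  · rw [coeff_push_of_notMem f _ hg, ha g hg]

theorem pull_push_mul (u : GA H) (y : GA G) : pull f (push f u * y) = u * pull f y := by
  induction u using induction_linear with
  | zero => simp
  | add a b ha hb => rw [map_add, add_mul, pull_add, ha, hb, add_mul]
  | single g c =>
    refine ga_ext fun h => ?_
    simp [coeff_single_mul_apply]

theorem pull_mul_push (u : GA H) (y : GA G) : pull f (y * push f u) = pull f y * u := by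
  induction u using induction_linear with
  | zero => simp
  | add a b ha hb => rw [map_add, mul_add, pull_add, ha, hb, mul_add]
  | single g c =>
    refine ga_ext fun h => ?_
    simp [coeff_mul_single_apply]

theorem pull_mul (hf : Function.Injective f) {a : GA G} (ha : ∀ g, g ∉ f.range → a.coeff g = 0)
    (y : GA G) : pull f (a * y) = pull f a * pull f y := by
  conv_lhs => rw [← push_pull f hf ha, pull_push_mul]

end push

/-- Truncation to a set. -/
noncomputable def trunc (S : Set G) (a : GA G) : GA G :=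
  ofFn fun g => S.indicator a.coeff g

theorem coeff_trunc_of_mem {S : Set G} (a : GA G) {g : G} (h : g ∈ S) :
    (trunc S a).coeff g = a.coeff g := Set.indicator_of_mem h _

theorem coeff_trunc_of_notMem {S : Set G} (a : GA G) {g : G} (h : g ∉ S) :
    (trunc S a).coeff g = 0 := Set.indicator_of_notMem h _

theorem trunc_add (S : Set G) (a b : GA G) : trunc S (a + b) = trunc S a + trunc S b :=
  ga_ext fun g => by
    by_cases h : g ∈ S <;> simp [coeff_trunc_of_mem, coeff_trunc_of_notMem, h]

theorem trunc_smul (S : Set G) (c : ℂ) (a : GA G) : trunc S (c • a) = c • trunc S a :=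
  ga_ext fun g => by
    by_cases h : g ∈ S <;> simp [coeff_trunc_of_mem, coeff_trunc_of_notMem, h]

theorem trunc_zero (S : Set G) : trunc S (0 : GA G) = 0 := by
  simpa using trunc_smul S 0 0

theorem trunc_one {S : Set G} (h : 1 ∈ S) : trunc S (1 : GA G) = 1 :=
  ga_ext fun g => by
    classical
    by_cases hg : g ∈ S
    · exact coeff_trunc_of_mem _ hg
    · rw [coeff_trunc_of_notMem _ hg, coeff_one_eq, if_neg]
      rintro rfl; exact hg h

/-- The Brauer map. -/
noncomputable def br (P : Subgroup G) (a : GA G) : GA G :=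
  trunc (Subgroup.centralizer (P : Set G) : Set G) a

theorem coeff_br_of_mem {P : Subgroup G} (a : GA G) {g : G}
    (h : g ∈ Subgroup.centralizer (P : Set G)) : (br P a).coeff g = a.coeff g :=
  coeff_trunc_of_mem a h

theorem coeff_br_of_notMem {P : Subgroup G} (a : GA G) {g : G}
    (h : g ∉ Subgroup.centralizer (P : Set G)) : (br P a).coeff g = 0 :=
  coeff_trunc_of_notMem a h

theorem br_one (P : Subgroup G) : br P (1 : GA G) = 1 := trunc_one (Subgroup.one_mem _)

section max
variable {M : Ideal AlgInt} [hM : M.IsMaximal]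

theorem push_mem_RG (f : H →* G) {a : GA H} (ha : a ∈ RG M H) : push f a ∈ RG M G := fun g => by
  classical
  have := Fintype.ofFinite H
  rw [coeff_push_eq_sum]
  refine (LR M).sum_mem fun h _ => ?_
  split_ifs
  · exact ha h
  · exact zero_mem _

theorem push_mem_PG (f : H →* G) {a : GA H} (ha : a ∈ PG M H) : push f a ∈ PG M G := fun g => by
  classical
  have := Fintype.ofFinite H
  rw [coeff_push_eq_sum]
  refine (LP M).sum_mem fun h _ => ?_
  split_ifs
  · exact ha h
  · exact zero_mem _

theorem push_mem_ZR (f : H →* G) (hf : Function.Surjective f) {a : GA H} (ha : a ∈ ZR M H) :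
    push f a ∈ ZR M G := ⟨push_mem_RG f ha.1, push_mem_ZA f hf ha.2⟩

theorem pull_mem_RG (f : H →* G) {a : GA G} (ha : a ∈ RG M G) : pull f a ∈ RG M H :=
  fun _ => ha _

theorem pull_mem_PG (f : H →* G) {a : GA G} (ha : a ∈ PG M G) : pull f a ∈ PG M H :=
  fun _ => ha _

theorem pull_mem_ZR (f : H →* G) {a : GA G} (ha : a ∈ ZR M G) : pull f a ∈ ZR M H :=
  ⟨pull_mem_RG f ha.1, pull_mem_ZA f ha.2⟩

theorem trunc_mem_RG (S : Set G) {a : GA G} (ha : a ∈ RG M G) : trunc S a ∈ RG M G := fun g => by
  by_cases h : g ∈ S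
  · rw [coeff_trunc_of_mem _ h]; exact ha g
  · rw [coeff_trunc_of_notMem _ h]; exact zero_mem _

theorem br_mem_RG (P : Subgroup G) {a : GA G} (ha : a ∈ RG M G) : br P a ∈ RG M G :=
  trunc_mem_RG _ ha

theorem pull_br_mem_ZA (f : H →* G) {P : Subgroup G}
    (hN : f.range ≤ Subgroup.normalizer (P : Set G)) {a : GA G} (ha : a ∈ ZA G) :
    pull f (br P a) ∈ ZA H := by
  rw [mem_ZA]
  intro g h
  have h1 := PLoc.normalizer_le_normalizer_centralizer P (hN ⟨h, rfl⟩)
  simp only [coeff_pull, map_mul, map_inv]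
  by_cases hg : f g ∈ Subgroup.centralizer (P : Set G)
  · rw [coeff_br_of_mem _ hg, coeff_br_of_mem _ (PLoc.conj_mem_of_mem_normalizer h1 hg),
      mem_ZA.mp ha]
  · rw [coeff_br_of_notMem _ hg, coeff_br_of_notMem]
    intro h2
    apply hg
    simpa [mul_assoc] using PLoc.conj_mem_of_mem_normalizer' h1 h2

theorem pull_br_mem_ZR (f : H →* G) {P : Subgroup G}
    (hN : f.range ≤ Subgroup.normalizer (P : Set G)) {a : GA G} (ha : a ∈ ZR M G) :
    pull f (br P a) ∈ ZR M H :=
  ⟨pull_mem_RG f (br_mem_RG P ha.1), pull_br_mem_ZA f hN ha.2⟩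

variable (M) in
/-- The induced modular central character of `ξ` is that of `χ`. -/
def Ind (f : H →* G) (ξ : IrrCharacter H) (χ : IrrCharacter G) : Prop :=
  ∀ a ∈ ZR M G, om ξ (pull f a) - om χ a ∈ LP M

theorem ind_of_cls {f : H →* G} {ξ : IrrCharacter H} {χ : IrrCharacter G}
    (h : ∀ g, om ξ (pull f (cls g)) - centralChar (χ : G → ℂ) g ∈ LP M) : Ind M f ξ χ := by
  intro a ha
  have := Fintype.ofFinite (ConjClasses G)
  rw [cen_eq_sum_cls ha.2, pull_sum, om_sum, om_sum, ← Finset.sum_sub_distrib]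
  refine (LP M).sum_mem fun C _ => ?_
  rw [pull_smul, om_smul, om_smul, ← mul_sub, om_cls_irr]
  exact LP_mul_left (ha.1 _) (h _)

theorem Ind.cls {f : H →* G} {ξ : IrrCharacter H} {χ : IrrCharacter G} (h : Ind M f ξ χ) (g : G) :
    om ξ (pull f (cls g)) - centralChar (χ : G → ℂ) g ∈ LP M := by
  rw [← om_cls_irr]; exact h _ (cls_mem_ZR g)

theorem Ind.left {f : H →* G} {ξ ξ' : IrrCharacter H} {χ : IrrCharacter G} (h : Ind M f ξ χ)
    (h' : SameBlock M (ξ : H → ℂ) ξ') : Ind M f ξ' χ := fun a ha =>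
  LP_trans (om_sub_mem_of_sameBlock (sameBlock_symm h') (pull_mem_ZR f ha)) (h a ha)

theorem Ind.right {f : H →* G} {ξ : IrrCharacter H} {χ χ' : IrrCharacter G} (h : Ind M f ξ χ)
    (h' : SameBlock M (χ : G → ℂ) χ') : Ind M f ξ χ' := fun a ha =>
  LP_trans (h a ha) (om_sub_mem_of_sameBlock h' ha)

theorem Ind.unique {f : H →* G} {ξ : IrrCharacter H} {χ χ' : IrrCharacter G} (h : Ind M f ξ χ)
    (h' : Ind M f ξ χ') : SameBlock M (χ : G → ℂ) χ' :=
  sameBlock_of_om fun a ha => LP_trans (LP_symm (h a ha)) (h' a ha)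

theorem Ind.trans {K : Type*} [Group K] [Finite K] {e : K →* H} {f : H →* G} {θ : IrrCharacter K}
    {ξ : IrrCharacter H} {χ : IrrCharacter G} (h : Ind M e θ ξ) (h' : Ind M f ξ χ) :
    Ind M (f.comp e) θ χ := fun a ha =>
  LP_trans (by rw [← pull_pull]; exact h _ (pull_mem_ZR f ha)) (h' a ha)

theorem Ind.of_trans {K : Type*} [Group K] [Finite K] {e : K →* H} {f : H →* G}
    {θ : IrrCharacter K} {ξ : IrrCharacter H} {χ : IrrCharacter G} (h : Ind M e θ ξ)
    (h' : Ind M (f.comp e) θ χ) : Ind M f ξ χ := fun a ha =>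
  LP_trans (LP_symm (by rw [← pull_pull]; exact h _ (pull_mem_ZR f ha))) (h' a ha)

theorem Ind.mem_iff {f : H →* G} {ξ : IrrCharacter H} {χ : IrrCharacter G} (h : Ind M f ξ χ)
    {B : Set (IrrCharacter G)} (hB : IsPBlock M B) : χ ∈ B ↔ om ξ (pull f (fS B)) ∉ LP M := by
  have h1 := h _ (fS_mem_ZR hB)
  constructor
  · intro hχ
    rw [om_fS_of_mem hχ] at h1
    exact notMem_LP_of_sub h1 one_notMem_LP
  · intro h2
    by_contra hχ
    rw [om_fS_of_notMem hχ, sub_zero] at h1
    exact h2 h1

theorem om_pull_cls (K : Subgroup G) (ξ : K → ℂ) (g : G) :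
    om ξ (pull K.subtype (cls g)) = inducedCentralChar K ξ g := by
  classical
  have := Fintype.ofFinite K
  rw [om_def, ev_eq_sum, inducedCentralChar, finsum_mem_eq_finite_toFinset_sum _ (Set.toFinite _),
    Finset.sum_div]
  simp only [coeff_pull, coeff_cls, Subgroup.coe_subtype, ite_mul, one_mul, zero_mul, ite_div,
    zero_div, ← Finset.sum_filter]
  congr 1
  ext; simp

theorem om_pull_br_cls (P K : Subgroup G) (ξ : K → ℂ) (g : G) :
    om ξ (pull K.subtype (br P (cls g))) = brauerCentralChar P K ξ g := by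
  classical
  have := Fintype.ofFinite K
  rw [om_def, ev_eq_sum, brauerCentralChar, finsum_mem_eq_finite_toFinset_sum _ (Set.toFinite _),
    Finset.sum_div]
  rw [← Finset.sum_subset (Finset.subset_univ
    (Set.toFinite {h : K | IsConj g (h : G) ∧ (h : G) ∈ Subgroup.centralizer (P : Set G)}).toFinset)]
  · refine Finset.sum_congr rfl fun h hh => ?_
    simp only [Set.Finite.mem_toFinset, Set.mem_setOf_eq] at hh
    rw [coeff_pull, Subgroup.coe_subtype, coeff_br_of_mem _ hh.2, coeff_cls_of_conj hh.1, one_mul]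
  · intro h _ hh
    simp only [Set.Finite.mem_toFinset, Set.mem_setOf_eq, not_and] at hh
    rw [coeff_pull, Subgroup.coe_subtype]
    by_cases h1 : (h : G) ∈ Subgroup.centralizer (P : Set G)
    · rw [coeff_br_of_mem _ h1, coeff_cls_of_not_conj fun h2 => hh h2 h1]; simp
    · rw [coeff_br_of_notMem _ h1]; simp

theorem ind_of_isInduced {K : Subgroup G} {b : Set (IrrCharacter K)} {B : Set (IrrCharacter G)}
    (h : IsInducedBlock M K b B) {ξ : IrrCharacter K} {χ : IrrCharacter G} (hξ : ξ ∈ b)
    (hχ : χ ∈ B) : Ind M K.subtype ξ χ :=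
  ind_of_cls fun g => by rw [om_pull_cls]; exact h.2.2 ξ hξ χ hχ g

theorem isInduced_of_ind {K : Subgroup G} {b : Set (IrrCharacter K)} {B : Set (IrrCharacter G)}
    (hb : IsPBlock M b) (hB : IsPBlock M B) {ξ : IrrCharacter K} {χ : IrrCharacter G} (hξ : ξ ∈ b)
    (hχ : χ ∈ B) (h : Ind M K.subtype ξ χ) : IsInducedBlock M K b B :=
  ⟨hb, hB, fun ξ' hξ' χ' hχ' g => by
    rw [← om_pull_cls]
    exact ((h.left (blk_same hb hξ hξ')).right (blk_same hB hχ hχ')).cls g⟩

end max

variable {p : ℕ} {M : Ideal AlgInt} [hp : PMod p M]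

theorem br_mul_sub_mem {P : Subgroup G} (hP : IsPGroup p P) {a b : GA G} (ha : a ∈ RG M G)
    (hb : b ∈ RG M G) (ha' : ∀ u ∈ P, ∀ g, a.coeff (u * g * u⁻¹) = a.coeff g)
    (hb' : ∀ u ∈ P, ∀ g, b.coeff (u * g * u⁻¹) = b.coeff g) :
    br P (a * b) - br P a * br P b ∈ PG M G := by
  classical
  have := Fintype.ofFinite G
  intro c
  rw [coeff_sub, Finsupp.sub_apply, coeff_mul_sum (br P a)]
  by_cases hc : c ∈ Subgroup.centralizer (P : Set G)
  · rw [coeff_br_of_mem _ hc, coeff_mul_sum, ← Finset.sum_sub_distrib]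
    letI : MulAction P G := MulAction.compHom G (MulAut.conj.comp P.subtype)
    have hs : ∀ (u : P) (x : G), u • x = u * x * (u : G)⁻¹ := fun _ _ => rfl
    have hbr : ∀ (z : GA G), (∀ u ∈ P, ∀ g, z.coeff (u * g * u⁻¹) = z.coeff g) →
        ∀ u ∈ P, ∀ g, (br P z).coeff (u * g * u⁻¹) = (br P z).coeff g := by
      intro z hz u hu g
      have h1 := PLoc.normalizer_le_normalizer_centralizer P (Subgroup.le_normalizer hu)
      by_cases hg : g ∈ Subgroup.centralizer (P : Set G)
      · rw [coeff_br_of_mem _ hg, coeff_br_of_mem _ (PLoc.conj_mem_of_mem_normalizer h1 hg),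
          hz u hu]
      · rw [coeff_br_of_notMem _ hg, coeff_br_of_notMem]
        intro h2
        apply hg
        simpa [mul_assoc] using PLoc.conj_mem_of_mem_normalizer' h1 h2
    refine sum_mem_LP_of_invariant hP _ (fun u x => ?_) (fun x => ?_) (fun x hx => ?_)
    · have h1 : (u * x * (u : G)⁻¹)⁻¹ * c = u * (x⁻¹ * c) * (u : G)⁻¹ := by
        have := (Subgroup.mem_centralizer_iff.mp hc) _ (P.inv_mem u.2)
        rw [mul_assoc _ (x⁻¹ * c), mul_assoc x⁻¹, ← this]; group
      rw [hs, h1, ha' u u.2, hb' u u.2, hbr a ha' u u.2, hbr b hb' u u.2]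
    · exact sub_mem (mul_mem (ha _) (hb _)) (mul_mem (br_mem_RG P ha _) (br_mem_RG P hb _))
    · have hx' : x ∈ Subgroup.centralizer (P : Set G) := by
        rw [Subgroup.mem_centralizer_iff]
        intro u hu
        have := hx ⟨u, hu⟩
        rwa [hs, mul_inv_eq_iff_eq_mul] at this
      rw [coeff_br_of_mem _ hx', coeff_br_of_mem _ (mul_mem (inv_mem hx') hc), sub_self]
      exact zero_mem _
  · rw [coeff_br_of_notMem _ hc, Finset.sum_eq_zero, sub_zero]
    · exact zero_mem _
    · intro x _
      by_cases hx : x ∈ Subgroup.centralizer (P : Set G)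
      · rw [coeff_br_of_notMem (g := x⁻¹ * c), mul_zero]
        intro h
        exact hc (by simpa using mul_mem hx h)
      · rw [coeff_br_of_notMem _ hx, zero_mul]

theorem br_mul_sub_mem_ZR {P : Subgroup G} (hP : IsPGroup p P) {a b : GA G} (ha : a ∈ ZR M G)
    (hb : b ∈ ZR M G) : br P (a * b) - br P a * br P b ∈ PG M G :=
  br_mul_sub_mem hP ha.1 hb.1 (fun u _ g => mem_ZA.mp ha.2 g u) (fun u _ g => mem_ZA.mp hb.2 g u)

theorem pull_br_mul_sub_mem {f : H →* G} (hf : Function.Injective f) {P : Subgroup G}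
    (hP : IsPGroup p P) (hC : Subgroup.centralizer (P : Set G) ≤ f.range) {a b : GA G}
    (ha : a ∈ ZR M G) (hb : b ∈ ZR M G) :
    pull f (br P (a * b)) - pull f (br P a) * pull f (br P b) ∈ PG M H := by
  rw [← pull_mul f hf (fun g hg => coeff_br_of_notMem a fun h => hg (hC h)), ← pull_sub]
  exact pull_mem_PG f (br_mul_sub_mem_ZR hP ha hb)

theorem centralChar_mem_LP {P : Subgroup G} [hN : P.Normal] (hP : IsPGroup p P)
    (χ : IrrCharacter G) {g : G} (hg : g ∉ Subgroup.centralizer (P : Set G)) :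
    centralChar (χ : G → ℂ) g ∈ LP M := by
  classical
  haveI : Fact p.Prime := ⟨hp.out.1⟩
  obtain ⟨n, hn⟩ := isNilpotent_indicator (F := RF M) hP (IsConj g)
    (fun x u _ h => h.trans (isConj_conj x u)) (fun x hx h => hg (by
      obtain ⟨c, rfl⟩ := isConj_iff.mp hx.symm
      exact (Subgroup.normal_centralizer (H := P)).conj_mem _ h c))
  have h1 : piF (⟨cls g, cls_mem_RG g⟩ : RG M G) =
      ofFn fun x => if IsConj g x then (1 : RF M) else 0 := by
    refine ga_ext fun x => ?_
    rw [coeff_piF, coeff_ofFn]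
    split_ifs with h
    · rw [← map_one (res M)]; congr 1; exact Subtype.ext (coeff_cls_of_conj h)
    · rw [← map_zero (res M)]; congr 1; exact Subtype.ext (coeff_cls_of_not_conj h)
  rw [← h1, ← map_pow, piF_eq_zero] at hn
  have h2 := om_mem_LP χ (pow_mem (cls_mem_ZA g) n) hn
  rw [om_pow χ (cls_mem_ZA g), om_cls_irr] at h2
  exact LP_of_pow (centralChar_mem_LR χ g) h2

theorem om_mem_LP_of_support {P : Subgroup G} [hN : P.Normal] (hP : IsPGroup p P)
    (χ : IrrCharacter G) {a : GA G} (ha : a ∈ ZR M G)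
    (h : ∀ g ∈ Subgroup.centralizer (P : Set G), a.coeff g ∈ LP M) : om χ a ∈ LP M := by
  by_contra hc
  obtain ⟨g, h1, h2⟩ := exists_cls_of_om_notMem χ ha hc
  exact h2 (centralChar_mem_LP hP χ fun hg => h1 (h g hg))

theorem normal_comap_of_range_le {f : H →* G} {P : Subgroup G}
    (hN : f.range ≤ Subgroup.normalizer (P : Set G)) : (P.comap f).Normal :=
  ⟨fun n hn g => by
    simpa using PLoc.conj_mem_of_mem_normalizer (hN ⟨g, rfl⟩) (Subgroup.mem_comap.mp hn)⟩

theorem mem_centralizer_comap {f : H →* G} (hf : Function.Injective f) {P : Subgroup G}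
    (hPH : P ≤ f.range) {h : H} :
    h ∈ Subgroup.centralizer (P.comap f : Set H) ↔ f h ∈ Subgroup.centralizer (P : Set G) := by
  simp only [Subgroup.mem_centralizer_iff, SetLike.mem_coe, Subgroup.mem_comap]
  constructor
  · intro H' u hu
    obtain ⟨v, rfl⟩ := hPH hu
    rw [← map_mul, H' v hu, map_mul]
  · intro H' v hv
    apply hf
    rw [map_mul, map_mul, H' _ hv]

theorem om_pull_sub_br {f : H →* G} (hf : Function.Injective f) {P : Subgroup G}
    (hP : IsPGroup p P) (hPH : P ≤ f.range) (hN : f.range ≤ Subgroup.normalizer (P : Set G))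
    (ξ : IrrCharacter H) {a : GA G} (ha : a ∈ ZR M G) :
    om ξ (pull f a) - om ξ (pull f (br P a)) ∈ LP M := by
  haveI := normal_comap_of_range_le hN
  rw [← om_sub]
  refine om_mem_LP_of_support (hP.comap_of_injective f hf) ξ
    (sub_mem (pull_mem_ZR f ha) (pull_br_mem_ZR f hN ha)) fun h hh => ?_
  rw [coeff_sub, Finsupp.sub_apply, coeff_pull, coeff_pull,
    coeff_br_of_mem _ ((mem_centralizer_comap hf hPH).mp hh), sub_self]
  exact zero_mem _

theorem exists_ind {f : H →* G} (hf : Function.Injective f) {P : Subgroup G}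
    (hP : IsPGroup p P) (hPH : P ≤ f.range) (hC : Subgroup.centralizer (P : Set G) ≤ f.range)
    (hN : f.range ≤ Subgroup.normalizer (P : Set G)) (ξ : IrrCharacter H) :
    ∃ χ : IrrCharacter G, Ind M f ξ χ := by
  let μ : ZR M G →+* RF M :=
    { toFun := fun a => lam ξ ⟨pull f (br P a), pull_br_mem_ZR f hN a.2⟩
      map_one' := by
        rw [← map_one (lam ξ)]; congr 1
        exact Subtype.ext ((congrArg (pull f) (br_one P)).trans (pull_one f hf))
      map_mul' := fun a b => by
        rw [← map_mul, ← sub_eq_zero, ← map_sub, lam_eq_zero]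
        exact om_mem_LP ξ (Subtype.prop (_ : ZR M H)).2 (pull_br_mul_sub_mem hf hP hC a.2 b.2)
      map_zero' := by
        rw [← map_zero (lam ξ)]; congr 1
        exact Subtype.ext ((congrArg (pull f) (trunc_zero _)).trans (pull_zero f))
      map_add' := fun a b => by
        rw [← map_add]; congr 1
        exact Subtype.ext ((congrArg (pull f) (trunc_add _ _ _)).trans (pull_add f _ _)) }
  obtain ⟨χ, hχ⟩ := exists_lam_eq μ fun r => by
    rw [← lam_scal ξ r]
    change lam ξ _ = _
    congr 1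
    apply Subtype.ext
    change pull f (br P (scal r : ZR M G)) = (scal r : ZR M H)
    rw [coe_scal, coe_scal, br, trunc_smul, pull_smul, ← br, br_one, pull_one f hf]
  refine ⟨χ, fun a ha => LP_trans (om_pull_sub_br hf hP hPH hN ξ ha) ?_⟩
  exact res_eq_res.mp (RingHom.congr_fun hχ ⟨a, ha⟩)

/-- The Brauer homomorphism into the modular group algebra. -/
noncomputable def brF {P : Subgroup G} (hP : IsPGroup p P) : ZR M G →+* MonoidAlgebra (RF M) G where
  toFun a := piF ⟨br P a, br_mem_RG P a.2.1⟩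
  map_one' := by
    rw [← map_one piF]; congr 1
    exact Subtype.ext (br_one P)
  map_mul' a b := by
    rw [← map_mul, ← sub_eq_zero, ← map_sub, piF_eq_zero]
    exact br_mul_sub_mem_ZR hP a.2 b.2
  map_zero' := by
    rw [← map_zero piF]; congr 1
    exact Subtype.ext (trunc_zero _)
  map_add' a b := by
    rw [← map_add]; congr 1
    exact Subtype.ext (trunc_add _ _ _)

theorem brF_eq_zero {P : Subgroup G} (hP : IsPGroup p P) {a : ZR M G} :
    brF hP a = 0 ↔ ∀ g ∈ Subgroup.centralizer (P : Set G), (a : GA G).coeff g ∈ LP M := by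
  refine piF_eq_zero.trans ⟨fun h g hg => ?_, fun h g => ?_⟩
  · have := h g
    rwa [coeff_br_of_mem _ hg] at this
  · by_cases hg : g ∈ Subgroup.centralizer (P : Set G)
    · rw [coeff_br_of_mem _ hg]; exact h g hg
    · rw [coeff_br_of_notMem _ hg]; exact zero_mem _

/-- The min-max lemma. -/
theorem min_max {B : Set (IrrCharacter G)} (hB : IsPBlock M B) {Q : Subgroup G}
    (hQ : IsPGroup p Q) {g : G} (hg : blockCoeff B g ∉ LP M)
    (hgQ : g ∈ Subgroup.centralizer (Q : Set G)) {χ : IrrCharacter G} (hχ : χ ∈ B) {a : GA G}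
    (ha : a ∈ ZR M G) (h : om χ a ∉ LP M) :
    ∃ x ∈ Subgroup.centralizer (Q : Set G), a.coeff x ∉ LP M := by
  by_contra hc
  push Not at hc
  have h1 : brF hQ (⟨a, ha⟩ : ZR M G) = 0 := (brF_eq_zero hQ).mpr hc
  let r : LR M := ⟨_, inv_mem_LR (om_mem_LR χ ha) h⟩
  have h2 := hom_pow_eq_zero (brF (M := M) hQ) (fun r hr => (brF_eq_zero hQ).mpr fun g _ => by
      rw [coe_scal]; exact smul_mem_PG hr (one_mem _) g)
    (a := (1 - scal r * ⟨a, ha⟩) * ⟨fS B, fS_mem_ZR hB⟩) (fun ψ => by
      classical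
      rw [← omR_apply, map_mul, map_sub, map_mul, map_one, omR_scal, omR_apply, omR_apply, om_fS]
      split_ifs with hψ
      · have h3 := LP_mul_left r.2 (om_sub_mem_of_blk hB hχ hψ ha)
        rw [mul_sub, inv_mul_cancel₀ (ne_zero_of_notMem_LP h)] at h3
        rw [mul_one]; exact h3
      · rw [mul_zero]; exact zero_mem _)
  rw [map_mul, map_sub, map_mul, h1, mul_zero, sub_zero, map_one, one_mul] at h2
  have h3 : IsIdempotentElem (brF hQ (⟨fS B, fS_mem_ZR hB⟩ : ZR M G)) := by
    rw [IsIdempotentElem, ← map_mul]; congr 1; exact Subtype.ext (fS_mul_self B)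
  rw [h3.pow_eq Fintype.card_ne_zero, brF_eq_zero] at h2
  exact hg (by simpa using h2 g hgQ)

end Cfsg.Agent.Blk
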