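import Cfsg.Agent.Blk.Alg

/-! The integral group algebra, blocks and block idempotents. -/

set_option autoImplicit false
set_option linter.unusedSectionVars false

namespace Cfsg.Agent.Blk

open Cfsg Cfsg.Agent.Char MonoidAlgebra
open scoped ComplexConjugate

variable {M : Ideal AlgInt} [hM : M.IsMaximal] {G : Type*} [Group G] [Finite G]

variable (M G) in
/-- Elements with local integer coefficients. -/
noncomputable def RG : Subring (GA G) where
  carrier := {a | ∀ g, a.coeff g ∈ LR M}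
  mul_mem' := by
    intro a b ha hb g
    have := Fintype.ofFinite G
    rw [coeff_mul_sum]
    exact (LR M).sum_mem fun x _ => (LR M).mul_mem (ha _) (hb _)
  one_mem' g := by
    classical
    rw [coeff_one_eq]; split_ifs
    · exact one_mem _
    · exact zero_mem _
  add_mem' ha hb g := (LR M).add_mem (ha g) (hb g)
  zero_mem' g := (LR M).zero_mem
  neg_mem' ha g := (LR M).neg_mem (ha g)

variable (M G) in
/-- Elements with coefficients in the maximal ideal. -/
noncomputable def PG : AddSubgroup (GA G) where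
  carrier := {a | ∀ g, a.coeff g ∈ LP M}
  add_mem' ha hb g := (LP M).add_mem (ha g) (hb g)
  zero_mem' g := (LP M).zero_mem
  neg_mem' ha g := (LP M).neg_mem (ha g)

theorem mem_RG {a : GA G} : a ∈ RG M G ↔ ∀ g, a.coeff g ∈ LR M := Iff.rfl
theorem mem_PG {a : GA G} : a ∈ PG M G ↔ ∀ g, a.coeff g ∈ LP M := Iff.rfl

theorem RG_of_PG {a : GA G} (h : a ∈ PG M G) : a ∈ RG M G := fun g => LR_of_LP (h g)

theorem PG_mul_left {a b : GA G} (ha : a ∈ RG M G) (hb : b ∈ PG M G) : a * b ∈ PG M G := by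
  intro g
  have := Fintype.ofFinite G
  rw [coeff_mul_sum]
  exact (LP M).sum_mem fun x _ => LP_mul_left (ha _) (hb _)

theorem PG_mul_right {a b : GA G} (ha : a ∈ PG M G) (hb : b ∈ RG M G) : a * b ∈ PG M G := by
  intro g
  have := Fintype.ofFinite G
  rw [coeff_mul_sum]
  exact (LP M).sum_mem fun x _ => LP_mul_right (ha _) (hb _)

theorem smul_mem_RG {r : ℂ} {a : GA G} (hr : r ∈ LR M) (ha : a ∈ RG M G) : r • a ∈ RG M G :=
  fun g => (LR M).mul_mem hr (ha g)

theorem smul_mem_PG {r : ℂ} {a : GA G} (hr : r ∈ LP M) (ha : a ∈ RG M G) : r • a ∈ PG M G :=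
  fun g => LP_mul_right hr (ha g)

theorem smul_mem_PG' {r : ℂ} {a : GA G} (hr : r ∈ LR M) (ha : a ∈ PG M G) : r • a ∈ PG M G :=
  fun g => LP_mul_left hr (ha g)

theorem single_mem_RG (g : G) {r : ℂ} (hr : r ∈ LR M) : single g r ∈ RG M G := by
  classical
  intro x
  rw [coeff_single, Finsupp.single_apply]
  split_ifs
  · exact hr
  · exact zero_mem _

theorem cls_mem_RG (g : G) : cls g ∈ RG M G := by
  classical
  intro x
  rw [coeff_cls]
  split_ifs
  · exact one_mem _
  · exact zero_mem _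

/-- The inclusion of the group algebra over the local ring. -/
noncomputable def iotaR : MonoidAlgebra (LR M) G →+* RG M G :=
  (mapRingHom G (LR M).subtype).codRestrict _ fun a g => by simp

theorem coeff_iotaR (a : MonoidAlgebra (LR M) G) (g : G) :
    ((iotaR a : RG M G) : GA G).coeff g = a.coeff g := coeff_mapRingHom _ _ _

theorem iotaR_bijective : Function.Bijective (iotaR : MonoidAlgebra (LR M) G →+* RG M G) := by
  constructor
  · intro a b h
    refine ga_ext fun g => Subtype.ext ?_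
    have := congrArg (fun x : RG M G => (x : GA G).coeff g) h
    simpa only [coeff_iotaR] using this
  · intro a
    refine ⟨ofFn fun g => ⟨(a : GA G).coeff g, a.2 g⟩, Subtype.ext (ga_ext fun g => ?_)⟩
    rw [coeff_iotaR]; rfl

/-- The integral group algebra is the group algebra over the local ring. -/
noncomputable def eqvR : MonoidAlgebra (LR M) G ≃+* RG M G := RingEquiv.ofBijective _ iotaR_bijective

theorem coeff_eqvR (a : MonoidAlgebra (LR M) G) (g : G) :
    ((eqvR a : RG M G) : GA G).coeff g = a.coeff g := coeff_iotaR a g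

theorem coeff_eqvR_symm (a : RG M G) (g : G) :
    (((eqvR (M := M)).symm a).coeff g : ℂ) = (a : GA G).coeff g := by
  rw [← coeff_eqvR, RingEquiv.apply_symm_apply]

/-- Reduction of coefficients. -/
noncomputable def piF : RG M G →+* MonoidAlgebra (RF M) G :=
  (mapRingHom G (res M)).comp (eqvR (M := M)).symm.toRingHom

theorem coeff_piF (a : RG M G) (g : G) : (piF a).coeff g = res M ⟨(a : GA G).coeff g, a.2 g⟩ := by
  simp only [piF, RingHom.comp_apply, coeff_mapRingHom]
  congr 1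
  exact Subtype.ext (coeff_eqvR_symm a g)

theorem piF_eq_zero {a : RG M G} : piF a = 0 ↔ (a : GA G) ∈ PG M G := by
  constructor
  · intro h g
    have := congrArg (fun x : MonoidAlgebra (RF M) G => x.coeff g) h
    simp only [coeff_piF] at this
    exact res_eq_zero.mp this
  · intro h
    refine ga_ext fun g => ?_
    rw [coeff_piF]
    exact res_eq_zero.mpr (h g)

theorem isUnit_one_add_of_mem {R S : Type*} [CommRing R] [IsLocalRing R] [Ring S] [Algebra R S]
    [Module.Finite R S] {x : S} (hx : x ∈ IsLocalRing.maximalIdeal R • (⊤ : Submodule R S)) :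
    IsUnit (1 + x) := by
  have key : ∀ (T : S →ₗ[R] S), (∀ y, T y ∈ IsLocalRing.maximalIdeal R • (⊤ : Submodule R S)) →
      ∃ y, y + T y = 1 := by
    intro T hT
    have h1 : (⊤ : Submodule R S) ≤ LinearMap.range (LinearMap.id + T) :=
      Submodule.le_of_le_smul_of_le_jacobson_bot Module.Finite.fg_top
        (IsLocalRing.maximalIdeal_le_jacobson _) (fun y _ => by
          have : y = (y + T y) - T y := by abel
          rw [this]
          exact Submodule.sub_mem _ (Submodule.mem_sup_left ⟨y, rfl⟩)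
            (Submodule.mem_sup_right (hT y)))
    exact h1 (Submodule.mem_top (x := 1))
  obtain ⟨y, hy⟩ := key (LinearMap.mulLeft R x) fun y => by
    refine Submodule.smul_induction_on hx (fun r hr s _ => ?_) (fun a b ha hb => ?_)
    · simp only [LinearMap.mulLeft_apply, smul_mul_assoc]
      exact Submodule.smul_mem_smul hr Submodule.mem_top
    · simp only [LinearMap.mulLeft_apply, add_mul] at *
      exact add_mem ha hb
  obtain ⟨z, hz⟩ := key (LinearMap.mulRight R x) fun y => by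
    refine Submodule.smul_induction_on hx (fun r hr s _ => ?_) (fun a b ha hb => ?_)
    · simp only [LinearMap.mulRight_apply, mul_smul_comm]
      exact Submodule.smul_mem_smul hr Submodule.mem_top
    · simp only [LinearMap.mulRight_apply, mul_add] at *
      exact add_mem ha hb
  have h1 : (1 + x) * y = 1 := by rw [add_mul, one_mul]; exact hy
  have h2 : z * (1 + x) = 1 := by rw [mul_add, mul_one]; exact hz
  have h3 : z = y := left_inv_eq_right_inv h2 h1
  exact ⟨⟨1 + x, y, h1, h3 ▸ h2⟩, rfl⟩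

theorem exists_inv_one_add {a : GA G} (ha : a ∈ PG M G) :
    ∃ b ∈ RG M G, b * (1 + a) = 1 ∧ (1 + a) * b = 1 := by
  have := Fintype.ofFinite G
  let a' : MonoidAlgebra (LR M) G := (eqvR (M := M)).symm ⟨a, RG_of_PG ha⟩
  have h1 : a' ∈ IsLocalRing.maximalIdeal (LR M) • (⊤ : Submodule (LR M) (MonoidAlgebra (LR M) G)) := by
    rw [eq_sum_single a']
    refine Submodule.sum_mem _ fun g _ => ?_
    have : (single g (a'.coeff g) : MonoidAlgebra (LR M) G) = a'.coeff g • single g 1 := by simp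
    rw [this]
    refine Submodule.smul_mem_smul (mem_maximalIdeal_LR.mpr ?_) Submodule.mem_top
    rw [coeff_eqvR_symm]; exact ha g
  obtain ⟨u, hu⟩ := (isUnit_one_add_of_mem h1).map (eqvR (M := M))
  have h2 : ((u : RG M G) : GA G) = 1 + a := by
    rw [hu, map_add, map_one, RingEquiv.apply_symm_apply]; rfl
  refine ⟨((u⁻¹ : (RG M G)ˣ) : RG M G), Subtype.prop _, ?_, ?_⟩
  · rw [← h2, ← Subring.coe_mul]; simp
  · rw [← h2, ← Subring.coe_mul]; simp

theorem isUnit_one_add {a : GA G} (ha : a ∈ PG M G) : IsUnit (1 + a) := by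
  obtain ⟨b, -, h1, h2⟩ := exists_inv_one_add ha
  exact ⟨⟨1 + a, b, h2, h1⟩, rfl⟩

variable (M G) in
/-- The centre of the integral group algebra. -/
noncomputable def ZR : Subring (GA G) := RG M G ⊓ (ZA G).toSubring

theorem mem_ZR {a : GA G} : a ∈ ZR M G ↔ a ∈ RG M G ∧ a ∈ ZA G := Iff.rfl

noncomputable instance instCommRingZR : CommRing (ZR M G) :=
  { (inferInstance : Ring (ZR M G)) with
    mul_comm := fun a b => Subtype.ext (ZA_comm a.2.2 _) }

theorem cls_mem_ZR (g : G) : cls g ∈ ZR M G := ⟨cls_mem_RG g, cls_mem_ZA g⟩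

theorem smul_mem_ZR {r : ℂ} {a : GA G} (hr : r ∈ LR M) (ha : a ∈ ZR M G) : r • a ∈ ZR M G :=
  ⟨smul_mem_RG hr ha.1, (ZA G).smul_mem ha.2 r⟩

theorem ofFn_mem_ZR {f : G → ℂ} (hf : IsClassFunction G f) (h : ∀ g, f g ∈ LR M) :
    ofFn f ∈ ZR M G := ⟨h, ofFn_mem_ZA hf⟩

theorem centralChar_mem_LR (χ : IrrCharacter G) (g : G) : centralChar (χ : G → ℂ) g ∈ LR M :=
  LR_of_isIntegral (isIntegral_centralChar χ g)

theorem irr_mem_LR (χ : IrrCharacter G) (g : G) : (χ : G → ℂ) g ∈ LR M :=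
  LR_of_isIntegral (χ.2.isCharacter.isIntegral g)

theorem conj_irr_mem_LR (χ : IrrCharacter G) (g : G) : conj ((χ : G → ℂ) g) ∈ LR M :=
  LR_of_isIntegral (χ.2.conj.isCharacter.isIntegral g)

theorem om_mem_LR (χ : IrrCharacter G) {a : GA G} (ha : a ∈ ZR M G) : om χ a ∈ LR M := by
  have := Fintype.ofFinite (ConjClasses G)
  rw [om_eq_sum_cls _ ha.2]
  refine (LR M).sum_mem fun C _ => (LR M).mul_mem (ha.1 _) ?_
  rw [om_cls_irr]; exact centralChar_mem_LR χ _

theorem om_mem_LP (χ : IrrCharacter G) {a : GA G} (ha : a ∈ ZA G) (ha' : a ∈ PG M G) :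
    om χ a ∈ LP M := by
  have := Fintype.ofFinite (ConjClasses G)
  rw [om_eq_sum_cls _ ha]
  refine (LP M).sum_mem fun C _ => LP_mul_right (ha' _) ?_
  rw [om_cls_irr]; exact centralChar_mem_LR χ _

theorem om_congr_PG (χ : IrrCharacter G) {a b : GA G} (ha : a ∈ ZA G) (hb : b ∈ ZA G)
    (h : a - b ∈ PG M G) : om χ a - om χ b ∈ LP M := by
  rw [← om_sub]; exact om_mem_LP χ (sub_mem ha hb) h

/-- If the central character at a central integral element is a unit, some class in its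
support modulo the maximal ideal has unit central character. -/
theorem exists_cls_of_om_notMem (χ : IrrCharacter G) {a : GA G} (ha : a ∈ ZR M G)
    (h : om χ a ∉ LP M) : ∃ g, a.coeff g ∉ LP M ∧ centralChar (χ : G → ℂ) g ∉ LP M := by
  have := Fintype.ofFinite (ConjClasses G)
  rw [om_eq_sum_cls _ ha.2] at h
  obtain ⟨C, -, hC⟩ := exists_notMem_LP_of_sum h
  rw [om_cls_irr] at hC
  exact ⟨C.out, fun h => hC (LP_mul_right h (centralChar_mem_LR χ _)),
    fun h => hC (LP_mul_left (ha.1 _) h)⟩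

/-- The central character on the integral centre. -/
noncomputable def omR (χ : IrrCharacter G) : ZR M G →+* ℂ where
  toFun a := om χ (a : GA G)
  map_one' := om_one χ
  map_mul' a b := om_mul χ a.2.2 _
  map_zero' := om_zero (χ : G → ℂ)
  map_add' _ _ := om_add _ _ _

theorem omR_apply (χ : IrrCharacter G) (a : ZR M G) : omR χ a = om χ (a : GA G) := rfl

/-- The modular central character. -/
noncomputable def lam (χ : IrrCharacter G) : ZR M G →+* RF M :=
  (res M).comp ((omR χ).codRestrict _ fun a => om_mem_LR χ a.2)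

theorem lam_apply (χ : IrrCharacter G) (a : ZR M G) :
    lam χ a = res M ⟨om χ (a : GA G), om_mem_LR χ a.2⟩ := rfl

theorem lam_eq_zero {χ : IrrCharacter G} {a : ZR M G} : lam χ a = 0 ↔ om χ (a : GA G) ∈ LP M :=
  res_eq_zero

/-- Scalars. -/
noncomputable def scal : LR M →+* ZR M G :=
  ((algebraMap ℂ (GA G)).comp (LR M).subtype).codRestrict _ fun r => by
    simp only [RingHom.comp_apply, Algebra.algebraMap_eq_smul_one]
    exact smul_mem_ZR r.2 (one_mem _)

theorem coe_scal (r : LR M) : ((scal r : ZR M G) : GA G) = (r : ℂ) • 1 := by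
  rw [← Algebra.algebraMap_eq_smul_one]; rfl

theorem omR_scal (χ : IrrCharacter G) (r : LR M) : omR χ (scal r : ZR M G) = r := by
  rw [omR_apply, coe_scal, om_smul, om_one, mul_one]

theorem lam_scal (χ : IrrCharacter G) (r : LR M) : lam χ (scal r : ZR M G) = res M r := by
  rw [lam_apply]; congr 1; exact Subtype.ext (omR_scal χ r)

theorem ZR_ext {a b : ZR M G} (h : ∀ χ : IrrCharacter G, omR χ a = omR χ b) : a = b :=
  Subtype.ext (cen_ext a.2.2 b.2.2 h)

theorem prod_sub_scal_om (a : ZR M G) :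
    ∏ χ : IrrCharacter G, (a - scal ⟨om χ (a : GA G), om_mem_LR χ a.2⟩) = 0 := by
  refine ZR_ext fun ψ => ?_
  rw [map_prod, map_zero]
  refine Finset.prod_eq_zero (Finset.mem_univ ψ) ?_
  rw [map_sub, omR_scal, omR_apply, sub_self]

/-! ### Blocks -/

theorem sameBlock_iff {χ ψ : G → ℂ} :
    SameBlock M χ ψ ↔ ∀ g, centralChar χ g - centralChar ψ g ∈ LP M := Iff.rfl

theorem sameBlock_refl (χ : G → ℂ) : SameBlock M χ χ := fun g => by
  rw [sub_self]; exact (LP M).zero_mem

theorem sameBlock_symm {χ ψ : G → ℂ} (h : SameBlock M χ ψ) : SameBlock M ψ χ :=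
  fun g => LP_symm (h g)

theorem sameBlock_trans {χ ψ θ : G → ℂ} (h : SameBlock M χ ψ) (h' : SameBlock M ψ θ) :
    SameBlock M χ θ := fun g => LP_trans (h g) (h' g)

theorem om_sub_mem_of_sameBlock {χ ψ : IrrCharacter G} (h : SameBlock M (χ : G → ℂ) ψ) {a : GA G}
    (ha : a ∈ ZR M G) : om χ a - om ψ a ∈ LP M := by
  have := Fintype.ofFinite (ConjClasses G)
  rw [om_eq_sum_cls _ ha.2, om_eq_sum_cls _ ha.2, ← Finset.sum_sub_distrib]
  refine (LP M).sum_mem fun C _ => ?_
  rw [← mul_sub, om_cls_irr, om_cls_irr]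
  exact LP_mul_left (ha.1 _) (h _)

theorem sameBlock_of_om {χ ψ : IrrCharacter G}
    (h : ∀ a ∈ ZR M G, om χ a - om ψ a ∈ LP M) : SameBlock M (χ : G → ℂ) ψ := fun g => by
  have := h _ (cls_mem_ZR g)
  rwa [om_cls_irr, om_cls_irr] at this

theorem sameBlock_iff_lam {χ ψ : IrrCharacter G} :
    SameBlock M (χ : G → ℂ) ψ ↔ (lam χ : ZR M G →+* RF M) = lam ψ := by
  constructor
  · intro h
    ext a
    exact res_eq_res.mpr (om_sub_mem_of_sameBlock h a.2)
  · intro h
    exact sameBlock_of_om fun a ha => res_eq_res.mp (RingHom.congr_fun h ⟨a, ha⟩)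

theorem mem_blockOf {χ : G → ℂ} {ψ : IrrCharacter G} : ψ ∈ blockOf M χ ↔ SameBlock M χ ψ := Iff.rfl

theorem mem_blockOf_self (χ : IrrCharacter G) : χ ∈ blockOf M (χ : G → ℂ) := sameBlock_refl _

theorem isPBlock_blockOf (χ : IrrCharacter G) : IsPBlock M (blockOf M (χ : G → ℂ)) := ⟨χ, rfl⟩

theorem isPBlock_principal : IsPBlock M (principalBlock M G) := ⟨irrOne G, rfl⟩

theorem irrOne_mem_principal : irrOne G ∈ principalBlock M G := sameBlock_refl _

theorem blockOf_eq_of_sameBlock {χ ψ : G → ℂ} (h : SameBlock M χ ψ) : blockOf M χ = blockOf M ψ :=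
  Set.ext fun _ => ⟨fun h' => sameBlock_trans (sameBlock_symm h) h', fun h' => sameBlock_trans h h'⟩

theorem blk_nonempty {B : Set (IrrCharacter G)} (hB : IsPBlock M B) : ∃ χ, χ ∈ B := by
  obtain ⟨χ, rfl⟩ := hB
  exact ⟨χ, mem_blockOf_self χ⟩

theorem blk_eq_blockOf {B : Set (IrrCharacter G)} (hB : IsPBlock M B) {χ : IrrCharacter G}
    (h : χ ∈ B) : B = blockOf M (χ : G → ℂ) := by
  obtain ⟨ψ, rfl⟩ := hB
  exact blockOf_eq_of_sameBlock h

theorem blk_same {B : Set (IrrCharacter G)} (hB : IsPBlock M B) {χ ψ : IrrCharacter G}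
    (h : χ ∈ B) (h' : ψ ∈ B) : SameBlock M (χ : G → ℂ) ψ := by
  rw [blk_eq_blockOf hB h] at h'; exact h'

theorem blk_mem {B : Set (IrrCharacter G)} (hB : IsPBlock M B) {χ ψ : IrrCharacter G}
    (h : χ ∈ B) (h' : SameBlock M (χ : G → ℂ) ψ) : ψ ∈ B := by
  rw [blk_eq_blockOf hB h]; exact h'

theorem blk_eq_of_mem {B C : Set (IrrCharacter G)} (hB : IsPBlock M B) (hC : IsPBlock M C)
    {χ : IrrCharacter G} (h : χ ∈ B) (h' : χ ∈ C) : B = C :=
  (blk_eq_blockOf hB h).trans (blk_eq_blockOf hC h').symm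

theorem om_sub_mem_of_blk {B : Set (IrrCharacter G)} (hB : IsPBlock M B) {χ ψ : IrrCharacter G}
    (h : χ ∈ B) (h' : ψ ∈ B) {a : GA G} (ha : a ∈ ZR M G) : om χ a - om ψ a ∈ LP M :=
  om_sub_mem_of_sameBlock (blk_same hB h h') ha

/-- Osima: block idempotents are integral. -/
theorem fS_mem_ZR {B : Set (IrrCharacter G)} (hB : IsPBlock M B) : fS B ∈ ZR M G := by
  classical
  obtain ⟨χ, hχ⟩ := blk_nonempty hB
  have h1 : ∀ ψ : IrrCharacter G, ψ ∉ B → ∃ z : ZR M G, omR ψ z = 0 ∧ omR χ z ∉ LP M := by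
    intro ψ hψ
    have : ¬ SameBlock M (χ : G → ℂ) ψ := fun h => hψ (blk_mem hB hχ h)
    obtain ⟨g, hg⟩ := not_forall.mp this
    refine ⟨⟨cls g, cls_mem_ZR g⟩ - scal ⟨_, centralChar_mem_LR ψ g⟩, ?_, ?_⟩
    · rw [map_sub, omR_scal, omR_apply, om_cls_irr, sub_self]
    · rw [map_sub, omR_scal, omR_apply, om_cls_irr]; exact hg
  choose! z hz using h1
  let w : ZR M G := ∏ ψ ∈ Finset.univ.filter (· ∉ B), z ψ
  have hw0 : ∀ ψ : IrrCharacter G, ψ ∉ B → omR ψ w = 0 := fun ψ hψ => by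
    rw [map_prod]
    exact Finset.prod_eq_zero (i := ψ) (by simpa using hψ) (hz ψ hψ).1
  have hw1 : ∀ ψ ∈ B, omR ψ w ∉ LP M := fun ψ hψ => by
    refine notMem_LP_of_sub (om_sub_mem_of_blk hB hψ hχ w.2) ?_
    rw [← lam_eq_zero, map_prod, Finset.prod_eq_zero_iff]
    rintro ⟨θ, hθ, h⟩
    exact (hz θ (by simpa using hθ)).2 (lam_eq_zero.mp h)
  have hinv : ∀ ψ : IrrCharacter G, ∃ r : LR M, ψ ∈ B → (r : ℂ) * omR ψ w = 1 := fun ψ => by
    by_cases hψ : ψ ∈ B
    · exact ⟨⟨_, inv_mem_LR (om_mem_LR ψ w.2) (hw1 ψ hψ)⟩, fun _ =>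
        inv_mul_cancel₀ (ne_zero_of_notMem_LP (hw1 ψ hψ))⟩
    · exact ⟨0, fun h => absurd h hψ⟩
  choose r hr using hinv
  let v : ZR M G := 1 - ∏ ψ ∈ Finset.univ.filter (· ∈ B), (1 - scal (r ψ) * w)
  have hv : fS B = (v : GA G) := by
    refine cen_ext (fS_mem_ZA B) v.2.2 fun ψ => ?_
    rw [← omR_apply, map_sub, map_one, map_prod, om_fS]
    simp only [map_sub, map_mul, map_one, omR_scal]
    split_ifs with hψ
    · rw [Finset.prod_eq_zero (i := ψ) (by simpa using hψ) (by rw [hr ψ hψ, sub_self]), sub_zero]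
    · simp [hw0 ψ hψ]
  rw [hv]; exact v.2

theorem blockCoeff_mem_LR {B : Set (IrrCharacter G)} (hB : IsPBlock M B) (g : G) :
    blockCoeff B g ∈ LR M := by
  rw [← coeff_fS]; exact (fS_mem_ZR hB).1 g

theorem mem_of_fS_mem_RG {A : Set (IrrCharacter G)} (hA : fS A ∈ RG M G) {χ ψ : IrrCharacter G}
    (hχ : χ ∈ A) (h : SameBlock M (χ : G → ℂ) ψ) : ψ ∈ A := by
  by_contra hψ
  have := om_sub_mem_of_sameBlock h ⟨hA, fS_mem_ZA A⟩
  rw [om_fS_of_mem hχ, om_fS_of_notMem hψ, sub_zero] at this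
  exact one_notMem_LP this

variable (M G) in
/-- The finite set of blocks. -/
noncomputable def blocks : Finset (Set (IrrCharacter G)) :=
  (Set.toFinite {B | IsPBlock M B}).toFinset

theorem mem_blocks {B : Set (IrrCharacter G)} : B ∈ blocks M G ↔ IsPBlock M B := by
  simp [blocks]

theorem fS_eq_sum_blocks {A : Set (IrrCharacter G)} [DecidablePred (· ⊆ A)]
    (hA : ∀ χ ∈ A, ∀ ψ : IrrCharacter G, SameBlock M (χ : G → ℂ) ψ → ψ ∈ A) :
    fS A = ∑ B ∈ (blocks M G).filter (· ⊆ A), fS B := by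
  classical
  refine cen_ext (fS_mem_ZA _) (sum_mem fun B _ => fS_mem_ZA _) fun χ => ?_
  rw [om_sum]
  by_cases hχ : χ ∈ A
  · rw [om_fS_of_mem hχ, Finset.sum_eq_single (blockOf M (χ : G → ℂ)),
      om_fS_of_mem (mem_blockOf_self χ)]
    · intro B hB hne
      exact om_fS_of_notMem fun h => hne (blk_eq_blockOf (mem_blocks.mp (Finset.mem_filter.mp hB).1) h)
    · intro h
      exact absurd (Finset.mem_filter.mpr ⟨mem_blocks.mpr (isPBlock_blockOf χ), hA χ hχ⟩) h
  · rw [om_fS_of_notMem hχ]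
    exact (Finset.sum_eq_zero fun B hB =>
      om_fS_of_notMem fun h => hχ ((show B ⊆ A from (Finset.mem_filter.mp hB).2) h)).symm

theorem fS_mem_ZR_of_closed {A : Set (IrrCharacter G)}
    (hA : ∀ χ ∈ A, ∀ ψ : IrrCharacter G, SameBlock M (χ : G → ℂ) ψ → ψ ∈ A) : fS A ∈ ZR M G := by
  classical
  rw [fS_eq_sum_blocks hA]
  exact sum_mem fun B hB => fS_mem_ZR (mem_blocks.mp (Finset.mem_filter.mp hB).1)

theorem sum_fS_blocks : ∑ B ∈ blocks M G, fS B = 1 := by
  classical
  rw [← fS_univ, fS_eq_sum_blocks (M := M) (fun _ _ _ _ => Set.mem_univ _)]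
  simp

theorem fS_notMem_PG {B : Set (IrrCharacter G)} {χ : IrrCharacter G} (hχ : χ ∈ B) :
    fS B ∉ PG M G := fun h => by
  have := om_mem_LP χ (fS_mem_ZA B) h
  rw [om_fS_of_mem hχ] at this
  exact one_notMem_LP this

/-! ### The radical of the centre -/

theorem hom_pow_eq_zero {S : Type*} [Ring S] (β : ZR M G →+* S)
    (hβ : ∀ r : LR M, (r : ℂ) ∈ LP M → β (scal r) = 0) {a : ZR M G}
    (ha : ∀ χ : IrrCharacter G, om χ (a : GA G) ∈ LP M) :
    β a ^ Fintype.card (IrrCharacter G) = 0 := by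
  have key : ∀ s : Finset (IrrCharacter G),
      β (∏ χ ∈ s, (a - scal ⟨om χ (a : GA G), om_mem_LR χ a.2⟩)) = β a ^ s.card := by
    classical
    intro s
    induction s using Finset.induction_on with
    | empty => simp
    | insert i s hi ih =>
      rw [Finset.prod_insert hi, map_mul, ih, map_sub, hβ _ (ha i), sub_zero,
        Finset.card_insert_of_notMem hi, pow_succ']
  rw [← Finset.card_univ, ← key, prod_sub_scal_om, map_zero]

/-- Reduction of the centre. -/
noncomputable def piZ : ZR M G →+* MonoidAlgebra (RF M) G :=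
  piF.comp (Subring.inclusion inf_le_left)

theorem piZ_eq_zero {a : ZR M G} : piZ a = 0 ↔ (a : GA G) ∈ PG M G := piF_eq_zero

theorem piZ_scal (r : LR M) (hr : (r : ℂ) ∈ LP M) : piZ (scal r : ZR M G) = 0 := by
  rw [piZ_eq_zero, coe_scal]; exact smul_mem_PG hr (one_mem _)

theorem pow_mem_PG {a : GA G} (ha : a ∈ ZR M G) (h : ∀ χ : IrrCharacter G, om χ a ∈ LP M) :
    ∃ n : ℕ, a ^ (n + 1) ∈ PG M G := by
  have h1 := hom_pow_eq_zero piZ piZ_scal (a := ⟨a, ha⟩) h
  refine ⟨Fintype.card (IrrCharacter G), ?_⟩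
  rw [← map_pow, piZ_eq_zero] at h1
  rw [pow_succ']
  exact PG_mul_left ha.1 h1

/-- An element that is idempotent modulo the maximal ideal is determined by its central
characters. -/
theorem sub_mem_PG_of_idem {a b : GA G} (ha : a ∈ ZR M G) (hb : b ∈ ZR M G)
    (ha2 : a * a - a ∈ PG M G) (hb2 : b * b - b ∈ PG M G)
    (h : ∀ χ : IrrCharacter G, om χ a - om χ b ∈ LP M) : a - b ∈ PG M G := by
  let a' : ZR M G := ⟨a, ha⟩
  let b' : ZR M G := ⟨b, hb⟩
  have h1 := hom_pow_eq_zero piZ piZ_scal (a := a' - b') (fun χ => by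
    have := h χ; rwa [← om_sub] at this)
  have h2 : piZ (a' * a' - a') = 0 := piZ_eq_zero.mpr ha2
  have h3 : piZ (b' * b' - b') = 0 := piZ_eq_zero.mpr hb2
  have h4 : piZ (a' - b') ^ 3 = piZ (a' - b') := by
    have : (a' - b') ^ 3 = (a' - b') + ((a' * a' - a') * (a' + 1 - 3 * b') -
      (b' * b' - b') * (b' + 1 - 3 * a')) := by ring
    rw [← map_pow, this, map_add, map_sub piZ (_ * _), map_mul, map_mul, h2, h3]; simp
  have h5 : ∀ n : ℕ, piZ (a' - b') ^ (2 * n + 1) = piZ (a' - b') := by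
    intro n
    induction n with
    | zero => simp
    | succ n ih =>
      have : 2 * (n + 1) + 1 = (2 * n + 1) + 2 := by ring
      rw [this, pow_add, ih, ← pow_succ', h4]
  have h6 : piZ (a' - b') = 0 := by
    rw [← h5 (Fintype.card (IrrCharacter G)), two_mul, add_assoc, pow_add, h1, zero_mul]
  exact piZ_eq_zero.mp h6

theorem mem_PG_of_idem {a : GA G} (ha : a ∈ ZR M G) (ha2 : a * a - a ∈ PG M G)
    (h : ∀ χ : IrrCharacter G, om χ a ∈ LP M) : a ∈ PG M G := by
  simpa using sub_mem_PG_of_idem ha (zero_mem _) ha2 (by simpa using (PG M G).zero_mem)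
    (by simpa using h)

/-- Algebra homomorphisms from the centre to the residue field come from blocks. -/
theorem exists_lam_eq (μ : ZR M G →+* RF M) (hμ : ∀ r : LR M, μ (scal r) = res M r) :
    ∃ χ : IrrCharacter G, μ = lam χ := by
  classical
  have h1 : ∃ B, ∃ hB : IsPBlock M B, μ ⟨fS B, fS_mem_ZR hB⟩ ≠ 0 := by
    by_contra hc
    push Not at hc
    have h2 : (1 : ZR M G) = ∑ B ∈ (blocks M G).attach, ⟨fS B, fS_mem_ZR (mem_blocks.mp B.2)⟩ := by
      apply Subtype.ext
      rw [AddSubmonoidClass.coe_finsetSum, Finset.sum_attach (blocks M G) (fun B => fS B),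
        sum_fS_blocks]
      rfl
    have h3 := congrArg μ h2
    rw [map_one, map_sum, Finset.sum_eq_zero (fun B _ => hc _ (mem_blocks.mp B.2))] at h3
    exact one_ne_zero h3
  obtain ⟨B, hB, hne⟩ := h1
  obtain ⟨χ, hχ⟩ := blk_nonempty hB
  refine ⟨χ, RingHom.ext fun a => ?_⟩
  have h4 := hom_pow_eq_zero μ (fun r hr => by rw [hμ]; exact res_eq_zero.mpr hr)
    (a := (a - scal ⟨om χ (a : GA G), om_mem_LR χ a.2⟩) * ⟨fS B, fS_mem_ZR hB⟩) (fun ψ => by
      rw [← omR_apply, map_mul, map_sub, omR_scal, omR_apply, omR_apply, om_fS]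
      split_ifs with hψ
      · rw [mul_one]; exact om_sub_mem_of_blk hB hψ hχ a.2
      · rw [mul_zero]; exact zero_mem _)
  have h5 := pow_eq_zero_iff (Fintype.card_ne_zero) |>.mp h4
  rw [map_mul, mul_eq_zero, map_sub, hμ, sub_eq_zero] at h5
  exact h5.resolve_right hne

theorem exists_isDefectClass {B : Set (IrrCharacter G)} (hB : IsPBlock M B) :
    ∃ g : G, IsDefectClass M B g := by
  obtain ⟨χ, hχ⟩ := blk_nonempty hB
  obtain ⟨g, h1, h2⟩ := exists_cls_of_om_notMem χ (fS_mem_ZR hB)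
    (by rw [om_fS_of_mem hχ]; exact one_notMem_LP)
  rw [coeff_fS] at h1
  exact ⟨g, blockCoeff_mem_LR hB g, h1, fun ψ hψ =>
    notMem_LP_of_sub (blk_same hB hψ hχ g) h2⟩

end Cfsg.Agent.Blk
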