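import Mathlib
import Cfsg.Prelude.Def_Blocks

/-! The local ring of the algebraic integers at a maximal ideal `M`. -/

set_option autoImplicit false

namespace Cfsg.Agent.Blk

open Cfsg

/-- Class version of `IsPModular`. -/
class PMod (p : outParam ℕ) (M : Ideal AlgInt) : Prop where
  out : IsPModular p M

variable {p : ℕ} {M : Ideal AlgInt}

instance instMaxOfPMod [h : PMod p M] : M.IsMaximal := h.out.2.1

theorem PMod.prime (M : Ideal AlgInt) [h : PMod p M] : p.Prime := h.out.1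

section max
variable [hM : M.IsMaximal]

theorem ne_zero_of_notMem {b : AlgInt} (hb : b ∉ M) : (b : ℂ) ≠ 0 := by
  intro h
  apply hb
  have : b = 0 := Subtype.ext h
  rw [this]; exact M.zero_mem

theorem mul_notMem {a b : AlgInt} (ha : a ∉ M) (hb : b ∉ M) : a * b ∉ M := fun h =>
  (hM.isPrime.mem_or_mem h).elim ha hb

theorem one_notMem : (1 : AlgInt) ∉ M := (Ideal.ne_top_iff_one M).mp hM.ne_top

variable (M) in
/-- The local ring at `M`. -/
def LR : Subring ℂ where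
  carrier := {z | MemLocalRing M z}
  mul_mem' := by
    rintro _ _ ⟨a, b, hb, rfl⟩ ⟨c, d, hd, rfl⟩
    exact ⟨a * c, b * d, mul_notMem hb hd, by push_cast; rw [div_mul_div_comm]⟩
  one_mem' := ⟨1, 1, one_notMem, by simp⟩
  add_mem' := by
    rintro _ _ ⟨a, b, hb, rfl⟩ ⟨c, d, hd, rfl⟩
    refine ⟨a * d + b * c, b * d, mul_notMem hb hd, ?_⟩
    push_cast
    rw [div_add_div _ _ (ne_zero_of_notMem hb) (ne_zero_of_notMem hd)]
  zero_mem' := ⟨0, 1, one_notMem, by simp⟩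
  neg_mem' := by
    rintro _ ⟨a, b, hb, rfl⟩
    exact ⟨-a, b, hb, by push_cast; rw [neg_div]⟩

variable (M) in
/-- The maximal ideal of the local ring at `M`, as a subgroup of `ℂ`. -/
def LP : AddSubgroup ℂ where
  carrier := {z | MemLocalIdeal M z}
  add_mem' := by
    rintro _ _ ⟨a, b, ha, hb, rfl⟩ ⟨c, d, hc, hd, rfl⟩
    refine ⟨a * d + b * c, b * d, M.add_mem (M.mul_mem_right _ ha) (M.mul_mem_left _ hc),
      mul_notMem hb hd, ?_⟩
    push_cast
    rw [div_add_div _ _ (ne_zero_of_notMem hb) (ne_zero_of_notMem hd)]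
  zero_mem' := ⟨0, 1, M.zero_mem, one_notMem, by simp⟩
  neg_mem' := by
    rintro _ ⟨a, b, ha, hb, rfl⟩
    exact ⟨-a, b, M.neg_mem ha, hb, by push_cast; rw [neg_div]⟩

theorem mem_LR {z : ℂ} : z ∈ LR M ↔ MemLocalRing M z := Iff.rfl
theorem mem_LP {z : ℂ} : z ∈ LP M ↔ MemLocalIdeal M z := Iff.rfl

theorem LR_of_LP {z : ℂ} (h : z ∈ LP M) : z ∈ LR M := by
  obtain ⟨a, b, -, hb, rfl⟩ := h
  exact ⟨a, b, hb, rfl⟩

theorem LR_of_isIntegral {z : ℂ} (h : IsIntegral ℤ z) : z ∈ LR M :=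
  ⟨⟨z, h⟩, 1, one_notMem, by simp⟩

theorem algInt_mem_LR (a : AlgInt) : (a : ℂ) ∈ LR M := LR_of_isIntegral a.2

theorem LP_mul_left {x y : ℂ} (hx : x ∈ LR M) (hy : y ∈ LP M) : x * y ∈ LP M := by
  obtain ⟨a, b, hb, rfl⟩ := hx
  obtain ⟨c, d, hc, hd, rfl⟩ := hy
  exact ⟨a * c, b * d, M.mul_mem_left _ hc, mul_notMem hb hd, by push_cast; rw [div_mul_div_comm]⟩

theorem LP_mul_right {x y : ℂ} (hx : x ∈ LP M) (hy : y ∈ LR M) : x * y ∈ LP M := by
  rw [mul_comm]; exact LP_mul_left hy hx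

theorem algInt_mem_LP {a : AlgInt} : (a : ℂ) ∈ LP M ↔ a ∈ M := by
  constructor
  · rintro ⟨c, d, hc, hd, h⟩
    have h2 : c = a * d := by
      apply Subtype.ext
      push_cast
      rw [← h, div_mul_cancel₀ _ (ne_zero_of_notMem hd)]
    rw [h2] at hc
    exact (hM.isPrime.mem_or_mem hc).resolve_right hd
  · intro h
    exact ⟨a, 1, h, one_notMem, by simp⟩

theorem one_notMem_LP : (1 : ℂ) ∉ LP M := fun h =>
  one_notMem (algInt_mem_LP.mp (show ((1 : AlgInt) : ℂ) ∈ LP M from h))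

theorem ne_zero_of_notMem_LP {x : ℂ} (hx : x ∉ LP M) : x ≠ 0 := by
  rintro rfl; exact hx (LP M).zero_mem

theorem inv_mem_LR {x : ℂ} (hx : x ∈ LR M) (hx' : x ∉ LP M) : x⁻¹ ∈ LR M := by
  obtain ⟨a, b, hb, rfl⟩ := hx
  have ha : a ∉ M := fun ha => hx' ⟨a, b, ha, hb, rfl⟩
  exact ⟨b, a, ha, by rw [inv_div]⟩

theorem inv_notMem_LP {x : ℂ} (hx : x ∈ LR M) (hx0 : x ≠ 0) : x⁻¹ ∉ LP M := fun h =>
  one_notMem_LP (by simpa [hx0] using LP_mul_left hx h)

theorem LP_of_mul_left {x y : ℂ} (hx : x ∈ LR M) (hx' : x ∉ LP M) (h : x * y ∈ LP M) :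
    y ∈ LP M := by
  have := LP_mul_left (inv_mem_LR hx hx') h
  rwa [inv_mul_cancel_left₀ (ne_zero_of_notMem_LP hx')] at this

theorem LP_of_mul_right {x y : ℂ} (hy : y ∈ LR M) (hy' : y ∉ LP M) (h : x * y ∈ LP M) :
    x ∈ LP M := LP_of_mul_left hy hy' (by rwa [mul_comm])

theorem LR_of_mul_left {x y : ℂ} (hx : x ∈ LR M) (hx' : x ∉ LP M) (h : x * y ∈ LR M) :
    y ∈ LR M := by
  have := (LR M).mul_mem (inv_mem_LR hx hx') h
  rwa [inv_mul_cancel_left₀ (ne_zero_of_notMem_LP hx')] at this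

theorem mul_notMem_LP {x y : ℂ} (hx : x ∈ LR M) (hx' : x ∉ LP M) (hy' : y ∉ LP M) :
    x * y ∉ LP M := fun h => hy' (LP_of_mul_left hx hx' h)

theorem LP_or_of_mul {x y : ℂ} (hx : x ∈ LR M) (h : x * y ∈ LP M) : x ∈ LP M ∨ y ∈ LP M := by
  by_cases hx' : x ∈ LP M
  · exact Or.inl hx'
  · exact Or.inr (LP_of_mul_left hx hx' h)

theorem LP_of_pow {x : ℂ} (hx : x ∈ LR M) {n : ℕ} (h : x ^ n ∈ LP M) : x ∈ LP M := by
  induction n with
  | zero => exact absurd (by simpa using h) one_notMem_LP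
  | succ n ih =>
    rw [pow_succ'] at h
    exact (LP_or_of_mul hx h).elim id ih

theorem notMem_LP_of_sub {x y : ℂ} (h : x - y ∈ LP M) (hy : y ∉ LP M) : x ∉ LP M := fun hx =>
  hy (by simpa using (LP M).sub_mem hx h)

theorem LP_of_sub {x y : ℂ} (h : x - y ∈ LP M) (hy : y ∈ LP M) : x ∈ LP M := by
  simpa using (LP M).add_mem h hy

theorem LP_symm {x y : ℂ} (h : x - y ∈ LP M) : y - x ∈ LP M := by
  simpa using (LP M).neg_mem h

theorem LP_trans {x y z : ℂ} (h : x - y ∈ LP M) (h' : y - z ∈ LP M) : x - z ∈ LP M := by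
  simpa using (LP M).add_mem h h'

theorem exists_notMem_LP_of_sum {ι : Type*} {s : Finset ι} {f : ι → ℂ} (h : ∑ i ∈ s, f i ∉ LP M) :
    ∃ i ∈ s, f i ∉ LP M := by
  by_contra hc
  push Not at hc
  exact h ((LP M).sum_mem hc)

instance instLocalLR : IsLocalRing (LR M) := by
  apply IsLocalRing.of_isUnit_or_isUnit_one_sub_self
  have key : ∀ a : LR M, (a : ℂ) ∉ LP M → IsUnit a := fun a ha =>
    IsUnit.of_mul_eq_one ⟨_, inv_mem_LR a.2 ha⟩
      (Subtype.ext (mul_inv_cancel₀ (ne_zero_of_notMem_LP ha)))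
  intro a
  by_cases ha : (a : ℂ) ∈ LP M
  · right
    apply key
    intro h
    exact one_notMem_LP (by simpa using (LP M).add_mem h ha)
  · exact Or.inl (key a ha)

theorem mem_maximalIdeal_LR {a : LR M} :
    a ∈ IsLocalRing.maximalIdeal (LR M) ↔ (a : ℂ) ∈ LP M := by
  rw [IsLocalRing.mem_maximalIdeal, mem_nonunits_iff]
  constructor
  · intro h
    by_contra ha
    exact h (IsUnit.of_mul_eq_one ⟨_, inv_mem_LR a.2 ha⟩
      (Subtype.ext (mul_inv_cancel₀ (ne_zero_of_notMem_LP ha))))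
  · rintro h ⟨u, rfl⟩
    have h1 : ((u : LR M) : ℂ) * ((u⁻¹ : (LR M)ˣ) : LR M) = 1 := by
      rw [← Subring.coe_mul]; simp
    exact one_notMem_LP (h1 ▸ LP_mul_right h (Subtype.prop _))

variable (M) in
/-- The residue field. -/
abbrev RF : Type := IsLocalRing.ResidueField (LR M)

variable (M) in
/-- The residue map. -/
noncomputable abbrev res : LR M →+* RF M := IsLocalRing.residue (LR M)

theorem res_eq_zero {a : LR M} : res M a = 0 ↔ (a : ℂ) ∈ LP M := by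
  rw [IsLocalRing.residue_eq_zero_iff, mem_maximalIdeal_LR]

theorem res_eq_res {a b : LR M} : res M a = res M b ↔ (a : ℂ) - b ∈ LP M := by
  rw [← sub_eq_zero, ← map_sub, res_eq_zero]; rfl

end max

section pmod
variable [hp : PMod p M]

theorem p_mem_LP : (p : ℂ) ∈ LP M := by
  have := (algInt_mem_LP (M := M) (a := (p : AlgInt))).mpr hp.out.2.2
  simpa using this

theorem intCast_mem_LP {n : ℤ} : (n : ℂ) ∈ LP M ↔ (p : ℤ) ∣ n := by
  constructor
  · intro h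
    by_contra hn
    have hpr : Prime (p : ℤ) := Nat.prime_iff_prime_int.mp hp.out.1
    obtain ⟨a, b, hab⟩ : IsCoprime (p : ℤ) n := (Prime.coprime_iff_not_dvd hpr).mpr hn
    apply one_notMem_LP (M := M)
    have h1 : (1 : ℂ) = (a : ℂ) * (p : ℂ) + (b : ℂ) * (n : ℂ) := by exact_mod_cast hab.symm
    rw [h1]
    exact (LP M).add_mem (LP_mul_left (intCast_mem _ _) p_mem_LP) (LP_mul_left (intCast_mem _ _) h)
  · rintro ⟨k, rfl⟩
    push_cast
    exact LP_mul_right p_mem_LP (intCast_mem _ _)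

theorem natCast_mem_LP {n : ℕ} : (n : ℂ) ∈ LP M ↔ p ∣ n := by
  have := intCast_mem_LP (M := M) (n := (n : ℤ))
  rwa [Int.cast_natCast, Int.natCast_dvd_natCast] at this

theorem natCast_inv_mem_LR {n : ℕ} (hn : ¬ p ∣ n) : (n : ℂ)⁻¹ ∈ LR M :=
  inv_mem_LR (natCast_mem _ _) (mt natCast_mem_LP.mp hn)

instance instCharPRF : CharP (RF M) p where
  cast_eq_zero_iff n := by
    rw [← natCast_mem_LP (M := M), ← map_natCast (res M) n, res_eq_zero]; simp

theorem isIntegral_of_pow_eq_one {z : ℂ} {n : ℕ} (hn : n ≠ 0) (h : z ^ n = 1) : IsIntegral ℤ z :=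
  IsIntegral.of_pow (Nat.pos_of_ne_zero hn) (h ▸ isIntegral_one)

theorem sub_one_mem_LP {z : ℂ} {k : ℕ} (h : z ^ p ^ k = 1) : z - 1 ∈ LP M := by
  haveI : Fact p.Prime := ⟨hp.out.1⟩
  have hz : z ∈ LR M := LR_of_isIntegral (isIntegral_of_pow_eq_one (pow_ne_zero _ hp.out.1.ne_zero) h)
  have h1 : res M ⟨z, hz⟩ ^ p ^ k = 1 := by
    rw [← map_pow, ← map_one (res M)]; congr 1; exact Subtype.ext h
  have h2 : (res M ⟨z, hz⟩ - 1) ^ p ^ k = 0 := by
    rw [sub_pow_char_pow, h1, one_pow, sub_self]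
  have h3 := pow_eq_zero_iff (pow_ne_zero _ hp.out.1.ne_zero) |>.mp h2
  rw [← map_one (res M), sub_eq_zero, res_eq_res] at h3
  exact h3

theorem div_mem_LP_iff_aux {a b : ℕ} (ha : a ≠ 0) (hb : b ≠ 0) :
    ∃ u : ℂ, u ∈ LR M ∧ u ∉ LP M ∧
      (a : ℂ) / b = u * (p : ℂ) ^ a.factorization p / (p : ℂ) ^ b.factorization p := by
  have hpp := hp.out.1
  obtain ⟨a', ha', hpa⟩ : ∃ a', a = p ^ a.factorization p * a' ∧ ¬ p ∣ a' :=
    ⟨_, (Nat.ordProj_mul_ordCompl_eq_self a p).symm, Nat.not_dvd_ordCompl hpp ha⟩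
  obtain ⟨b', hb', hpb⟩ : ∃ b', b = p ^ b.factorization p * b' ∧ ¬ p ∣ b' :=
    ⟨_, (Nat.ordProj_mul_ordCompl_eq_self b p).symm, Nat.not_dvd_ordCompl hpp hb⟩
  have hb0 : (b' : ℂ) ≠ 0 := by
    intro h; apply hpb; have : b' = 0 := by exact_mod_cast h
    simp [this]
  refine ⟨a' * (b' : ℂ)⁻¹, (LR M).mul_mem (natCast_mem _ _) (natCast_inv_mem_LR hpb),
    mul_notMem_LP (natCast_mem _ _) (mt natCast_mem_LP.mp hpa)
      (inv_notMem_LP (natCast_mem _ _) hb0), ?_⟩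
  generalize a.factorization p = i at *
  generalize b.factorization p = j at *
  have hp0 : (p : ℂ) ≠ 0 := by exact_mod_cast hpp.ne_zero
  rw [ha', hb']
  push_cast
  field_simp

theorem div_mem_LP_of_lt {a b : ℕ} (ha : a ≠ 0) (hb : b ≠ 0)
    (h : b.factorization p < a.factorization p) : (a : ℂ) / b ∈ LP M := by
  obtain ⟨u, hu, -, e⟩ := div_mem_LP_iff_aux (M := M) ha hb
  have hp0 : (p : ℂ) ≠ 0 := by exact_mod_cast hp.out.1.ne_zero
  obtain ⟨k, hk⟩ := Nat.exists_eq_add_of_lt h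
  rw [e, hk]
  have : u * (p : ℂ) ^ (b.factorization p + k + 1) / (p : ℂ) ^ b.factorization p
      = (u * p ^ k) * p := by field_simp; ring
  rw [this]
  exact LP_mul_left ((LR M).mul_mem hu (pow_mem (natCast_mem _ _) _)) p_mem_LP

theorem div_unit_of_eq {a b : ℕ} (ha : a ≠ 0) (hb : b ≠ 0)
    (h : a.factorization p = b.factorization p) : (a : ℂ) / b ∈ LR M ∧ (a : ℂ) / b ∉ LP M := by
  obtain ⟨u, hu, hu', e⟩ := div_mem_LP_iff_aux (M := M) ha hb
  have hp0 : (p : ℂ) ≠ 0 := by exact_mod_cast hp.out.1.ne_zero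
  rw [e, h, mul_div_cancel_right₀ _ (pow_ne_zero _ hp0)]
  exact ⟨hu, hu'⟩

theorem div_mem_LR_iff {a b : ℕ} (ha : a ≠ 0) (hb : b ≠ 0) :
    (a : ℂ) / b ∈ LR M ↔ b.factorization p ≤ a.factorization p := by
  constructor
  · intro h
    by_contra hlt
    have h2 := div_mem_LP_of_lt (M := M) hb ha (not_le.mp hlt)
    have h3 := LP_mul_left h h2
    have ha' : (a : ℂ) ≠ 0 := by exact_mod_cast ha
    have hb' : (b : ℂ) ≠ 0 := by exact_mod_cast hb
    rw [div_mul_div_cancel₀ hb', div_self ha'] at h3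
    exact one_notMem_LP h3
  · intro h
    rcases h.eq_or_lt with h | h
    · exact (div_unit_of_eq ha hb h.symm).1
    · exact LR_of_LP (div_mem_LP_of_lt ha hb h)

theorem div_mem_LP_iff {a b : ℕ} (ha : a ≠ 0) (hb : b ≠ 0) :
    (a : ℂ) / b ∈ LP M ↔ b.factorization p < a.factorization p := by
  refine ⟨fun h => ?_, div_mem_LP_of_lt ha hb⟩
  rcases ((div_mem_LR_iff ha hb).mp (LR_of_LP h)).eq_or_lt with h' | h'
  · exact absurd h (div_unit_of_eq ha hb h'.symm).2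
  · exact h'

/-- An integer divided by a power of `p` that is a local integer is an integer. -/
theorem dvd_of_div_pow_mem_LR {n : ℤ} {k : ℕ} (h : (n : ℂ) / (p : ℂ) ^ k ∈ LR M) :
    (p : ℤ) ^ k ∣ n := by
  induction k generalizing n with
  | zero => simp
  | succ k ih =>
    have hp0 : (p : ℂ) ≠ 0 := by exact_mod_cast hp.out.1.ne_zero
    have h1 : (n : ℂ) ∈ LP M := by
      have := LP_mul_left ((LR M).mul_mem h (pow_mem (natCast_mem _ p) k)) (p_mem_LP (M := M))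
      rwa [mul_assoc, ← pow_succ, div_mul_cancel₀ _ (pow_ne_zero _ hp0)] at this
    obtain ⟨m, rfl⟩ := intCast_mem_LP.mp h1
    have h2 : (((p : ℤ) * m : ℤ) : ℂ) / (p : ℂ) ^ (k + 1) = (m : ℂ) / (p : ℂ) ^ k := by
      push_cast; field_simp; ring
    rw [h2] at h
    rw [pow_succ']
    exact mul_dvd_mul_left _ (ih h)

theorem eq_one_of_pow_eq_one_of_sub_mem {z : ℂ} {m : ℕ} (hm : ¬ p ∣ m) (h : z ^ m = 1)
    (hz : z - 1 ∈ LP M) : z = 1 := by
  by_contra hne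
  have hm0 : m ≠ 0 := by rintro rfl; simp at hm
  have hzR : z ∈ LR M := LR_of_isIntegral (isIntegral_of_pow_eq_one hm0 h)
  have h1 : ∑ i ∈ Finset.range m, z ^ i = 0 := by
    have := mul_geom_sum z m
    rw [h, sub_self] at this
    exact (mul_eq_zero.mp this).resolve_left (sub_ne_zero.mpr hne)
  have h2 : ∑ i ∈ Finset.range m, (z ^ i - 1) ∈ LP M := by
    refine (LP M).sum_mem fun i _ => ?_
    rw [← mul_geom_sum]
    exact LP_mul_right hz ((LR M).sum_mem fun j _ => pow_mem hzR _)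
  rw [Finset.sum_sub_distrib, h1] at h2
  simp only [Finset.sum_const, Finset.card_range, nsmul_eq_mul, mul_one, zero_sub, neg_mem_iff] at h2
  exact hm (natCast_mem_LP.mp h2)

end pmod

/-- For every prime there is a modular maximal ideal. -/
theorem exists_isPModular (p : ℕ) (hp : p.Prime) : ∃ M : Ideal AlgInt, IsPModular p M := by
  have : ¬ IsUnit (p : AlgInt) := by
    rintro ⟨u, hu⟩
    have h1 : IsIntegral ℤ (((u⁻¹ : AlgIntˣ) : AlgInt) : ℂ) := Subtype.prop _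
    have hp0 : (p : ℂ) ≠ 0 := by exact_mod_cast hp.ne_zero
    have h2 : (((u⁻¹ : AlgIntˣ) : AlgInt) : ℂ) = algebraMap ℚ ℂ ((p : ℚ)⁻¹) := by
      have h3 : (p : ℂ) * (((u⁻¹ : AlgIntˣ) : AlgInt) : ℂ) = 1 := by
        have : ((u : AlgInt) : ℂ) = p := by rw [hu]; simp
        rw [← this, ← Subalgebra.coe_mul]; simp
      simp only [map_inv₀, map_natCast]
      exact eq_inv_of_mul_eq_one_right h3
    rw [h2, isIntegral_algebraMap_iff (algebraMap ℚ ℂ).injective] at h1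
    obtain ⟨z, hz⟩ := IsIntegrallyClosed.isIntegral_iff.mp h1
    have h4 : (p : ℚ) * z = 1 := by
      have : (z : ℚ) = (p : ℚ)⁻¹ := hz
      rw [this, mul_inv_cancel₀ (by exact_mod_cast hp.ne_zero)]
    have h5 : (p : ℤ) * z = 1 := by exact_mod_cast h4
    have := Int.isUnit_iff_natAbs_eq.mp (IsUnit.of_mul_eq_one _ h5)
    exact hp.one_lt.ne' (by simpa using this)
  obtain ⟨M, hM, hpM⟩ := exists_max_ideal_of_mem_nonunits (mem_nonunits_iff.mpr this)
  exact ⟨M, hp, hM, hpM⟩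

end Cfsg.Agent.Blk
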