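import Cfsg.Agent.Blk.Def

/-! Brauer's second and third main theorems. -/

set_option autoImplicit false
set_option linter.unusedSectionVars false

namespace Cfsg.Agent.Blk

open Cfsg Cfsg.Agent.Char Cfsg.Agent.PLoc MonoidAlgebra Subgroup
open scoped ComplexConjugate

variable {G : Type*} [Group G] [Finite G] {H : Type*} [Group H] [Finite H]
variable {p : ℕ} {M : Ideal AlgInt} [hp : PMod p M] [Fact p.Prime]

theorem exists_inv_one_sub {x : GA G} (hx : x ∈ ZR M G)
    (h : ∀ χ : IrrCharacter G, om χ x ∈ LP M) : ∃ w ∈ ZR M G, (1 - x) * w = 1 := by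
  obtain ⟨n, hn⟩ := pow_mem_PG hx h
  obtain ⟨v, hv, h1, h2⟩ := exists_inv_one_add ((PG M G).neg_mem hn)
  have h3 : (1 - x) * ((∑ i ∈ Finset.range (n + 1), x ^ i) * v) = 1 := by
    rw [← mul_assoc, mul_neg_geom_sum, sub_eq_add_neg, h2]
  have hc : (1 - x) ∈ ZA G := sub_mem (one_mem _) hx.2
  refine ⟨_, ⟨mul_mem (sum_mem fun i _ => pow_mem hx.1 i) hv, ?_⟩, h3⟩
  generalize (∑ i ∈ Finset.range (n + 1), x ^ i) * v = w at h3
  refine (Subalgebra.mem_center_iff (R := ℂ)).mpr fun b => ?_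
  calc b * w = ((1 - x) * w) * (b * w) := by rw [h3, one_mul]
    _ = w * (b * ((1 - x) * w)) := by
      conv_lhs => rw [ZA_comm hc w, mul_assoc, ← mul_assoc (1 - x), ZA_comm hc b, mul_assoc]
    _ = w * b := by rw [h3, mul_one]

theorem second_main {f : H →* G} (hf : Function.Injective f) {b : Set (IrrCharacter H)}
    (hb : IsPBlock M b) {ξ : IrrCharacter H} (hξ : ξ ∈ b) {χ₀ χ : IrrCharacter G}
    (hind : Ind M f ξ χ₀) (hχ : ¬ SameBlock M (χ₀ : G → ℂ) χ) (h : H)
    (hC : ∀ z : G, IsPPart p (f h) z → centralizer ({z} : Set G) ≤ f.range) :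
    ev (fun k => (χ : G → ℂ) (f k)) (fS b * single h 1) = 0 := by
  classical
  have hB := isPBlock_blockOf (M := M) χ
  set f' := fS (blockOf M (χ : G → ℂ)) with hf'
  have hf'Z : f' ∈ ZR M G := fS_mem_ZR hB
  have hxZ : pull f f' * fS b ∈ ZR M H := mul_mem (pull_mem_ZR f hf'Z) (fS_mem_ZR hb)
  obtain ⟨w, hw, hw1⟩ := exists_inv_one_sub hxZ fun ψ => by
    rw [om_mul ψ (pull_mem_ZA f hf'Z.2), om_fS]
    split_ifs with hψ
    · have := (hind.left (blk_same hb hξ hψ)) _ hf'Z
      rw [hf', om_fS_of_notMem (fun h => hχ (sameBlock_symm h)), sub_zero] at this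
      rwa [mul_one]
    · rw [mul_zero]; exact zero_mem _
  set F := push f (fS b) with hF
  set c := f' - push f (pull f f') with hc
  set y := c * push f w with hy
  set ε := F * f' with hε
  have hFF : F * F = F := by rw [hF, ← map_mul, fS_mul_self]
  have hεε : ε * ε = ε := by
    rw [hε, mul_assoc, ← mul_assoc f', ZA_comm hf'Z.2 F, mul_assoc, ← mul_assoc F, hFF, hf',
      fS_mul_self]
  have hεF : ε * F = ε := by rw [hε, mul_assoc, ZA_comm hf'Z.2 F, ← mul_assoc, hFF]
  have hεf : ε * f' = ε := by rw [hε, mul_assoc, hf', fS_mul_self]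
  have hεy : ε * y = ε := by
    have h1 : ε * c = ε * push f (1 - pull f f' * fS b) := by
      rw [hc, mul_sub, hεf, map_sub, map_one, mul_sub, mul_one, ← ZA_comm (fS_mem_ZA b), map_mul,
        ← mul_assoc, hεF]
    rw [hy, ← mul_assoc, h1, mul_assoc, ← map_mul, hw1, map_one, mul_one]
  have hcomm : ∀ {u : GA H}, u ∈ ZA H → single (f h) 1 * push f u = push f u * single (f h) 1 :=
    fun hu => by rw [← push_single, ← map_mul, ← map_mul, ZA_comm hu]
  have hhε : single (f h) 1 * ε = ε * single (f h) 1 := by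
    rw [hε, ← mul_assoc, hcomm (fS_mem_ZA b), mul_assoc, ← ZA_comm hf'Z.2, mul_assoc]
  have hhy : single (f h) 1 * y = y * single (f h) 1 := by
    have : single (f h) 1 * c = c * single (f h) 1 := by
      rw [hc, mul_sub, sub_mul, hcomm (pull_mem_ZA f hf'Z.2), ZA_comm hf'Z.2]
    rw [hy, ← mul_assoc, this, mul_assoc, hcomm hw.2, mul_assoc]
  have hy0 : ∀ g ∈ f.range, y.coeff g = 0 := by
    rintro _ ⟨k, rfl⟩
    rw [← coeff_pull, hy, pull_mul_push, hc, pull_sub, pull_push f hf, sub_self, zero_mul]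
    rfl
  have hεR : ε ∈ RG M G := mul_mem (push_mem_RG f (fS_mem_ZR hb).1) hf'Z.1
  have hyR : y ∈ RG M G :=
    mul_mem (sub_mem hf'Z.1 (push_mem_RG f (pull_mem_RG f hf'Z.1))) (push_mem_RG f hw.1)
  obtain ⟨η, hη, hη1⟩ := exists_eta hp.out.1
  let φ : G →* Equiv.Perm G := (MulAut.toPerm G).comp MulAut.conj
  obtain ⟨d, hd, hd'⟩ := exists_grading (φ (f h)) {g | g ∉ f.range} hp.out.1.ne_zero hη
    (fun g hg n hn => by
      by_contra hpn
      obtain ⟨j, hj⟩ := exists_ppart_exp (G := G) hp.out.1 hpn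
      obtain ⟨z, hz⟩ := exists_ppart hp.out.1 (f h)
      have h2 : (φ (f h) ^ (n * j)) g = g := by
        rw [zpow_mul]; exact Equiv.Perm.zpow_apply_eq_self_of_apply_eq_self hn j
      rw [← map_zpow, hj _ z hz] at h2
      refine hg (hC z hz (mem_centralizer_singleton_iff.mpr ?_))
      exact (mul_inv_eq_iff_eq_mul.mp h2).symm)
  let y' : GA G := ofFn fun g => y.coeff g * d g
  have key := trace_lemma (ev χ) (ev_mul_comm χ.2.isClassFunction) (h := single (f h) 1) (y := y')
    hη1 hεε hhε (ga_ext fun g => by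
      rw [coeff_smul_apply, coeff_mul_single_apply, coeff_single_mul_apply]
      have h1 : g * (f h)⁻¹ = f h * ((f h)⁻¹ * g) * (f h)⁻¹ := by group
      simp only [y', coeff_ofFn, mul_one, one_mul, smul_eq_mul]
      rw [h1, (single_comm_iff y (f h)).mp hhy]
      by_cases hg : (f h)⁻¹ * g ∈ f.range
      · rw [hy0 _ hg]; simp
      · have := hd' _ hg
        change d (f h * ((f h)⁻¹ * g) * (f h)⁻¹) = _ at this
        rw [this]; ring) (by
      have h1 : ε * y' * ε + 1 - ε = 1 + ε * (y' - y) * ε := by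
        rw [mul_sub, sub_mul, hεy, hεε]; abel
      rw [h1]
      refine isUnit_one_add (M := M) (PG_mul_right (PG_mul_left hεR fun g => ?_) hεR)
      rw [coeff_sub, Finsupp.sub_apply, coeff_ofFn, ← mul_sub_one]
      exact LP_mul_left (hyR g) (sub_one_mem_LP (k := 1) (by simpa using hd g)))
  rw [hhε, hε, ← ZA_comm hf'Z.2, mul_assoc, ev_mul_of_cen χ hf'Z.2, hf',
    om_fS_of_mem (mem_blockOf_self χ), one_mul, ← push_single, hF, ← map_mul, ev_push] at key
  exact key

theorem ev_eq_sum_blocks [M.IsMaximal] (θ : G → ℂ) (a : GA G) : ev θ a = ∑ B ∈ blocks M G, ev θ (fS B * a) := by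
  rw [← map_sum, ← Finset.sum_mul, sum_fS_blocks, one_mul]

theorem cent_ppart_le_range {g x : G} (hx : IsPPart p g x) (z : G) (hz : IsPPart p g z) :
    centralizer ({z} : Set G) ≤ (centralizer ({x} : Set G)).subtype.range := by
  rw [ppart_unique Fact.out hz hx, range_subtype]

theorem exists_ind_cent {x : G} (hx : ∃ k, orderOf x = p ^ k)
    (ξ : IrrCharacter (centralizer ({x} : Set G))) :
    ∃ χ, Ind M (centralizer ({x} : Set G)).subtype ξ χ := by
  obtain ⟨k, hk⟩ := hx
  refine exists_ind (subtype_injective _) (P := zpowers x)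
    (isPGroup_zpowers (k := k) (by rw [← hk, pow_orderOf_eq_one])) ?_ ?_ ?_ ξ
  · rw [range_subtype, zpowers_le]; exact mem_centralizer_singleton_iff.mpr rfl
  · rw [range_subtype, centralizer_zpowers]
  · rw [range_subtype, ← centralizer_zpowers]; exact centralizer_le_normalizer _

/-- A nonzero value at `g` gives a block of the centraliser of the `p`-part that induces the
block of the character. -/
theorem exists_ind_of_apply_ne_zero {χ : IrrCharacter G} {g x : G} (hx : IsPPart p g x)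
    (hg : (χ : G → ℂ) g ≠ 0) :
    ∃ ξ : IrrCharacter (centralizer ({x} : Set G)), Ind M (centralizer ({x} : Set G)).subtype ξ χ := by
  let C := centralizer ({x} : Set G)
  let g' : C := ⟨g, mem_centralizer_singleton_iff.mpr (ppart_commute hx).eq.symm⟩
  have h1 : ev (fun k : C => (χ : G → ℂ) (C.subtype k)) (single g' 1) ≠ 0 := by simpa using hg
  rw [ev_eq_sum_blocks (M := M)] at h1
  obtain ⟨b, hb, h2⟩ := Finset.exists_ne_zero_of_sum_ne_zero h1
  rw [mem_blocks] at hb
  obtain ⟨ξ, hξ⟩ := blk_nonempty hb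
  obtain ⟨χ₀, h3⟩ := exists_ind_cent (M := M) (ppart_order hx) ξ
  refine ⟨ξ, h3.right ?_⟩
  by_contra h4
  exact h2 (second_main (subtype_injective _) hb hξ h3 h4 g' (cent_ppart_le_range hx))

theorem exists_defect_mem {B : Set (IrrCharacter G)} (hB : IsPBlock M B) {χ : IrrCharacter G}
    (hχ : χ ∈ B) {g x : G} (hx : IsPPart p g x) (hg : (χ : G → ℂ) g ≠ 0) :
    ∃ D, IsDefectGroup p M B D ∧ x ∈ D := by
  obtain ⟨ξ, h⟩ := exists_ind_of_apply_ne_zero (M := M) hx hg
  obtain ⟨D, hD⟩ := exists_defect (p := p) (isPBlock_blockOf (M := M) ξ)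
  obtain ⟨E, hE, h1⟩ := h.map_defect_le (isPBlock_blockOf ξ) (mem_blockOf_self ξ) hB hχ hD
  let x' : centralizer ({x} : Set G) := ⟨x, mem_centralizer_singleton_iff.mpr rfl⟩
  haveI : (zpowers x').Normal := ⟨fun n hn g => by
    rw [mem_center_iff.mp ((zpowers_le.mpr (mem_center_cent x)) hn) g]; simpa using hn⟩
  obtain ⟨k, hk⟩ := ppart_order hx
  have h2 : zpowers x' ≤ D := normal_le_defect (isPBlock_blockOf ξ) hD
    (isPGroup_zpowers (k := k) (Subtype.ext (by
      change x ^ p ^ k = 1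
      rw [← hk, pow_orderOf_eq_one])))
  exact ⟨E, hE, h1 ⟨x', h2 (mem_zpowers _), rfl⟩⟩

theorem apply_eq_zero_of_normal_defect {B : Set (IrrCharacter G)} (hB : IsPBlock M B)
    {D : Subgroup G} [D.Normal] (hD : IsDefectGroup p M B D) {χ : IrrCharacter G}
    (hχ : χ ∈ B) {g x : G} (hx : IsPPart p g x) (hxD : x ∉ D) : (χ : G → ℂ) g = 0 := by
  by_contra hg
  obtain ⟨E, hE, h⟩ := exists_defect_mem hB hχ hx hg
  exact hxD (defect_eq_of_normal hB hD hE ▸ h)

/-! ### The regular bilinear form -/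

variable (p) in
/-- The central element attached to the regular part of a function. -/
noncomputable def aR (θ : G → ℂ) : GA G := ofFn fun g => conj (regPart p θ g)

theorem aR_mem_ZR {θ : G → ℂ} (hθ : IsCharacter G θ) : aR p θ ∈ ZR M G :=
  ofFn_mem_ZR (isClassFunction_regPart hθ.isClassFunction).conj fun g => by
    by_cases hg : p ∣ orderOf g
    · rw [regPart_of_dvd _ hg, map_zero]; exact zero_mem _
    · rw [regPart_of_not_dvd _ hg]; exact LR_of_isIntegral (hθ.conj.isIntegral g)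

theorem pull_aR {f : H →* G} (hf : Function.Injective f) (θ : G → ℂ) :
    pull f (aR p θ) = aR p (fun h => θ (f h)) := ga_ext fun h => by
  simp only [aR, coeff_pull, coeff_ofFn, regPart, orderOf_injective f hf]

theorem aR_sum {ι : Type*} (s : Finset ι) (c : ι → ℕ) (θ : ι → G → ℂ) :
    aR p (∑ i ∈ s, (c i : ℂ) • θ i) = ∑ i ∈ s, (c i : ℂ) • aR p (θ i) := ga_ext fun g => by
  simp only [aR, coeff_sum_apply, coeff_ofFn, coeff_smul_apply]
  by_cases hg : p ∣ orderOf g
  · simp [regPart_of_dvd _ hg]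
  · simp [regPart_of_not_dvd _ hg]

theorem ev_aR [Fintype G] (χ ψ : G → ℂ) :
    ev ψ (aR p χ) = Nat.card G * classInner (regPart p ψ) χ := by
  rw [card_mul_classInner, ev_eq_sum]
  refine Finset.sum_congr rfl fun g _ => ?_
  simp only [aR, coeff_ofFn]
  by_cases hg : p ∣ orderOf g
  · simp [regPart_of_dvd _ hg]
  · simp [regPart_of_not_dvd _ hg, mul_comm]

theorem ev_aR_comm {χ ψ : G → ℂ} (hχ : IsCharacter G χ) (hψ : IsCharacter G ψ) :
    ev ψ (aR p χ) = ev χ (aR p ψ) := by
  have := Fintype.ofFinite G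
  rw [ev_eq_sum, ev_eq_sum]
  refine Fintype.sum_equiv (Equiv.inv G) _ _ fun g => ?_
  simp only [aR, coeff_ofFn, Equiv.inv_apply]
  by_cases hg : p ∣ orderOf g
  · rw [regPart_of_dvd _ hg, regPart_of_dvd (g := g⁻¹) (p := p) _ (by rwa [orderOf_inv])]; simp
  · rw [regPart_of_not_dvd _ hg, regPart_of_not_dvd (g := g⁻¹) _ (by rwa [orderOf_inv]),
      hχ.apply_inv, hψ.apply_inv, Complex.conj_conj, mul_comm]

theorem om_aR_eq_zero {χ ψ : IrrCharacter G} (h : ¬ SameBlock M (χ : G → ℂ) ψ) :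
    om ψ (aR p (χ : G → ℂ)) = 0 := by
  have := Fintype.ofFinite G
  rw [om_def, ev_aR, classInner_regPart_eq_zero fun h' => h (sameBlock_symm h')]; simp

theorem om_aR_comm (χ ψ : IrrCharacter G) :
    om ψ (aR p (χ : G → ℂ)) = (χ : G → ℂ) 1 / (ψ : G → ℂ) 1 * om χ (aR p (ψ : G → ℂ)) := by
  rw [om_def, ev_aR_comm χ.2.isCharacter ψ.2.isCharacter, ev_eq_om]; ring

theorem om_aR_notMem {B : Set (IrrCharacter G)} (hB : IsPBlock M B) {χ ψ : IrrCharacter G}
    (hχ : χ ∈ B) (hψ : ψ ∈ B) (h0 : nu p χ = minNu p B) : om ψ (aR p (χ : G → ℂ)) ∉ LP M := by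
  classical
  have := Fintype.ofFinite G
  intro hmem
  obtain ⟨P⟩ : Nonempty (Sylow p G) := inferInstance
  have h1 : ∑ u : P, regPart p (χ : G → ℂ) u = (χ : G → ℂ) 1 := by
    rw [Finset.sum_eq_single 1]
    · exact regPart_of_not_dvd _ (not_dvd_orderOf_one hp.out.1)
    · intro u _ hu
      refine regPart_of_dvd _ ?_
      rw [orderOf_coe]; exact P.isPGroup'.dvd_orderOf hu
    · simp
  have h2 : ∀ θ : IrrCharacter G, ∃ n : ℕ, ∑ u : P, (θ : G → ℂ) u = Nat.card P * n := fun θ => by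
    obtain ⟨n, hn⟩ := (θ.2.isCharacter.restrict P).classInner_nat isCharacter_one
    refine ⟨n, ?_⟩
    rw [← hn, card_mul_classInner]; simp
  choose n hn using h2
  simp only [(isClassFunction_regPart (p := p) χ.2.isClassFunction).apply_eq_sum_irr (_ : P)] at h1
  rw [Finset.sum_comm] at h1
  simp only [← Finset.mul_sum, hn] at h1
  have h3 : ((P : Subgroup G).index : ℂ) = ∑ θ : IrrCharacter G,
      om θ (aR p (χ : G → ℂ)) * ((θ : G → ℂ) 1 / (χ : G → ℂ) 1) * n θ := by
    have h4 : ∀ θ : IrrCharacter G, om θ (aR p (χ : G → ℂ)) * ((θ : G → ℂ) 1 / (χ : G → ℂ) 1) =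
        Nat.card G * classInner (regPart p (χ : G → ℂ)) θ / (χ : G → ℂ) 1 := fun θ => by
      rw [← ev_aR, ← ev_aR_comm χ.2.isCharacter θ.2.isCharacter, ev_eq_om]; ring
    simp only [h4]
    have h5 : (Nat.card G : ℂ) = Nat.card P * (P : Subgroup G).index := by
      rw [← Nat.cast_mul]; congr 1; exact (card_mul_index _).symm
    rw [h5]
    calc ((P : Subgroup G).index : ℂ) = (P : Subgroup G).index * (χ : G → ℂ) 1 / (χ : G → ℂ) 1 := by
          rw [mul_div_cancel_right₀ _ χ.2.one_ne_zero]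
      _ = _ := by
          conv_lhs => enter [1, 2]; rw [← h1]
          rw [Finset.mul_sum, Finset.sum_div]
          exact Finset.sum_congr rfl fun θ _ => by ring
  refine P.not_dvd_index ((natCast_mem_LP (M := M)).mp ?_)
  rw [h3]
  refine (LP M).sum_mem fun θ _ => LP_mul_right ?_ (natCast_mem _ _)
  by_cases hθ : θ ∈ B
  · refine LP_mul_right (LP_of_sub (om_sub_mem_of_blk hB hθ hψ (aR_mem_ZR χ.2.isCharacter)) hmem)
      (deg_div_mem_LR.mpr (h0 ▸ minNu_le hθ))
  · rw [om_aR_eq_zero (M := M) fun h => hθ (blk_mem hB hχ h), zero_mul]; exact zero_mem _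

theorem height_zero_of_om_aR {B : Set (IrrCharacter G)} (hB : IsPBlock M B) {χ ψ : IrrCharacter G}
    (hψ : ψ ∈ B) (h : om ψ (aR p (χ : G → ℂ)) ∉ LP M) : χ ∈ B ∧ nu p χ = minNu p B := by
  have hχ : χ ∈ B := by
    by_contra hχ
    rw [om_aR_eq_zero (M := M) fun h' => hχ (blk_mem hB hψ (sameBlock_symm h'))] at h
    exact h (zero_mem _)
  obtain ⟨θ, hθ, h0⟩ := exists_nu_eq (p := p) hB
  have h1 := notMem_LP_of_sub (om_sub_mem_of_blk hB hθ hψ (aR_mem_ZR χ.2.isCharacter)) h
  rw [om_aR_comm] at h1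
  refine ⟨hχ, le_antisymm ?_ (minNu_le hχ)⟩
  rw [← h0, ← not_lt, ← deg_div_mem_LP (M := M)]
  exact fun h2 => h1 (LP_mul_right h2 (om_mem_LR _ (aR_mem_ZR θ.2.isCharacter)))

theorem blau [Fintype H] {f : H →* G} (hf : Function.Injective f) {b : Set (IrrCharacter H)}
    (hb : IsPBlock M b) {ξ : IrrCharacter H} (hξ : ξ ∈ b) {B : Set (IrrCharacter G)}
    (hB : IsPBlock M B) {χ : IrrCharacter G} (hχ : χ ∈ B) (hind : Ind M f ξ χ)
    (h0 : nu p χ = minNu p B) : ∃ ζ ∈ b, nu p ζ = minNu p b ∧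
      ∃ n : ℕ, classInner (fun h => (χ : G → ℂ) (f h)) (ζ : H → ℂ) = n ∧ ¬ p ∣ n := by
  have h1 := notMem_LP_of_sub (hind _ (aR_mem_ZR χ.2.isCharacter)) (om_aR_notMem hB hχ hχ h0)
  obtain ⟨m, hm, hm'⟩ := (χ.2.isCharacter.comp f).exists_mult
  rw [pull_aR hf, hm', aR_sum, om_sum] at h1
  obtain ⟨ζ, -, h2⟩ := exists_notMem_LP_of_sum h1
  rw [om_smul] at h2
  obtain ⟨h3, h4⟩ := height_zero_of_om_aR hb hξ fun h => h2 (LP_mul_left (natCast_mem _ _) h)
  exact ⟨ζ, h3, h4, m ζ, hm ζ, fun h => h2 (LP_mul_right (natCast_mem_LP.mpr h)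
    (om_mem_LR _ (aR_mem_ZR ζ.2.isCharacter)))⟩

theorem okuyama {f : H →* G} (hf : Function.Injective f) {χ : IrrCharacter G} {ψ : IrrCharacter H}
    (hres : (ψ : H → ℂ) = fun h => (χ : G → ℂ) (f h))
    (hχ : nu p χ = minNu p (blockOf M (χ : G → ℂ))) (hψ : nu p ψ = minNu p (blockOf M (ψ : H → ℂ)))
    {ξ : IrrCharacter H} {χ' : IrrCharacter G} (hind : Ind M f ξ χ') :
    SameBlock M (χ : G → ℂ) χ' ↔ SameBlock M (ψ : H → ℂ) ξ := by
  have h1 := hind _ (aR_mem_ZR χ.2.isCharacter)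
  rw [pull_aR hf, ← hres] at h1
  constructor
  · intro h
    have h2 := notMem_LP_of_sub h1 (om_aR_notMem (isPBlock_blockOf χ) (mem_blockOf_self χ) h hχ)
    by_contra h3
    rw [om_aR_eq_zero h3] at h2
    exact h2 (zero_mem _)
  · intro h
    have h2 := notMem_LP_of_sub (LP_symm h1)
      (om_aR_notMem (isPBlock_blockOf ψ) (mem_blockOf_self ψ) h hψ)
    by_contra h3
    rw [om_aR_eq_zero h3] at h2
    exact h2 (zero_mem _)

theorem nu_irrOne_eq : nu p (irrOne G) = minNu p (principalBlock M G) :=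
  le_antisymm (by rw [nu_irrOne]; exact Nat.zero_le _) (minNu_le irrOne_mem_principal)

theorem third_main {f : H →* G} (hf : Function.Injective f) {ξ : IrrCharacter H}
    {χ : IrrCharacter G} (hind : Ind M f ξ χ) :
    χ ∈ principalBlock M G ↔ ξ ∈ principalBlock M H :=
  okuyama hf (χ := irrOne G) (ψ := irrOne H) rfl nu_irrOne_eq nu_irrOne_eq hind

theorem Ind.exists_constituent [Fintype H] {f : H →* G} {ξ : IrrCharacter H} {χ : IrrCharacter G}
    (hind : Ind M f ξ χ) {B : Set (IrrCharacter G)} (hB : IsPBlock M B) (hχ : χ ∈ B) :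
    ∃ ψ ∈ B, classInner (fun h => (ψ : G → ℂ) (f h)) (ξ : H → ℂ) ≠ 0 := by
  classical
  have := Fintype.ofFinite G
  have h1 := ne_zero_of_notMem_LP ((hind.mem_iff hB).mp hχ)
  by_contra hc
  push Not at hc
  apply h1
  rw [om_def, ev_eq_sum]
  simp only [coeff_pull, coeff_fS, blockCoeff_eq, Finset.mul_sum, Finset.sum_mul]
  rw [Finset.sum_comm, Finset.sum_eq_zero, zero_div]
  intro ψ hψ
  have h2 := card_mul_classInner (ξ : H → ℂ) (fun h => (ψ : G → ℂ) (f h))
  rw [classInner_eq_zero_comm.mp (hc ψ (Finset.mem_filter.mp hψ).2), mul_zero] at h2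
  have h3 := congrArg (fun z => (Nat.card G : ℂ)⁻¹ * (ψ : G → ℂ) 1 * z) h2
  simp only [mul_zero, Finset.mul_sum] at h3
  rw [h3]
  exact Finset.sum_congr rfl fun _ _ => by ring

/-- Second and third main theorem together: the principal block part on a section. -/
theorem principal_section {x : G} (hx : ∃ k, orderOf x = p ^ k) {θ : G → ℂ}
    (hθ : IsClassFunction G θ) (c : centralizer ({x} : Set G)) (hc : IsPPart p (c : G) x) :
    blockPart (principalBlock M G) θ c =
      ev (fun k : centralizer ({x} : Set G) => θ k)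
        (fS (principalBlock M (centralizer ({x} : Set G))) * single c 1) := by
  classical
  have := Fintype.ofFinite G
  let C := centralizer ({x} : Set G)
  have h1 : ∀ χ : IrrCharacter G, ev (fun k : C => (χ : G → ℂ) k)
      (fS (principalBlock M C) * single c 1) =
      if χ ∈ principalBlock M G then (χ : G → ℂ) c else 0 := by
    intro χ
    have h2 : ∀ b, IsPBlock M b → ¬ (b = principalBlock M C ↔ χ ∈ principalBlock M G) →
        ev (fun k : C => (χ : G → ℂ) k) (fS b * single c 1) = 0 ∨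
        (b ≠ principalBlock M C ∧ χ ∉ principalBlock M G) := by
      intro b hb h
      obtain ⟨ξ, hξ⟩ := blk_nonempty hb
      obtain ⟨χ₀, h3⟩ := exists_ind_cent (M := M) hx ξ
      have h4 := third_main (subtype_injective _) h3
      refine Or.inl (second_main (subtype_injective _) hb hξ h3 (fun h5 => h ?_) c
        (cent_ppart_le_range hc))
      constructor
      · rintro rfl
        exact blk_mem isPBlock_principal (h4.mpr hξ) h5
      · intro h6
        exact blk_eq_of_mem hb isPBlock_principal hξ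
          (h4.mp (blk_mem isPBlock_principal h6 (sameBlock_symm h5)))
    split_ifs with hχ
    · have h3 := ev_eq_sum_blocks (M := M) (fun k : C => (χ : G → ℂ) k) (single c 1)
      rw [Finset.sum_eq_single (principalBlock M C)] at h3
      · rw [← h3]; simp
      · intro b hb hne
        exact (h2 b (mem_blocks.mp hb) (fun h => hne (h.mpr hχ))).resolve_right fun h => h.2 hχ
      · intro h; exact absurd (mem_blocks.mpr isPBlock_principal) h
    · exact (h2 _ isPBlock_principal fun h => hχ (h.mp rfl)).resolve_right fun h => h.1 rfl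
  have h2 : (fun k : C => θ k) = ∑ χ : IrrCharacter G,
      classInner θ χ • fun k : C => (χ : G → ℂ) k := by
    ext k
    rw [hθ.apply_eq_sum_irr]; simp
  rw [h2, ev_sum_fun, blockPart_eq, Finset.sum_filter]
  refine Finset.sum_congr rfl fun χ _ => ?_
  rw [ev_smul_fun, h1]
  split_ifs <;> simp

end Cfsg.Agent.Blk
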