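import Cfsg.Agent.Blk.PPart

/-! Block orthogonality. -/

set_option autoImplicit false
set_option linter.unusedSectionVars false

namespace Cfsg.Agent.Blk

open Cfsg Cfsg.Agent.Char MonoidAlgebra
open scoped ComplexConjugate

variable {p : ℕ} {M : Ideal AlgInt} [hp : PMod p M] {G : Type*} [Group G]

theorem trace_perm_idem {X : Type*} [Fintype X] [DecidableEq X] (σ : Equiv.Perm X)
    (H : ∀ x, ∀ n : ℤ, (σ ^ n) x = x → (p : ℤ) ∣ n) (E : Matrix X X ℂ) (hE : ∀ i j, E i j ∈ LR M)
    (hEE : E * E = E) (hσ : ∀ i j, E (σ i) (σ j) = E i j) : ∑ i, E i (σ i) = 0 := by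
  obtain ⟨η, hη, hη1⟩ := exists_eta hp.out.1
  obtain ⟨c, hc, hc'⟩ := exists_grading σ Set.univ hp.out.1.ne_zero hη (fun x _ => H x)
  let S : Matrix X X ℂ := Matrix.of fun i j => if i = σ j then 1 else 0
  have hS1 : ∀ (N : Matrix X X ℂ) i j, (N * S) i j = N i (σ j) := fun N i j => by
    simp [S, Matrix.mul_apply]
  have hS2 : ∀ (N : Matrix X X ℂ) i j, (S * N) i j = N (σ.symm i) j := fun N i j => by
    simp only [S, Matrix.mul_apply, Matrix.of_apply, ← σ.symm_apply_eq]
    simp
  have hh : S * E = E * S := by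
    ext i j
    rw [hS1, hS2, ← hσ, Equiv.apply_symm_apply]
  have := trace_lemma (Matrix.traceLinearMap X ℂ ℂ) (fun x y => Matrix.trace_mul_comm x y)
    (ε := E) (h := S) (y := Matrix.diagonal c) hη1 hEE hh (by
      ext i j
      rw [Matrix.diagonal_mul, Matrix.smul_apply, Matrix.mul_diagonal]
      simp only [S, Matrix.of_apply]
      split_ifs with h
      · rw [h, hc' j trivial]; simp
      · simp) (by
      have h1 : E * Matrix.diagonal c * E + 1 - E = 1 + E * Matrix.diagonal (c - 1) * E := by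
        have : Matrix.diagonal (c - 1) = Matrix.diagonal c - 1 := by
          rw [← Matrix.diagonal_one, Matrix.diagonal_sub]; rfl
        rw [this, mul_sub, sub_mul, mul_one, hEE]; abel
      rw [h1]
      refine matrix_isUnit_one_add (M := M) _ fun i j => ?_
      rw [Matrix.mul_apply]
      refine (LP M).sum_mem fun k _ => LP_mul_right ?_ (hE _ _)
      rw [Matrix.mul_diagonal]
      exact LP_mul_left (hE _ _) (sub_one_mem_LP (k := 1) (by simpa using hc k)))
  rw [hh] at this
  simpa [Matrix.trace, hS1] using this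

theorem sum_conj_irr [Fintype G] (χ : IrrCharacter G) (a h : G) :
    ∑ u, (χ : G → ℂ) (u * h * u⁻¹ * a) =
      Nat.card G * (χ : G → ℂ) h * (χ : G → ℂ) a / (χ : G → ℂ) 1 := by
  have h1 : (∑ u : G, single (u * h * u⁻¹) 1 : GA G) ∈ ZA G := by
    rw [Subalgebra.mem_center_iff]
    intro b
    induction b using induction_linear with
    | zero => simp
    | add b b' hb hb' => simp only [add_mul, mul_add, hb, hb']
    | single g c =>
      simp only [Finset.mul_sum, Finset.sum_mul, single_mul_single]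
      refine Fintype.sum_equiv (Equiv.mulLeft g) _ _ fun u => ?_
      simp [mul_assoc]
  have h2 := ev_mul_of_cen χ h1 (single a 1)
  simp only [Finset.sum_mul, single_mul_single, map_sum, ev_single, one_mul, om_sum, om_single,
    χ.2.isClassFunction h, mul_one] at h2
  rw [h2]
  simp only [Finset.sum_const, Finset.card_univ, nsmul_eq_mul, Nat.card_eq_fintype_card]
  ring

variable [Finite G]

theorem block_orth_aux {B : Set (IrrCharacter G)} (hB : fS B ∈ RG M G) {g h x y : G}
    (hx : IsPPart p g x) (hy : IsPPart p h y) (hxy : ¬ IsConj x y) :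
    ∑ᶠ χ ∈ B, (χ : G → ℂ) g * conj ((χ : G → ℂ) h) = 0 := by
  classical
  have := Fintype.ofFinite G
  let σ : Equiv.Perm G := (Equiv.mulLeft g).trans (Equiv.mulRight h⁻¹)
  have hσ : ∀ u, σ u = g * u * h⁻¹ := fun u => rfl
  have hσn : ∀ (n : ℤ) u, (σ ^ n) u = g ^ n * u * (h ^ n)⁻¹ := by
    let φ : G × G →* Equiv.Perm G := MonoidHom.mk'
      (fun z => (Equiv.mulLeft z.1).trans (Equiv.mulRight z.2⁻¹))
      (fun a b => by ext u; simp [mul_assoc])
    intro n u
    have : σ = φ (g, h) := rfl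
    rw [this, ← map_zpow]; rfl
  have h1 := trace_perm_idem (M := M) σ (fun u n hn => by
      by_contra hpn
      obtain ⟨j, hj⟩ := exists_ppart_exp (G := G) hp.out.1 hpn
      have h2 : (σ ^ (n * j)) u = u := by
        rw [zpow_mul]; exact Equiv.Perm.zpow_apply_eq_self_of_apply_eq_self hn j
      rw [hσn, hj g x hx, hj h y hy] at h2
      exact hxy (isConj_iff.mpr ⟨u⁻¹, by
        rw [mul_inv_eq_iff_eq_mul] at h2; rw [inv_inv, mul_assoc, h2]; group⟩))
    (Matrix.of fun i j => (fS B).coeff (i * j⁻¹)) (fun i j => hB _) (by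
      ext i j
      rw [Matrix.mul_apply]
      simp only [Matrix.of_apply]
      conv_rhs => rw [← fS_mul_self B, coeff_mul_sum']
      refine Fintype.sum_equiv (Equiv.mulRight j⁻¹) _ _ fun k => ?_
      simp [mul_assoc]) (fun i j => by
      simp only [Matrix.of_apply, hσ]
      rw [← mem_ZA.mp (fS_mem_ZA B) (i * j⁻¹) g]
      congr 1; group)
  simp only [Matrix.of_apply, hσ, coeff_fS, blockCoeff_eq, ← Finset.mul_sum] at h1
  rw [mul_eq_zero, inv_eq_zero, Finset.sum_comm] at h1
  have h3 := h1.resolve_left (card_ne_zero G)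
  rw [finsum_mem_irr]
  have h4 : ∀ χ : IrrCharacter G, ∑ u, (χ : G → ℂ) 1 * conj ((χ : G → ℂ) (u * (g * u * h⁻¹)⁻¹)) =
      Nat.card G * ((χ : G → ℂ) g * conj ((χ : G → ℂ) h)) := fun χ => by
    rw [← Finset.mul_sum, ← map_sum]
    have : ∀ u : G, u * (g * u * h⁻¹)⁻¹ = u * h * u⁻¹ * g⁻¹ := fun u => by group
    simp only [this]
    rw [sum_conj_irr, χ.2.isCharacter.apply_inv, map_div₀, map_mul, map_mul,
      χ.2.isCharacter.conj_apply_one, Complex.conj_conj, map_natCast,
      mul_div_cancel₀ _ χ.2.one_ne_zero]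
    ring
  simp only [h4, ← Finset.mul_sum] at h3
  exact (mul_eq_zero.mp h3).resolve_left (card_ne_zero G)

theorem block_orth {B : Set (IrrCharacter G)} (hB : IsPBlock M B) {g h x y : G}
    (hx : IsPPart p g x) (hy : IsPPart p h y) (hxy : ¬ IsConj x y) :
    ∑ᶠ χ ∈ B, (χ : G → ℂ) g * conj ((χ : G → ℂ) h) = 0 :=
  block_orth_aux (fS_mem_ZR hB).1 hx hy hxy

theorem block_orth_reg {B : Set (IrrCharacter G)} (hB : fS B ∈ RG M G) {x y : G}
    (hx : ¬ p ∣ orderOf x) (hy : p ∣ orderOf y) :
    ∑ᶠ χ ∈ B, (χ : G → ℂ) x * conj ((χ : G → ℂ) y) = 0 := by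
  obtain ⟨z, hz⟩ := exists_ppart hp.out.1 y
  exact block_orth_aux hB (ppart_one hx) hz fun h =>
    ppart_ne_one hp.out.1 hz hy (isConj_one_right.mp h)

theorem not_dvd_orderOf_one (hp : p.Prime) : ¬ p ∣ orderOf (1 : G) := by
  simpa using hp.one_lt.ne'

theorem blockCoeff_eq_zero {B : Set (IrrCharacter G)} (hB : fS B ∈ RG M G) {y : G}
    (hy : p ∣ orderOf y) : blockCoeff B y = 0 := by
  rw [blockCoeff, block_orth_reg hB (not_dvd_orderOf_one hp.out.1) hy, mul_zero]

theorem reg_of_blockCoeff_ne_zero {B : Set (IrrCharacter G)} (hB : IsPBlock M B) {y : G}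
    (hy : blockCoeff B y ≠ 0) : ¬ p ∣ orderOf y := fun h =>
  hy (blockCoeff_eq_zero (fS_mem_ZR hB).1 h)

theorem reg_of_isDefectClass {B : Set (IrrCharacter G)} (hB : IsPBlock M B) {y : G}
    (hy : IsDefectClass M B y) : ¬ p ∣ orderOf y :=
  reg_of_blockCoeff_ne_zero hB (ne_zero_of_notMem_LP hy.2.1)

/-- Two characters whose central characters agree on the regular classes lie in one block. -/
theorem sameBlock_of_reg {χ ψ : IrrCharacter G}
    (h : ∀ g, ¬ p ∣ orderOf g → centralChar (χ : G → ℂ) g - centralChar (ψ : G → ℂ) g ∈ LP M) :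
    SameBlock M (χ : G → ℂ) ψ := by
  have := Fintype.ofFinite (ConjClasses G)
  have hB := isPBlock_blockOf (M := M) χ
  by_contra hn
  have h1 : om χ (fS (blockOf M (χ : G → ℂ))) - om ψ (fS (blockOf M (χ : G → ℂ))) ∈ LP M := by
    rw [om_eq_sum_cls _ (fS_mem_ZA _), om_eq_sum_cls _ (fS_mem_ZA _), ← Finset.sum_sub_distrib]
    refine (LP M).sum_mem fun C _ => ?_
    rw [← mul_sub, om_cls_irr, om_cls_irr, coeff_fS]
    by_cases hC : p ∣ orderOf C.out
    · rw [blockCoeff_eq_zero (fS_mem_ZR hB).1 hC, zero_mul]; exact zero_mem _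
    · exact LP_mul_left (blockCoeff_mem_LR hB _) (h _ hC)
  rw [om_fS_of_mem (mem_blockOf_self χ), om_fS_of_notMem hn, sub_zero] at h1
  exact one_notMem_LP h1

theorem blockPart_eq_sum [Fintype G] (B : Set (IrrCharacter G)) (θ : G → ℂ) (u : G) :
    blockPart B θ u = (Nat.card G : ℂ)⁻¹ *
      ∑ g, θ g * ∑ᶠ χ ∈ B, (χ : G → ℂ) u * conj ((χ : G → ℂ) g) := by
  classical
  rw [blockPart_eq]
  simp only [finsum_mem_irr, classInner, Finset.mul_sum, Finset.sum_mul]
  rw [Finset.sum_comm]
  exact Finset.sum_congr rfl fun _ _ => Finset.sum_congr rfl fun _ _ => by ring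

/-- The `B`-part of a function vanishing on a `p`-section vanishes on that section. -/
theorem blockPart_eq_zero_of_section {B : Set (IrrCharacter G)} (hB : fS B ∈ RG M G) {θ : G → ℂ}
    {x : G} (hθ : ∀ u z : G, IsPPart p u z → IsConj x z → θ u = 0) {u z : G} (hu : IsPPart p u z)
    (hz : IsConj x z) : blockPart B θ u = 0 := by
  have := Fintype.ofFinite G
  rw [blockPart_eq_sum, Finset.sum_eq_zero, mul_zero]
  intro g _
  obtain ⟨w, hw⟩ := exists_ppart hp.out.1 g
  by_cases h : IsConj x w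
  · rw [hθ g w hw h, zero_mul]
  · rw [block_orth_aux hB hu hw fun h' => h (hz.trans h'), mul_zero]

theorem blockPart_congr_section {B : Set (IrrCharacter G)} (hB : fS B ∈ RG M G) {θ θ' : G → ℂ}
    {x : G} (hθ : ∀ u z : G, IsPPart p u z → IsConj x z → θ u = θ' u) {u z : G}
    (hu : IsPPart p u z) (hz : IsConj x z) : blockPart B θ u = blockPart B θ' u := by
  have := Fintype.ofFinite G
  have h1 := blockPart_eq_zero_of_section hB (θ := θ - θ') (x := x)
    (fun u z h h' => by simp [hθ u z h h']) hu hz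
  rw [blockPart_eq_sum] at *
  rw [blockPart_eq_sum, ← sub_eq_zero, ← mul_sub, ← Finset.sum_sub_distrib, ← h1]
  simp only [Pi.sub_apply, sub_mul]

theorem blockPart_congr_reg {B : Set (IrrCharacter G)} (hB : fS B ∈ RG M G) {θ θ' : G → ℂ}
    (hθ : ∀ u : G, ¬ p ∣ orderOf u → θ u = θ' u) {u : G} (hu : ¬ p ∣ orderOf u) :
    blockPart B θ u = blockPart B θ' u :=
  blockPart_congr_section hB (x := 1) (fun u z h h' => hθ u (not_dvd_of_ppart_one
    (isConj_one_right.mp h' ▸ h))) (ppart_one hu) (IsConj.refl 1)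

theorem blockPart_irr (B : Set (IrrCharacter G)) [DecidablePred (· ∈ B)] (χ : IrrCharacter G)
    (u : G) : blockPart B χ u = if χ ∈ B then (χ : G → ℂ) u else 0 := by
  classical
  rw [blockPart_eq_ev B χ.2.isClassFunction, ev_mul_of_cen χ (fS_mem_ZA B), om_fS]
  split_ifs <;> simp

theorem classInner_blockPart [Fintype G] (B : Set (IrrCharacter G)) [DecidablePred (· ∈ B)]
    (θ : G → ℂ) (ψ : IrrCharacter G) :
    classInner (blockPart B θ) ψ = if ψ ∈ B then classInner θ ψ else 0 := by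
  classical
  have : blockPart B θ = ∑ χ : IrrCharacter G,
      (if χ ∈ B then classInner θ χ else 0) • (χ : G → ℂ) := by
    ext g
    rw [blockPart_eq, Finset.sum_filter, Finset.sum_apply]
    refine Finset.sum_congr rfl fun χ _ => ?_
    split_ifs <;> simp
  rw [this, classInner_sum_irr]

theorem isClassFunction_blockPart (B : Set (IrrCharacter G)) (θ : G → ℂ) :
    IsClassFunction G (blockPart B θ) := fun g h => by
  classical
  have := Fintype.ofFinite G
  rw [blockPart_eq, blockPart_eq]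
  exact Finset.sum_congr rfl fun χ _ => by rw [χ.2.isClassFunction]

/-- If `θ` agrees with a member `χ` of `B` on a union of `p`-sections and vanishes elsewhere,
then its constituents lie in `B`. -/
theorem classInner_eq_zero_of_sections [Fintype G] {B : Set (IrrCharacter G)} (hB : IsPBlock M B)
    {θ : G → ℂ} (hθ : ∀ x : G, ∃ (c : ℂ) (χ : IrrCharacter G), χ ∈ B ∧
      ∀ u z : G, IsPPart p u z → IsConj x z → θ u = c * (χ : G → ℂ) u)
    {ψ : IrrCharacter G} (hψ : ψ ∉ B) : classInner θ ψ = 0 := by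
  classical
  have hC := isPBlock_blockOf (M := M) ψ
  have h1 : blockPart (blockOf M (ψ : G → ℂ)) θ = 0 := by
    ext u
    obtain ⟨z, hz⟩ := exists_ppart hp.out.1 u
    obtain ⟨c, χ, hχ, h⟩ := hθ z
    rw [blockPart_congr_section (fS_mem_ZR hC).1 (θ' := c • (χ : G → ℂ)) h hz (IsConj.refl z),
      blockPart_eq_ev _ (χ.2.isClassFunction.smul c), ev_smul_fun, ev_mul_of_cen χ (fS_mem_ZA _),
      om_fS_of_notMem fun h' => hψ (blk_mem hB hχ (sameBlock_symm h'))]
    simp
  have h2 := classInner_blockPart (blockOf M (ψ : G → ℂ)) θ ψ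
  rw [h1, if_pos (mem_blockOf_self ψ), classInner_zero_left] at h2
  exact h2.symm

open Classical in
/-- The restriction of a function to the `p`-regular elements. -/
noncomputable def regPart (p : ℕ) (θ : G → ℂ) : G → ℂ := fun g => if p ∣ orderOf g then 0 else θ g

theorem regPart_of_dvd (θ : G → ℂ) {g : G} (h : p ∣ orderOf g) : regPart p θ g = 0 := if_pos h

theorem regPart_of_not_dvd (θ : G → ℂ) {g : G} (h : ¬ p ∣ orderOf g) : regPart p θ g = θ g :=
  if_neg h

theorem isClassFunction_regPart {θ : G → ℂ} (hθ : IsClassFunction G θ) :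
    IsClassFunction G (regPart p θ) := fun g h => by
  simp only [regPart, ← orderOf_isConj (isConj_conj g h), hθ g h]

theorem classInner_regPart_eq_zero [Fintype G] {χ ψ : IrrCharacter G}
    (h : ¬ SameBlock M (χ : G → ℂ) ψ) : classInner (regPart p (χ : G → ℂ)) (ψ : G → ℂ) = 0 := by
  refine classInner_eq_zero_of_sections (isPBlock_blockOf (M := M) χ) (fun x => ?_) h
  by_cases hx : x = 1
  · refine ⟨1, χ, mem_blockOf_self χ, fun u z hz hxz => ?_⟩
    rw [hx] at hxz
    rw [regPart_of_not_dvd _ (not_dvd_of_ppart_one (isConj_one_right.mp hxz ▸ hz)), one_mul]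
  · refine ⟨0, χ, mem_blockOf_self χ, fun u z hz hxz => ?_⟩
    rw [regPart_of_dvd _ (dvd_of_ppart_ne_one hp.out.1 hz ?_), zero_mul]
    rintro rfl
    exact hx (isConj_one_left.mp hxz)

end Cfsg.Agent.Blk
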