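import Cfsg.Agent.Blk.Int

/-! `p`-parts of elements, orbit sums and the trace lemma. -/

set_option autoImplicit false
set_option linter.unusedSectionVars false

namespace Cfsg.Agent.Blk

open Cfsg Cfsg.Agent.Char MonoidAlgebra
open scoped ComplexConjugate

section ppart
variable {G : Type*} [Group G] {p : ℕ}

theorem ppart_mk {x y : G} (hc : Commute x y) (hx : ∃ k : ℕ, orderOf x = p ^ k)
    (hy : ¬ p ∣ orderOf y) : IsPPart p (x * y) x := ⟨y, rfl, hc, hx, hy⟩

theorem ppart_self (hp : p.Prime) {x : G} (hx : ∃ k : ℕ, orderOf x = p ^ k) : IsPPart p x x :=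
  ⟨1, mul_one _, Commute.one_right _, hx, by simpa using hp.one_lt.ne'⟩

theorem ppart_one {y : G} (hy : ¬ p ∣ orderOf y) : IsPPart p y 1 :=
  ⟨y, one_mul _, Commute.one_left _, ⟨0, by simp⟩, hy⟩

theorem ppart_order {g x : G} (h : IsPPart p g x) : ∃ k : ℕ, orderOf x = p ^ k := h.choose_spec.2.2.1

theorem not_dvd_of_ppart_one {g : G} (h : IsPPart p g 1) : ¬ p ∣ orderOf g := by
  obtain ⟨y, h1, -, -, h2⟩ := h
  rw [one_mul] at h1; rwa [← h1]

theorem ppart_map_inj {H : Type*} [Group H] (f : G →* H) (hf : Function.Injective f) {g x : G}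
    (h : IsPPart p g x) : IsPPart p (f g) (f x) := by
  obtain ⟨y, rfl, hc, hx, hy⟩ := h
  exact ⟨f y, (map_mul _ _ _).symm, hc.map f, by rwa [orderOf_injective f hf],
    by rwa [orderOf_injective f hf]⟩

theorem ppart_map [Finite G] (hp : p.Prime) {H : Type*} [Group H] (f : G →* H) {g x : G}
    (h : IsPPart p g x) : IsPPart p (f g) (f x) := by
  obtain ⟨y, rfl, hc, ⟨k, hx⟩, hy⟩ := h
  refine ⟨f y, (map_mul _ _ _).symm, hc.map f, ?_, fun h => hy (h.trans (orderOf_map_dvd f y))⟩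
  have := orderOf_map_dvd f x
  rw [hx] at this
  obtain ⟨i, -, hi⟩ := (Nat.dvd_prime_pow hp).mp this
  exact ⟨i, hi⟩

theorem ppart_conj {g x : G} (h : IsPPart p g x) (u : G) :
    IsPPart p (u * g * u⁻¹) (u * x * u⁻¹) :=
  ppart_map_inj (MulAut.conj u).toMonoidHom (MulAut.conj u).injective h

theorem ppart_coe {H : Subgroup G} {g x : H} (h : IsPPart p g x) : IsPPart p (g : G) (x : G) :=
  ppart_map_inj H.subtype H.subtype_injective h

theorem ppart_inv {g x : G} (h : IsPPart p g x) : IsPPart p g⁻¹ x⁻¹ := by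
  obtain ⟨y, rfl, hc, hx, hy⟩ := h
  exact ⟨y⁻¹, by rw [hc.eq, mul_inv_rev], hc.inv_inv, by rwa [orderOf_inv], by rwa [orderOf_inv]⟩

theorem ppart_commute {g x : G} (h : IsPPart p g x) : Commute x g := by
  obtain ⟨y, rfl, hc, -, -⟩ := h
  exact (Commute.refl x).mul_right hc

variable [Finite G]

theorem exists_ppart_exp_aux (hp : p.Prime) {n : ℤ} (hn : ¬ (p : ℤ) ∣ n) :
    ∃ (a m : ℕ) (u v : ℤ), Nat.card G = p ^ a * m ∧ ¬ p ∣ m ∧ u * p ^ a + n * (v * m) = 1 := by
  have h0 : Nat.card G ≠ 0 := Nat.card_pos.ne'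
  refine ⟨(Nat.card G).factorization p, Nat.card G / p ^ (Nat.card G).factorization p, ?_⟩
  have hm := Nat.not_dvd_ordCompl hp h0
  have hpr : Prime (p : ℤ) := Nat.prime_iff_prime_int.mp hp
  have h1 : IsCoprime (p : ℤ) (n * (Nat.card G / p ^ (Nat.card G).factorization p : ℕ)) := by
    rw [Prime.coprime_iff_not_dvd hpr]
    intro h
    rcases hpr.dvd_or_dvd h with h | h
    · exact hn h
    · exact hm (Int.natCast_dvd_natCast.mp h)
  obtain ⟨u, v, huv⟩ := h1.pow_left (m := (Nat.card G).factorization p)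
  exact ⟨u, v, (Nat.ordProj_mul_ordCompl_eq_self _ p).symm, hm, by rw [← huv]; ring⟩

theorem exists_ppart_exp (hp : p.Prime) {n : ℤ} (hn : ¬ (p : ℤ) ∣ n) :
    ∃ j : ℤ, ∀ g x : G, IsPPart p g x → g ^ (n * j) = x := by
  obtain ⟨a, m, u, v, hG, hm, huv⟩ := exists_ppart_exp_aux (G := G) hp hn
  refine ⟨v * m, ?_⟩
  rintro _ x ⟨y, rfl, hc, ⟨k, hx⟩, hy⟩
  have h1 : y ^ m = 1 := by
    have := orderOf_dvd_natCard y
    rw [hG] at this
    exact orderOf_dvd_iff_pow_eq_one.mp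
      ((Nat.Coprime.pow_right a ((Nat.coprime_comm.mp ((Nat.Prime.coprime_iff_not_dvd hp).mpr hy)))).dvd_of_dvd_mul_left this)
  have h2 : x ^ (p ^ a) = 1 := by
    have := orderOf_dvd_natCard x
    rw [hG, hx] at this
    have h3 := (Nat.Coprime.pow_left k ((Nat.Prime.coprime_iff_not_dvd hp).mpr hm)).dvd_of_dvd_mul_right this
    rw [← hx] at h3
    exact orderOf_dvd_iff_pow_eq_one.mp h3
  have h4 : y ^ (n * (v * m)) = 1 := by
    rw [show n * (v * m) = (m : ℤ) * (n * v) by ring, zpow_mul, zpow_natCast, h1, one_zpow]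
  have h5 : x ^ (n * (v * m)) = x := by
    rw [show n * (v * m) = 1 + ((p ^ a : ℕ) : ℤ) * (-u) by rw [← huv]; push_cast; ring, zpow_add,
      zpow_mul, zpow_natCast, h2, one_zpow, mul_one, zpow_one]
  rw [hc.mul_zpow, h4, h5, mul_one]

theorem ppart_mem_zpowers (hp : p.Prime) {g x : G} (h : IsPPart p g x) :
    x ∈ Subgroup.zpowers g := by
  obtain ⟨j, hj⟩ := exists_ppart_exp (G := G) hp (n := 1)
    (by exact_mod_cast mt Nat.dvd_one.mp hp.one_lt.ne')
  exact ⟨_, hj g x h⟩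

theorem ppart_mem (hp : p.Prime) {g x : G} (h : IsPPart p g x) {H : Subgroup G} (hg : g ∈ H) :
    x ∈ H := (Subgroup.zpowers_le.mpr hg) (ppart_mem_zpowers hp h)

theorem ppart_unique (hp : p.Prime) {g x x' : G} (h : IsPPart p g x) (h' : IsPPart p g x') :
    x = x' := by
  obtain ⟨j, hj⟩ := exists_ppart_exp (G := G) hp (n := 1)
    (by exact_mod_cast mt Nat.dvd_one.mp hp.one_lt.ne')
  rw [← hj g x h, hj g x' h']

theorem exists_ppart (hp : p.Prime) (g : G) : ∃ x, IsPPart p g x := by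
  obtain ⟨a, m, u, v, hG, hm, huv⟩ := exists_ppart_exp_aux (G := G) hp (n := 1)
    (by exact_mod_cast mt Nat.dvd_one.mp hp.one_lt.ne')
  have h0 : g ^ (((p ^ a * m : ℕ)) : ℤ) = 1 := by rw [← hG, zpow_natCast, pow_card_eq_one']
  refine ⟨g ^ (v * m), g ^ (u * p ^ a), ?_, Commute.zpow_zpow_self _ _ _, ?_, ?_⟩
  · rw [← zpow_add, show v * m + u * p ^ a = 1 by rw [← huv]; ring, zpow_one]
  · have : (g ^ (v * m)) ^ (p ^ a) = 1 := by
      rw [← zpow_natCast, ← zpow_mul, show v * m * ((p ^ a : ℕ) : ℤ) = ((p ^ a * m : ℕ) : ℤ) * v by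
        push_cast; ring, zpow_mul, h0, one_zpow]
    obtain ⟨i, -, hi⟩ := (Nat.dvd_prime_pow hp).mp (orderOf_dvd_of_pow_eq_one this)
    exact ⟨i, hi⟩
  · have : (g ^ (u * p ^ a)) ^ m = 1 := by
      rw [← zpow_natCast, ← zpow_mul, show u * p ^ a * (m : ℤ) = ((p ^ a * m : ℕ) : ℤ) * u by
        push_cast; ring, zpow_mul, h0, one_zpow]
    exact fun h => hm (h.trans (orderOf_dvd_of_pow_eq_one this))

theorem ppart_subgroup (hp : p.Prime) {H : Subgroup G} {g x : H} (h : IsPPart p (g : G) (x : G)) :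
    IsPPart p g x := by
  obtain ⟨x', hx'⟩ := exists_ppart hp g
  have := ppart_unique hp h (ppart_coe hx')
  rwa [Subtype.ext this]

theorem ppart_ne_one (hp : p.Prime) {g x : G} (h : IsPPart p g x) (hg : p ∣ orderOf g) : x ≠ 1 := by
  rintro rfl
  exact not_dvd_of_ppart_one h hg

theorem dvd_of_ppart_ne_one (hp : p.Prime) {g x : G} (h : IsPPart p g x) (hx : x ≠ 1) :
    p ∣ orderOf g := by
  by_contra h'
  exact hx (ppart_unique hp h (ppart_one h'))

theorem ppart_isConj (hp : p.Prime) {g g' x x' : G} (h : IsPPart p g x) (h' : IsPPart p g' x')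
    (hc : IsConj g g') : IsConj x x' := by
  obtain ⟨u, rfl⟩ := isConj_iff.mp hc
  rw [← ppart_unique hp (ppart_conj h u) h']
  exact isConj_conj x u

theorem centralizer_le_of_ppart (hp : p.Prime) {g x : G} (h : IsPPart p g x) :
    Subgroup.centralizer ({g} : Set G) ≤ Subgroup.centralizer ({x} : Set G) := by
  intro u hu
  obtain ⟨k, rfl⟩ := ppart_mem_zpowers hp h
  rw [Subgroup.mem_centralizer_singleton_iff] at *
  exact (Commute.zpow_right hu k)

theorem orderOf_isConj {g h : G} (H : IsConj g h) : orderOf g = orderOf h := by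
  obtain ⟨u, rfl⟩ := isConj_iff.mp H
  exact (orderOf_injective (MulAut.conj u).toMonoidHom (MulAut.conj u).injective g).symm

end ppart

section orbit
variable {p : ℕ} {M : Ideal AlgInt} [hp : PMod p M]

theorem sum_mem_LP_of_invariant {P X : Type*} [Group P] [MulAction P X] [Fintype X]
    (hP : IsPGroup p P) (f : X → ℂ) (hf : ∀ (u : P) x, f (u • x) = f x) (hR : ∀ x, f x ∈ LR M)
    (h0 : ∀ x, (∀ u : P, u • x = x) → f x ∈ LP M) : ∑ x, f x ∈ LP M := by
  classical
  haveI : Fact p.Prime := ⟨hp.out.1⟩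
  rw [← Finset.sum_fiberwise (s := Finset.univ)
    (g := fun x => (Quotient.mk'' x : Quotient (MulAction.orbitRel P X)))]
  refine (LP M).sum_mem fun q _ => ?_
  induction q using Quotient.inductionOn' with
  | h a =>
  have h1 : ∀ x, (Quotient.mk'' x : Quotient (MulAction.orbitRel P X)) = Quotient.mk'' a ↔
      x ∈ MulAction.orbit P a := fun x => by rw [Quotient.eq'', MulAction.orbitRel_apply]
  rw [Finset.sum_congr rfl (g := fun _ => f a) (fun x hx => by
    obtain ⟨u, rfl⟩ := (h1 x).mp (Finset.mem_filter.mp hx).2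
    exact hf u a), Finset.sum_const, nsmul_eq_mul]
  obtain ⟨n, hn⟩ := hP.card_orbit a
  have h2 : (Finset.univ.filter fun x => (Quotient.mk'' x : Quotient (MulAction.orbitRel P X)) =
      Quotient.mk'' a).card = p ^ n := by
    rw [← hn, Nat.card_eq_fintype_card, Fintype.card_subtype]
    simp only [h1]
  rw [h2]
  rcases n with _ | n
  · refine LP_mul_left (natCast_mem _ _) (h0 a fun u => ?_)
    rw [pow_zero, Nat.card_eq_one_iff_unique] at hn
    exact congrArg Subtype.val (hn.1.elim ⟨u • a, MulAction.mem_orbit a u⟩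
      ⟨a, MulAction.mem_orbit_self a⟩)
  · exact LP_mul_right (natCast_mem_LP.mpr (dvd_pow_self p n.succ_ne_zero)) (hR a)

theorem exists_eta (hp : p.Prime) : ∃ η : ℂ, η ^ p = 1 ∧ η ≠ 1 :=
  ⟨_, (Complex.isPrimitiveRoot_exp p hp.ne_zero).pow_eq_one,
    (Complex.isPrimitiveRoot_exp p hp.ne_zero).ne_one hp.one_lt⟩

theorem exists_grading {X : Type*} (σ : Equiv.Perm X) (S : Set X) {η : ℂ} {p : ℕ} (hp : p ≠ 0)
    (hη : η ^ p = 1) (H : ∀ x ∈ S, ∀ n : ℤ, (σ ^ n) x = x → (p : ℤ) ∣ n) :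
    ∃ c : X → ℂ, (∀ x, c x ^ p = 1) ∧ ∀ x ∈ S, c (σ x) = η * c x := by
  have hη0 : η ≠ 0 := by rintro rfl; simp [hp] at hη
  let s := Equiv.Perm.SameCycle.setoid σ
  have h1 : ∀ x, ∃ k : ℤ, (σ ^ k) (Quotient.mk s x).out = x := fun x => Quotient.mk_out (s := s) x
  choose k hk using h1
  refine ⟨fun x => η ^ k x, fun x => ?_, fun x hx => ?_⟩
  · rw [← zpow_natCast, ← zpow_mul, mul_comm, zpow_mul, zpow_natCast, hη, one_zpow]
  · have h2 : Quotient.mk s (σ x) = Quotient.mk s x :=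
      Quotient.sound (Equiv.Perm.SameCycle.symm ⟨1, by simp⟩)
    have h3 := hk (σ x)
    rw [h2] at h3
    have h4 : (σ ^ (k (σ x) - k x - 1)) x = x := by
      have h5 : (σ ^ (-k x)) x = (Quotient.mk s x).out := by
        rw [zpow_neg, Equiv.Perm.inv_eq_iff_eq, hk x]
      rw [show k (σ x) - k x - 1 = -1 + k (σ x) + -k x by ring, zpow_add, zpow_add,
        Equiv.Perm.mul_apply, Equiv.Perm.mul_apply, h5, h3]
      simp
    obtain ⟨j, hj⟩ := H x hx _ h4
    have h6 : k (σ x) = 1 + k x + p * j := by rw [← hj]; ring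
    change η ^ k (σ x) = η * η ^ k x
    rw [h6, zpow_add₀ hη0, zpow_add₀ hη0, zpow_mul, zpow_natCast, hη, one_zpow, mul_one, zpow_one]

theorem trace_lemma {A : Type*} [Ring A] [Algebra ℂ A] (τ : A →ₗ[ℂ] ℂ)
    (hτ : ∀ x y, τ (x * y) = τ (y * x)) {ε h y : A} {η : ℂ} (hη : η ≠ 1) (hε : ε * ε = ε)
    (hh : h * ε = ε * h) (hy : y * h = η • (h * y)) (hu : IsUnit (ε * y * ε + 1 - ε)) :
    τ (h * ε) = 0 := by
  obtain ⟨u, hu⟩ := hu
  set θ := ε * y * ε with hθ
  have h1 : ε * u = θ := by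
    rw [hu, mul_sub, mul_add, hε, mul_one, hθ, ← mul_assoc, ← mul_assoc, hε]; abel
  have h2 : u * ε = θ := by
    rw [hu, sub_mul, add_mul, hε, one_mul, hθ, mul_assoc _ ε, hε]; abel
  have h3 : θ * h = η • (h * θ) := by
    rw [hθ, mul_assoc, ← hh, ← mul_assoc, mul_assoc ε, hy, mul_smul_comm, smul_mul_assoc,
      ← mul_assoc ε, ← hh]
    simp only [mul_assoc]
  have h4 : τ (h * ε) = τ (h * θ * ↑u⁻¹) := by
    rw [← h1]; simp only [mul_assoc, Units.mul_inv, mul_one]
  have h5 : τ (h * ε) = η * τ (h * θ * ↑u⁻¹) := by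
    rw [hh, hτ (h * θ), ← smul_eq_mul η, ← map_smul, ← mul_smul_comm, ← h3, ← h2]
    simp only [← mul_assoc, Units.inv_mul, one_mul]
  rw [← h4] at h5
  have h6 : (1 - η) * τ (h * ε) = 0 := by rw [sub_mul, one_mul, ← h5, sub_self]
  exact (mul_eq_zero.mp h6).resolve_left (sub_ne_zero.mpr hη.symm)

theorem matrix_isUnit_one_add {X : Type*} [Fintype X] [DecidableEq X] (N : Matrix X X ℂ)
    (hN : ∀ i j, N i j ∈ LP M) : IsUnit (1 + N) := by
  let N' : Matrix X X (LR M) := Matrix.of fun i j => ⟨N i j, LR_of_LP (hN i j)⟩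
  have h1 : (res M).mapMatrix N' = 0 := by
    ext i j
    exact res_eq_zero.mpr (hN i j)
  have h2 : res M (1 + N').det = 1 := by
    rw [RingHom.map_det, map_add, map_one, h1, add_zero, Matrix.det_one]
  have h3 : IsUnit (1 + N').det := by
    rw [← IsLocalRing.residue_ne_zero_iff_isUnit, h2]; exact one_ne_zero
  have h4 := ((Matrix.isUnit_iff_isUnit_det _).mpr h3).map (LR M).subtype.mapMatrix
  rw [map_add, map_one] at h4
  exact h4

end orbit

end Cfsg.Agent.Blk
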