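import Cfsg.Agent.Blk.Orth

/-! Normal `p`-subgroups and the radical of a modular group algebra. -/

set_option autoImplicit false
set_option linter.unusedSectionVars false

namespace Cfsg.Agent.Blk

open Cfsg MonoidAlgebra

variable {G : Type*} [Group G] [Finite G] {p : ℕ} [hp : Fact p.Prime] {F : Type*} [Field F]
  [CharP F p]

theorem exists_fixed_vector {V : Type*} [AddCommGroup V] [Module (MonoidAlgebra F G) V]
    [Nontrivial V] {P : Subgroup G} (hP : IsPGroup p P) :
    ∃ v : V, v ≠ 0 ∧ ∀ u ∈ P, (single u 1 : MonoidAlgebra F G) • v = v := by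
  obtain ⟨v0, hv0⟩ := exists_ne (0 : V)
  have hpV : ∀ v : V, p • v = 0 := fun v => by
    rw [← Nat.cast_smul_eq_nsmul (MonoidAlgebra F G), natCast_def, CharP.cast_eq_zero F p,
      single_zero, zero_smul]
  let X : AddSubgroup V :=
    AddSubgroup.closure (Set.range fun u : P => (single (u : G) 1 : MonoidAlgebra F G) • v0)
  have hX : ∀ (u : P) (v : V), v ∈ X → (single (u : G) 1 : MonoidAlgebra F G) • v ∈ X := by
    intro u v hv
    induction hv using AddSubgroup.closure_induction with
    | mem x hx =>
      obtain ⟨w, rfl⟩ := hx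
      exact AddSubgroup.subset_closure ⟨u * w, by simp [smul_smul, single_mul_single]⟩
    | zero => simp
    | add x y _ _ hx hy => rw [smul_add]; exact add_mem hx hy
    | neg x _ hx => rw [smul_neg]; exact neg_mem hx
  letI : MulAction P X :=
    { smul := fun u v => ⟨_, hX u v v.2⟩
      one_smul := fun v => Subtype.ext (by
        change (single ((1 : P) : G) 1 : MonoidAlgebra F G) • (v : V) = v
        rw [Subgroup.coe_one, ← one_def, one_smul])
      mul_smul := fun u w v => Subtype.ext (by
        change (single ((u * w : P) : G) 1 : MonoidAlgebra F G) • (v : V) =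
          (single (u : G) 1 : MonoidAlgebra F G) • (single (w : G) 1 : MonoidAlgebra F G) • (v : V)
        rw [smul_smul, single_mul_single]; simp) }
  have hsm : ∀ (u : P) (v : X), ((u • v : X) : V) = (single (u : G) 1 : MonoidAlgebra F G) • (v : V) :=
    fun _ _ => rfl
  haveI : AddGroup.FG X := (AddGroup.fg_iff_addSubgroup_fg X).mpr
    ((AddSubgroup.fg_iff _).mpr ⟨_, rfl, Set.finite_range _⟩)
  haveI : Finite X := AddCommGroup.finite_of_fg_torsion X fun v =>
    isOfFinAddOrder_iff_nsmul_eq_zero.mpr ⟨p, hp.out.pos, Subtype.ext (hpV v)⟩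
  have hv0X : v0 ∈ X := AddSubgroup.subset_closure ⟨1, by
    simp only [Subgroup.coe_one]; rw [← one_def, one_smul]⟩
  have hdvd : p ∣ Nat.card X := by
    have h1 : addOrderOf (⟨v0, hv0X⟩ : X) = p :=
      addOrderOf_eq_prime (Subtype.ext (hpV v0)) (fun h => hv0 (congrArg Subtype.val h))
    rw [← h1]; exact addOrderOf_dvd_natCard _
  obtain ⟨b, hb, hb0⟩ := hP.exists_fixed_point_of_prime_dvd_card_of_fixed_point X hdvd (a := 0)
    (fun u => Subtype.ext (by rw [hsm]; simp))
  exact ⟨b, fun h => hb0 (Subtype.ext h.symm), fun u hu => congrArg Subtype.val (hb ⟨u, hu⟩)⟩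

theorem acts_trivially {V : Type*} [AddCommGroup V] [Module (MonoidAlgebra F G) V]
    [IsSimpleModule (MonoidAlgebra F G) V] {P : Subgroup G} [hN : P.Normal] (hP : IsPGroup p P)
    {u : G} (hu : u ∈ P) (v : V) : (single u 1 : MonoidAlgebra F G) • v = v := by
  haveI := IsSimpleModule.nontrivial (MonoidAlgebra F G) V
  let W : Submodule (MonoidAlgebra F G) V :=
    { carrier := {v | ∀ u ∈ P, (single u 1 : MonoidAlgebra F G) • v = v}
      add_mem' := fun ha hb u hu => by rw [smul_add, ha u hu, hb u hu]
      zero_mem' := fun u _ => smul_zero _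
      smul_mem' := fun a v hv u hu => by
        induction a using induction_linear with
        | zero => simp
        | add a b ha hb => rw [add_smul, smul_add, ha, hb]
        | single g c =>
          conv_rhs => rw [← hv _ (hN.conj_mem' u hu g)]
          simp [smul_smul, single_mul_single, mul_assoc] }
  obtain ⟨w, hw, hw'⟩ := exists_fixed_vector (F := F) (V := V) hP
  rcases eq_bot_or_eq_top W with h | h
  · exact absurd ((Submodule.eq_bot_iff W).mp h w hw') hw
  · exact (show v ∈ W from h ▸ Submodule.mem_top) u hu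

theorem isNilpotent_of_mapDomain_eq_zero {P : Subgroup G} [hN : P.Normal] (hP : IsPGroup p P)
    {a : MonoidAlgebra F G} (ha : mapDomainRingHom F (QuotientGroup.mk' P) a = 0) :
    IsNilpotent a := by
  haveI : IsArtinianRing (MonoidAlgebra F G) := IsArtinianRing.of_finite F _
  obtain ⟨n, hn⟩ : IsNilpotent (Ring.jacobson (MonoidAlgebra F G)) := IsSemiprimaryRing.isNilpotent
  have h1 : a ∈ Ring.jacobson (MonoidAlgebra F G) := by
    rw [Ring.jacobson_eq_sInf_isMaximal, Submodule.mem_sInf]
    intro m hm
    haveI : IsSimpleModule (MonoidAlgebra F G) (MonoidAlgebra F G ⧸ m) :=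
      isSimpleModule_iff_isCoatom.mpr (Ideal.IsMaximal.out (self := hm))
    have key : ∀ (b : MonoidAlgebra F G) (v : MonoidAlgebra F G ⧸ m),
        b • v = mapDomain Quotient.out (mapDomainRingHom F (QuotientGroup.mk' P) b) • v := by
      intro b v
      induction b using induction_linear with
      | zero => simp [mapDomain_zero]
      | add b b' hb hb' => rw [map_add, mapDomain_add, add_smul, add_smul, ← hb, ← hb']
      | single g c =>
        obtain ⟨u, hu⟩ := QuotientGroup.mk_out_eq_mul P g
        have : mapDomainRingHom F (QuotientGroup.mk' P) (single g c) = single (g : G ⧸ P) c :=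
          mapDomain_single
        rw [this, mapDomain_single, hu]
        conv_lhs => rw [← acts_trivially (F := F) hP u.2 v]
        simp [smul_smul, single_mul_single]
    have := key a (Submodule.Quotient.mk 1)
    rw [ha, mapDomain_zero, zero_smul, ← Submodule.Quotient.mk_smul, smul_eq_mul, mul_one,
      Submodule.Quotient.mk_eq_zero] at this
    exact this
  refine ⟨n, ?_⟩
  have := Ideal.pow_mem_pow h1 n
  rwa [hn, Ideal.zero_eq_bot, Ideal.mem_bot] at this

theorem coeff_mapDomain_eq_sum {k H : Type*} [Semiring k] [Group H] [Fintype G] [DecidableEq H]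
    (f : G → H) (a : MonoidAlgebra k G) (y : H) :
    (mapDomain f a).coeff y = ∑ g, if f g = y then a.coeff g else 0 := by
  induction a using induction_linear with
  | zero => simp [mapDomain_zero]
  | add a b ha hb =>
    rw [mapDomain_add, coeff_add, Finsupp.add_apply, ha, hb, ← Finset.sum_add_distrib]
    refine Finset.sum_congr rfl fun g _ => ?_
    split_ifs <;> simp
  | single g c =>
    classical
    rw [mapDomain_single, Finset.sum_eq_single g]
    · simp [Finsupp.single_apply]
    · intro b _ hb; simp [Finsupp.single_apply, hb.symm]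
    · simp

/-- A conjugation invariant set that misses the centraliser of a normal `p`-subgroup meets every
coset in a multiple of `p` elements. -/
theorem dvd_card_coset {P : Subgroup G} [hN : P.Normal] (hP : IsPGroup p P) (S : G → Prop)
    (hS : ∀ x u, u ∈ P → S x → S (u * x * u⁻¹))
    (hC : ∀ x, S x → x ∉ Subgroup.centralizer (P : Set G)) (y : G ⧸ P) :
    p ∣ Nat.card {x : G // S x ∧ (x : G ⧸ P) = y} := by
  letI : MulAction P {x : G // S x ∧ (x : G ⧸ P) = y} :=
    { smul := fun u x => ⟨u * x * u⁻¹, hS _ _ u.2 x.2.1, by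
        refine Eq.trans ?_ x.2.2
        rw [QuotientGroup.eq]
        have := P.mul_mem u.2 (hN.conj_mem' _ (P.inv_mem u.2) (x : G))
        convert this using 1
        simp only [Subgroup.coe_inv]; group⟩
      one_smul := fun x => Subtype.ext (by
        change ((1 : P) : G) * x * ((1 : P)⁻¹ : P) = x
        simp)
      mul_smul := fun u w x => Subtype.ext (by
        change ((u * w : P) : G) * x * ((u * w)⁻¹ : P) = u * (w * x * (w⁻¹ : P)) * (u⁻¹ : P)
        simp [mul_assoc]) }
  have h1 := hP.card_modEq_card_fixedPoints {x : G // S x ∧ (x : G ⧸ P) = y}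
  have h2 : IsEmpty (MulAction.fixedPoints P {x : G // S x ∧ (x : G ⧸ P) = y}) := by
    refine ⟨fun x => hC _ x.1.2.1 ?_⟩
    rw [Subgroup.mem_centralizer_iff]
    intro u hu
    have : u * x * u⁻¹ = x := congrArg Subtype.val (x.2 ⟨u, hu⟩)
    rwa [mul_inv_eq_iff_eq_mul] at this
  rw [Nat.card_of_isEmpty (α := MulAction.fixedPoints _ _)] at h1
  exact (Nat.modEq_zero_iff_dvd).mp h1

open Classical in
theorem isNilpotent_indicator {P : Subgroup G} [hN : P.Normal] (hP : IsPGroup p P) (S : G → Prop)
    (hS : ∀ x u, u ∈ P → S x → S (u * x * u⁻¹))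
    (hC : ∀ x, S x → x ∉ Subgroup.centralizer (P : Set G)) :
    IsNilpotent (ofFn fun x => if S x then (1 : F) else 0) := by
  have := Fintype.ofFinite G
  refine isNilpotent_of_mapDomain_eq_zero hP (ga_ext fun y => ?_)
  change (mapDomain _ _).coeff y = 0
  rw [coeff_mapDomain_eq_sum]
  have h1 := (CharP.cast_eq_zero_iff F p _).mpr (dvd_card_coset hP S hS hC y)
  refine Eq.trans ?_ h1
  rw [Nat.card_eq_fintype_card, Fintype.card_subtype, Finset.card_filter]
  push_cast
  refine Finset.sum_congr rfl fun g _ => ?_
  by_cases h1 : S g <;> by_cases h2 : (g : G ⧸ P) = y <;> simp [h1, h2]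

end Cfsg.Agent.Blk
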