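/-
A finite additive group of invertible elements of a ring of characteristic two which contains `1`
and is closed under inversion is commutative.
-/
import Cfsg.Agent.PLoc.Basic
import Cfsg.Agent.Class.Lin
import Cfsg.Agent.S0215
import Cfsg.Agent.S1136
import Cfsg.Agent.S1119
import Cfsg.Agent.S1163
import Cfsg.Agent.S0280

set_option autoImplicit false

namespace Cfsg.Agent.JTI

open Subgroup MulAction

variable {R : Type*} [Ring R]

/-- Jordan division system -/
structure JD (S : AddSubgroup R) : Prop where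
  two : ∀ a : R, a + a = 0
  one : (1 : R) ∈ S
  inv : ∀ a ∈ S, a ≠ 0 → ∃ b ∈ S, a * b = 1 ∧ b * a = 1

namespace JD

variable {S : AddSubgroup R} (h : JD S)

open Classical in
/-- inverse -/
noncomputable def iv (a : S) : S :=
  if e : (a : R) = 0 then 0 else ⟨(h.inv a a.2 e).choose, (h.inv a a.2 e).choose_spec.1⟩

theorem mul_iv {a : S} (e : a ≠ 0) : (a : R) * h.iv a = 1 := by
  have e' : (a : R) ≠ 0 := fun x => e (Subtype.ext x)
  rw [iv, dif_neg e']; exact (h.inv a a.2 e').choose_spec.2.1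

theorem iv_mul {a : S} (e : a ≠ 0) : (h.iv a : R) * a = 1 := by
  have e' : (a : R) ≠ 0 := fun x => e (Subtype.ext x)
  rw [iv, dif_neg e']; exact (h.inv a a.2 e').choose_spec.2.2

theorem mul_iv' {a : S} (e : a ≠ 0) (x : R) : (a : R) * (h.iv a * x) = x := by
  rw [← mul_assoc, h.mul_iv e, one_mul]

theorem iv_mul' {a : S} (e : a ≠ 0) (x : R) : (h.iv a : R) * (a * x) = x := by
  rw [← mul_assoc, h.iv_mul e, one_mul]

theorem ne_of_mul {a b : S} (hb : b ≠ 0) {x : R} (e : (a : R) * x = 1) : a ≠ 0 := by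
  rintro rfl
  refine hb (Subtype.ext ?_)
  rw [← mul_one (b : R), ← e]; simp

theorem iv_eq {a b : S} (hb : b ≠ 0) {x : R} (e : (a : R) * x = 1) : (h.iv a : R) = x := by
  rw [← h.iv_mul' (ne_of_mul hb e) x, e, mul_one]

theorem iv_ne {a : S} (e : a ≠ 0) : h.iv a ≠ 0 := ne_of_mul e (h.iv_mul e)

theorem iv_iv {a : S} (e : a ≠ 0) : h.iv (h.iv a) = a := Subtype.ext (h.iv_eq e (h.iv_mul e))

include h in
theorem add_self (a : S) : a + a = 0 := Subtype.ext (h.two a)

theorem hua {x a : S} (hx : x ≠ 0) (ha : a ≠ 0) (hs : x + h.iv a ≠ 0) :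
    ((h.iv x + a : S) : R) * (h.iv a * h.iv (x + h.iv a) * h.iv a + h.iv a) = 1 := by
  have e1 : ((h.iv x + a : S) : R) = h.iv x * ((x + h.iv a : S) * a) := by
    rw [AddSubgroup.coe_add, AddSubgroup.coe_add, add_mul, h.iv_mul ha, mul_add, h.iv_mul' hx, mul_one,
      add_comm]
  have e2 : (h.iv a * h.iv (x + h.iv a) * h.iv a + h.iv a : R) = h.iv a * (h.iv (x + h.iv a) * x) := by
    have : (x : R) = (x + h.iv a : S) + h.iv a := by rw [AddSubgroup.coe_add, add_assoc, h.two, add_zero]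
    rw [this, mul_add, h.iv_mul hs, mul_add, mul_one, mul_assoc, add_comm]
  rw [e1, e2]
  simp only [mul_assoc, h.mul_iv' ha, h.mul_iv' hs, h.iv_mul hx]

include h in
theorem sand (b y : S) : (b : R) * y * b ∈ S := by
  by_cases hb : b = 0
  · simp [hb]
  by_cases hy : y = 0
  · simp [hy]
  by_cases hx : h.iv y + b = 0
  · have : (b : R) = h.iv y := by
      rw [← add_zero (b : R), ← h.two (h.iv y), ← add_assoc, add_comm (b : R), ← AddSubgroup.coe_add, hx]
      simp
    nth_rw 1 [this]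
    rw [h.iv_mul hy, one_mul]; exact b.2
  have e : h.iv y + b + h.iv (h.iv b) = h.iv y := by rw [h.iv_iv hb, add_assoc, h.add_self, add_zero]
  have := h.iv_eq hb (h.hua hx (h.iv_ne hb) (by rw [e]; exact h.iv_ne hy))
  rw [e, h.iv_iv hy, h.iv_iv hb] at this
  rw [← add_zero (_ * _ * _), ← h.two b, ← add_assoc, ← this]
  exact add_mem (Subtype.prop _) b.2

/-- the quadratic operator -/
def sw (b : S) : S →+ S where
  toFun y := ⟨_, h.sand b y⟩
  map_zero' := Subtype.ext (by simp)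
  map_add' x y := Subtype.ext (by simp [mul_add, add_mul])

@[simp] theorem coe_sw (b y : S) : (h.sw b y : R) = b * y * b := rfl

theorem iv_sw {b y : S} (hb : b ≠ 0) (hy : y ≠ 0) : h.iv (h.sw b y) = h.sw (h.iv b) (h.iv y) :=
  Subtype.ext (h.iv_eq hb (by simp only [coe_sw, mul_assoc, h.mul_iv' hb, h.mul_iv' hy, h.mul_iv hb]))

theorem sw_ne {b y : S} (hb : b ≠ 0) (hy : y ≠ 0) : h.sw b y ≠ 0 :=
  ne_of_mul hb (x := h.sw (h.iv b) (h.iv y))
    (by simp only [coe_sw, mul_assoc, h.mul_iv' hb, h.mul_iv' hy, h.mul_iv hb])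

include h in
theorem pow_mem (a : S) (n : ℕ) : (a : R) ^ n ∈ S := by
  induction n using Nat.twoStepInduction with
  | zero => simpa using h.one
  | one => simp
  | more n a1 _ =>
    rw [pow_succ, pow_succ']
    exact h.sand a ⟨_, a1⟩

include h in
theorem odd_pow [Finite R] {a : S} (ha : a ≠ 0) : ∃ n, Odd n ∧ (a : R) ^ n = 1 := by
  let u : Rˣ := ⟨a, h.iv a, h.mul_iv ha, h.iv_mul ha⟩
  obtain ⟨j, m, hm, e⟩ := Nat.exists_eq_two_pow_mul_odd (orderOf_pos u).ne'
  have h1 : (a : R) ^ (2 ^ j * m) = 1 := by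
    rw [← e]; exact congrArg Units.val (pow_orderOf_eq_one u)
  refine ⟨m, hm, ?_⟩
  clear e
  induction j with
  | zero => simpa using h1
  | succ j ih =>
    refine ih ?_
    let c : S := ⟨_, add_mem (h.pow_mem a (2 ^ j * m)) h.one⟩
    have hc : (c : R) * c = 0 := by
      show (_ + 1) * (_ + 1) = _
      rw [add_mul, mul_add, mul_add, ← pow_add, ← two_mul, ← mul_assoc, ← pow_succ', h1]
      simp only [mul_one, one_mul]
      rw [add_comm (_ ^ _) 1, h.two]
    have c0 : c = 0 := by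
      by_contra hn
      exact hn (Subtype.ext (by rw [← h.iv_mul' hn c, hc, mul_zero]; rfl))
    have : (a : R) ^ (2 ^ j * m) + 1 = 0 := congrArg Subtype.val c0
    rw [← add_zero (_ ^ _), ← h.two 1, ← add_assoc, this, zero_add]

include h in
theorem sq_surj [Finite R] (a : S) : ∃ s : S, (s : R) * s = a := by
  by_cases ha : a = 0
  · exact ⟨0, by simp [ha]⟩
  obtain ⟨n, ⟨k, rfl⟩, e⟩ := h.odd_pow ha
  refine ⟨⟨_, h.pow_mem a (k + 1)⟩, ?_⟩
  show _ ^ _ * _ ^ _ = _
  rw [← pow_add, show k + 1 + (k + 1) = 2 * k + 1 + 1 by ring, pow_succ, e, one_mul]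

/-- translations -/
def T (b : S) : Equiv.Perm (Option S) := Equiv.optionCongr (Equiv.addRight b)

@[simp] theorem T_none (b : S) : T b none = none := rfl
@[simp] theorem T_some (b x : S) : T b (some x) = some (x + b) := rfl

theorem T_add (b c : S) : T b * T c = T (b + c) := by
  ext (_ | x) : 1
  · rfl
  · simp only [Equiv.Perm.mul_apply, T_some, add_assoc, add_comm b c]

theorem T_zero : T (0 : S) = 1 := by ext (_ | x) : 1 <;> simp

open Classical in
/-- the `μ`-maps -/
noncomputable def mf (a : S) : Option S → Option S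
  | none => some 0
  | some x => if x = 0 then none else some (h.sw a (h.iv x))

theorem mf_zero (a : S) : h.mf a (some 0) = none := by simp [mf]
theorem mf_ne (a : S) {x : S} (e : x ≠ 0) : h.mf a (some x) = some (h.sw a (h.iv x)) := by simp [mf, e]

theorem mf_mf {a : S} (ha : a ≠ 0) (b : S) (x : S) :
    h.mf b (h.mf a (some x)) = some (h.sw b (h.sw (h.iv a) x)) := by
  by_cases e : x = 0
  · subst e; rw [mf_zero]; simp [mf]
  · rw [h.mf_ne a e, h.mf_ne _ (h.sw_ne ha (h.iv_ne e)), h.iv_sw ha (h.iv_ne e), h.iv_iv e]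

/-- the `μ`-maps -/
noncomputable def μ (a : {a : S // a ≠ 0}) : Equiv.Perm (Option S) :=
  Function.Involutive.toPerm (h.mf a) (by
    rintro (_ | x)
    · exact h.mf_zero a
    · rw [h.mf_mf a.2]
      exact congrArg some (Subtype.ext (by
        simp only [coe_sw, mul_assoc, h.mul_iv' a.2, h.iv_mul a.2, mul_one])))

theorem μ_ap (a : {a : S // a ≠ 0}) (x : Option S) : h.μ a x = h.mf a x := rfl

theorem μ_sq (a : {a : S // a ≠ 0}) : h.μ a * h.μ a = 1 := Equiv.ext (h.μ a).left_inv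

theorem μ_inv (a : {a : S // a ≠ 0}) : (h.μ a)⁻¹ = h.μ a := rfl

theorem μμμ (a b : {a : S // a ≠ 0}) :
    h.μ a * h.μ b * h.μ a = h.μ ⟨h.sw a (h.iv b), h.sw_ne a.2 (h.iv_ne b.2)⟩ := by
  ext (_ | x) : 1
  · show h.mf a (h.mf b (some 0)) = _
    rw [mf_zero]; rfl
  · show h.mf a (h.mf b (h.mf a (some x))) = h.mf (h.sw a (h.iv b)) (some x)
    by_cases e : x = 0
    · subst e; rw [mf_zero, mf_zero]; exact h.mf_zero _
    · rw [h.mf_ne a e, h.mf_mf b.2, h.mf_ne _ e]
      exact congrArg some (Subtype.ext (by simp only [coe_sw, mul_assoc]))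

theorem bruhat1 (o a : {a : S // a ≠ 0}) (ho : (o.1 : R) = 1) :
    h.μ o * T a.1 * h.μ o = T (h.iv a) * h.μ ⟨h.iv a, h.iv_ne a.2⟩ * T (h.iv a) := by
  have so : ∀ x, h.sw o x = x := fun x => Subtype.ext (by simp [ho])
  have sa : h.sw (h.iv a) a = h.iv a := Subtype.ext (by simp [h.iv_mul a.2])
  ext (_ | x) : 1
  · show h.mf o (some (0 + a)) = some (0 + h.iv a)
    rw [zero_add, zero_add, h.mf_ne _ a.2, so]
  · show h.mf o (T a.1 (h.mf o (some x))) = T (h.iv a) (h.mf (h.iv a) (some (x + h.iv a)))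
    by_cases e : x = 0
    · subst e
      rw [mf_zero, zero_add, h.mf_ne _ (h.iv_ne a.2), h.iv_iv a.2, T_some, sa, h.add_self]; rfl
    rw [h.mf_ne _ e, so, T_some]
    by_cases e' : x + h.iv a = 0
    · have : x = h.iv a := by
        have := congrArg (· + h.iv a) e'
        simpa only [add_assoc, h.add_self, add_zero, zero_add] using this
      rw [e', mf_zero, this, h.iv_iv a.2, h.add_self, mf_zero]; rfl
    · have := h.hua e a.2 e'
      rw [h.mf_ne _ (ne_of_mul a.2 this), h.mf_ne _ e', so, T_some]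
      exact congrArg some (Subtype.ext (h.iv_eq a.2 this))

theorem two_part {a b x y : ℕ} (hx : Odd x) (hy : Odd y) (e : 2 ^ a * x = 2 ^ b * y) :
    2 ^ a = 2 ^ b ∧ x = y := by
  have : a = b := by
    have := congrArg (padicValNat 2) e
    rwa [padicValNat.mul (by positivity) hx.pos.ne', padicValNat.mul (by positivity) hy.pos.ne',
      padicValNat.prime_pow, padicValNat.prime_pow,
      padicValNat.eq_zero_of_not_dvd (by rw [← even_iff_two_dvd]; simpa using hx),
      padicValNat.eq_zero_of_not_dvd (by rw [← even_iff_two_dvd]; simpa using hy)] at this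
  subst this
  exact ⟨rfl, Nat.eq_of_mul_eq_mul_left (by positivity) e⟩

theorem card_D {G Ω : Type*} [Group G] [Finite G] [MulAction G Ω] [FaithfulSMul G Ω] {a : Ω} {t : G}
    {Q : Subgroup G} (hS : IsRankOneSetup G Ω a t Q)
    (h2 : ∃ x y : G, x ≠ 1 ∧ y ≠ 1 ∧ x ≠ y ∧ x * x = 1 ∧ y * y = 1 ∧ x * y = y * x)
    (hg : ∀ L : Subgroup G, (∀ x, x * x = 1 → x ∈ L) → L = ⊤) (hQ : IsPGroup 2 Q) :
    Nat.card (stabilizer G a ⊓ stabilizer G (t • a) : Subgroup G) ≤ Nat.card Q - 1 := by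
  obtain ⟨L, hL, ho, hc⟩ := S1136.result hS h2
  obtain rfl : L = ⊤ := hg L fun x hx => by
    obtain ⟨k, hk⟩ := ho
    have := L.pow_index_mem x
    rwa [hk, pow_succ, pow_mul, pow_two, hx, one_pow, one_mul] at this
  obtain ⟨k, hk⟩ := hQ.exists_card_eq
  have h1 := (S1119.result hS).2.2.1
  have hD := hS.odd_card
  have k0 : Even (2 ^ k) := hk ▸ hS.even_card
  generalize Nat.card (stabilizer G a ⊓ stabilizer G (t • a) : Subgroup G) = d at *
  rw [hk] at h1 ⊢
  rw [mul_assoc, ← card_top] at h1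
  have od := hD.mul k0.add_one
  have ev : ∀ n m, 1 ≤ n → 1 ≤ m → Even ((2 ^ n) ^ m) := fun n m a b =>
    Nat.even_pow.2 ⟨Nat.even_pow.2 ⟨even_two, by omega⟩, by omega⟩
  have om : ∀ n m, 1 ≤ n → 1 ≤ m → Odd ((2 ^ n) ^ m - 1) := fun n m a b =>
    Nat.Even.sub_odd (Nat.one_le_pow _ _ (by positivity)) (ev n m a b) odd_one
  rcases hc with ⟨F, _, _, ⟨n, hn, hF⟩, ⟨e⟩⟩ | ⟨F, _, _, m, hm, hF, ⟨e⟩⟩ | ⟨F, _, _, n, hn, hF, ⟨e⟩⟩
  · have h3 := Class.card_PSL2 (F := F)
    rw [← Nat.card_congr e.toEquiv, h1, hF, Nat.Coprime.gcd_eq_one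
      ((Nat.coprime_two_left.2 (by simpa using om n 1 (by omega) le_rfl))), one_mul] at h3
    obtain ⟨a, b⟩ := two_part od (om n 2 (by omega) (by omega)) h3
    rw [← a, ← one_pow 2, Nat.sq_sub_sq, mul_comm] at b
    exact (Nat.eq_of_mul_eq_mul_left (by positivity) b).le
  · have h3 := (S1163.result hm hF).1
    rw [← Nat.card_congr e.toEquiv, h1, mul_assoc, ← pow_mul] at h3
    obtain ⟨a, b⟩ := two_part od (Odd.mul (by simpa using om _ 1 (by omega) le_rfl)
      (by rw [pow_mul]; exact (ev _ _ (by omega) (by omega)).add_one)) h3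
    rw [← a] at b
    rw [Nat.eq_of_mul_eq_mul_right (by positivity) b, a]
    exact Nat.sub_le_sub_right (Nat.pow_le_pow_right two_pos (by omega)) 1
  · have h3 := S0280.result hF 3 (by omega)
    rw [← Nat.card_congr e.toEquiv, h1] at h3
    simp only [Finset.prod_range_succ, Finset.range_zero, Finset.prod_empty, one_mul, Even.zero,
      if_true, Nat.not_even_one, if_false, even_two, zero_add, pow_one] at h3
    have g : Odd (Nat.gcd 3 (2 ^ n + 1)) := Odd.of_dvd_nat (by decide : Odd 3) (Nat.gcd_dvd_left _ _)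
    have h4 : 2 ^ k * (Nat.gcd 3 (2 ^ n + 1) * (d * (2 ^ k + 1))) =
        2 ^ (n * 3) * (((2 ^ n) ^ 2 - 1) * ((2 ^ n) ^ 3 + 1)) :=
      Nat.eq_of_mul_eq_mul_left (show 0 < 2 ^ n + 1 by positivity) (by
        rw [pow_mul]; norm_num at h3; linarith)
    obtain ⟨a, b⟩ := two_part (g.mul od) ((om n 2 (by omega) (by omega)).mul
      (ev _ _ (by omega) (by omega)).add_one) h4
    rw [← pow_mul 2 n 3, ← a, ← mul_assoc] at b
    have := Nat.eq_of_mul_eq_mul_right (by positivity) b
    calc d ≤ _ * d := Nat.le_mul_of_pos_left _ g.pos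
      _ ≤ _ := by
        rw [this, a, ← pow_mul]
        exact Nat.sub_le_sub_right (Nat.pow_le_pow_right two_pos (by omega)) 1

include h in
theorem comm [Finite R] (a b : S) : (a : R) * b = b * a := by
  classical
  by_contra hne
  have a0 : a ≠ 0 := by rintro rfl; simp at hne
  have b0 : b ≠ 0 := by rintro rfl; simp at hne
  let o : {a : S // a ≠ 0} := ⟨⟨1, h.one⟩, ne_of_mul a0 (one_mul 1)⟩
  have so : ∀ x, h.sw o x = x := fun x => Subtype.ext (by simp [o])
  have io : h.iv o = o := Subtype.ext (h.iv_eq a0 (one_mul 1))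
  have hd : ∀ (c : {a : S // a ≠ 0}) x, (h.μ c * h.μ o) (some x) = some (h.sw c x) := fun c x => by
    show h.mf c (h.mf o (some x)) = _
    rw [h.mf_mf o.2, io, so]
  let D : Subgroup (Equiv.Perm (Option S)) := closure (Set.range fun c => h.μ c * h.μ o)
  have oc : ∀ c, h.μ o * h.μ c = h.μ ⟨h.iv c, h.iv_ne c.2⟩ * h.μ o := fun c => by
    have := h.μμμ o c
    simp only [so] at this
    rw [← this, mul_assoc, μ_sq, mul_one]
  have hA : ∀ d ∈ D, d none = none ∧ ∃ φ : S →+ S, ∀ x, d (some x) = some (φ x) := fun d hd' => by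
    have g : ∀ c, (h.μ c * h.μ o) none = none ∧ ∃ φ : S →+ S, ∀ x, (h.μ c * h.μ o) (some x) = some (φ x) :=
      fun c => ⟨h.mf_zero _, _, hd c⟩
    have m : ∀ d e : Equiv.Perm (Option S), (d none = none ∧ ∃ φ : S →+ S, ∀ x, d (some x) = some (φ x)) →
        (e none = none ∧ ∃ φ : S →+ S, ∀ x, e (some x) = some (φ x)) →
        (d * e) none = none ∧ ∃ φ : S →+ S, ∀ x, (d * e) (some x) = some (φ x) := by
      rintro d e ⟨a1, φ, a2⟩ ⟨b1, ψ, b2⟩
      exact ⟨by simp [a1, b1], φ.comp ψ, fun x => by simp [a2, b2]⟩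
    induction hd' using closure_induction_right with
    | one => exact ⟨rfl, AddMonoidHom.id _, fun _ => rfl⟩
    | mul_right x _ y hy ih => obtain ⟨c, rfl⟩ := hy; exact m _ _ ih (g c)
    | mul_inv_cancel x _ y hy ih =>
      obtain ⟨c, rfl⟩ := hy
      refine m _ _ ih ?_
      rw [mul_inv_rev, μ_inv, μ_inv, oc]; exact g _
  have dT : ∀ d ∈ D, ∀ c, ∃ c', d * T c = T c' * d := fun d hd' c => by
    obtain ⟨a1, φ, a2⟩ := hA d hd'
    refine ⟨φ c, Equiv.ext ?_⟩
    rintro (_ | x) <;> simp [a1, a2]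
  have d0 : ∀ d ∈ D, d (some 0) = some 0 := fun d hd' => by
    obtain ⟨a1, φ, a2⟩ := hA d hd'
    rw [a2, map_zero]
  let G : Subgroup (Equiv.Perm (Option S)) := closure (Set.range T ∪ {h.μ o})
  have TG : ∀ c, T c ∈ G := fun c => subset_closure (.inl ⟨c, rfl⟩)
  have oG : h.μ o ∈ G := subset_closure (.inr rfl)
  have TT : ∀ c : S, T c * T c = 1 := fun c => by rw [T_add, h.add_self, T_zero]
  have μG : ∀ c, h.μ c ∈ G := fun c => by
    have := h.bruhat1 o ⟨h.iv c, h.iv_ne c.2⟩ rfl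
    simp only [h.iv_iv c.2] at this
    have e : h.μ c = (T c.1)⁻¹ * (h.μ o * T (h.iv c) * h.μ o) * (T c.1)⁻¹ := by rw [this]; group
    rw [e]
    exact mul_mem (mul_mem (inv_mem (TG _)) (mul_mem (mul_mem oG (TG _)) oG)) (inv_mem (TG _))
  have DG : D ≤ G := (closure_le _).2 (by rintro _ ⟨c, rfl⟩; exact mul_mem (μG c) oG)
  have br : ∀ g ∈ G, (∃ c, ∃ d ∈ D, g = T c * d) ∨ ∃ c e, ∃ d ∈ D, g = T c * d * h.μ o * T e := by
    have st : ∀ g y, y ∈ Set.range T ∪ {h.μ o} →
        ((∃ c, ∃ d ∈ D, g = T c * d) ∨ ∃ c e, ∃ d ∈ D, g = T c * d * h.μ o * T e) →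
        (∃ c, ∃ d ∈ D, g * y = T c * d) ∨ ∃ c e, ∃ d ∈ D, g * y = T c * d * h.μ o * T e := by
      rintro g y (⟨f, rfl⟩ | rfl) (⟨c, d, hd', rfl⟩ | ⟨c, e, d, hd', rfl⟩)
      · obtain ⟨c', e⟩ := dT d hd' f
        exact .inl ⟨c + c', d, hd', by rw [mul_assoc, e, ← mul_assoc, T_add]⟩
      · exact .inr ⟨c, e + f, d, hd', by rw [mul_assoc, T_add]⟩
      · exact .inr ⟨c, 0, d, hd', by rw [T_zero, mul_one]⟩
      · by_cases e0 : e = 0
        · exact .inl ⟨c, d, hd', by rw [e0, T_zero, mul_one, mul_assoc, μ_sq, mul_one]⟩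
        · obtain ⟨c', e'⟩ := dT d hd' (h.iv e)
          refine .inr ⟨c + c', h.iv e, d * (h.μ ⟨h.iv e, h.iv_ne e0⟩ * h.μ o),
            mul_mem hd' (subset_closure ⟨_, rfl⟩), ?_⟩
          calc _ = T c * d * (h.μ o * T e * h.μ o) := by group
            _ = T c * (d * T (h.iv e)) * h.μ ⟨h.iv e, h.iv_ne e0⟩ * (h.μ o * h.μ o) * T (h.iv e) := by
              rw [h.bruhat1 o ⟨e, e0⟩ rfl, μ_sq]; group
            _ = _ := by rw [e', ← T_add]; group
    intro g hg
    induction hg using closure_induction_right with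
    | one => exact .inl ⟨0, 1, one_mem _, by rw [T_zero, mul_one]⟩
    | mul_right x _ y hy ih => exact st _ _ hy ih
    | mul_inv_cancel x _ y hy ih =>
      refine st _ _ ?_ ih
      rcases hy with ⟨c, rfl⟩ | rfl
      · exact .inl ⟨c, (inv_eq_of_mul_eq_one_right (TT c)).symm⟩
      · exact .inr rfl
  have st1 : ∀ g ∈ G, g none = none → ∃ c, ∃ d ∈ D, g = T c * d := fun g hg e =>
    (br g hg).resolve_right (by
      rintro ⟨c, f, d, hd', rfl⟩
      have : d (h.μ o none) = some 0 := d0 d hd'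
      simp [this] at e)
  have st2 : ∀ g ∈ G, g none = none → g (some 0) = some 0 → g ∈ D := fun g hg e e' => by
    obtain ⟨c, d, hd', rfl⟩ := st1 g hg e
    have : c = 0 := by simpa [d0 d hd'] using e'
    rwa [this, T_zero, one_mul]
  -- `D` has odd order
  have hodd : Odd (Nat.card D) := by
    let N : Subgroup (Equiv.Perm (Option S)) := closure (Set.range h.μ)
    have mN : ∀ c, h.μ c ∈ N := fun c => subset_closure ⟨c, rfl⟩
    have cj : ∀ g ∈ N, ∀ c, ∃ c', g * h.μ c * g⁻¹ = h.μ c' := fun g hg => by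
      induction hg using closure_induction_right with
      | one => exact fun c => ⟨c, by simp⟩
      | mul_right x _ y hy ih =>
        obtain ⟨f, rfl⟩ := hy
        intro c
        obtain ⟨c', e⟩ := ih ⟨_, h.sw_ne f.2 (h.iv_ne c.2)⟩
        exact ⟨c', by rw [← e, ← μμμ, mul_inv_rev, μ_inv]; group⟩
      | mul_inv_cancel x _ y hy ih =>
        obtain ⟨f, rfl⟩ := hy
        intro c
        obtain ⟨c', e⟩ := ih ⟨_, h.sw_ne f.2 (h.iv_ne c.2)⟩
        exact ⟨c', by rw [← e, ← μμμ, mul_inv_rev, μ_inv, μ_inv]; group⟩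
    have o2 : orderOf (⟨h.μ o, mN o⟩ : N) = 2 := orderOf_eq_prime (Subtype.ext (h.μ_sq o)) fun e => by
      simpa [μ_ap, mf] using congrArg (fun g : N => g.1 none) e
    obtain ⟨P, hP⟩ := (PLoc.isPGroup_zpowers (p := 2) (k := 1) (x := (⟨h.μ o, mN o⟩ : N))
      (Subtype.ext (h.μ_sq o))).exists_le_sylow
    have hP' := hP (mem_zpowers _)
    obtain ⟨K, -, hK, hc⟩ := S0215.result P _ o2 hP' fun g hg => by
      obtain ⟨c, e⟩ := cj g g.2 o
      have e' : g * ⟨h.μ o, mN o⟩ * g⁻¹ = ⟨h.μ c, mN c⟩ := Subtype.ext e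
      rw [e'] at hg ⊢
      obtain ⟨n, hn, e2⟩ := h.odd_pow c.2
      have e3 : ∀ k x, ((h.μ c * h.μ o) ^ k) (some x) = some (h.sw ⟨_, h.pow_mem c k⟩ x) := fun k => by
        induction k with
        | zero => exact fun x => congrArg some (Subtype.ext (by simp))
        | succ k ih =>
          intro x
          rw [pow_succ', Equiv.Perm.mul_apply, ih, hd]
          refine congrArg some (Subtype.ext ?_)
          simp only [coe_sw]
          nth_rw 1 [pow_succ']
          simp only [pow_succ, mul_assoc]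
      have e4 : (⟨h.μ c, mN c⟩ * ⟨h.μ o, mN o⟩ : N) ^ n = 1 := Subtype.ext (Equiv.ext (by
        rintro (_ | x)
        · exact (hA _ (D.pow_mem (subset_closure ⟨c, rfl⟩) n)).1
        · exact (e3 n x).trans (congrArg some (Subtype.ext (by simp [e2])))))
      have := PLoc.eq_one_of_isPGroup_of_coprime P.isPGroup' (mul_mem hg hP')
        ((Nat.coprime_two_right.2 hn).coprime_dvd_left (orderOf_dvd_of_pow_eq_one e4))
      exact eq_inv_of_mul_eq_one_left this
    refine Odd.of_dvd_nat (n := Nat.card (K.map N.subtype)) (by rwa [card_subtype]) (card_dvd_of_le ?_)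
    refine (closure_le _).2 ?_
    rintro _ ⟨c, rfl⟩
    obtain ⟨s, hs⟩ := h.sq_surj c.1
    have s0 : s ≠ 0 := by rintro rfl; exact c.2 (Subtype.ext (by simpa using hs.symm))
    refine ⟨_, K.inv_mem (hc ⟨_, mN ⟨s, s0⟩⟩), ?_⟩
    have := h.μμμ ⟨s, s0⟩ o
    have e : (⟨h.sw s (h.iv o), h.sw_ne s0 (h.iv_ne o.2)⟩ : {a : S // a ≠ 0}) = c :=
      Subtype.ext (Subtype.ext (by simp only [io]; simp [o, hs]))
    rw [e] at this
    show (h.μ o * h.μ _ * (h.μ o)⁻¹ * (h.μ _)⁻¹)⁻¹ = h.μ c * h.μ o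
    rw [← this]; simp only [mul_inv_rev, μ_inv, mul_assoc]
  let TH : Multiplicative S →* G := MonoidHom.mk' (fun c => ⟨T c.toAdd, TG _⟩) fun c e =>
    Subtype.ext (T_add _ _).symm
  have TI : Function.Injective TH := fun c e x => by
    have : some (0 + c.toAdd) = some (0 + e.toAdd) := congrArg (fun g : G => g.1 (some 0)) x
    simpa using this
  have eD : stabilizer G (none : Option S) ⊓ stabilizer G ((⟨h.μ o, oG⟩ : G) • (none : Option S)) = D.subgroupOf G :=
    Subgroup.ext fun g => by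
      rw [mem_inf, mem_stabilizer_iff, mem_stabilizer_iff]
      exact ⟨fun hg => st2 g.1 g.2 hg.1 hg.2, fun hg => ⟨(hA _ hg).1, d0 _ hg⟩⟩
  have cD : Nat.card (D.subgroupOf G) = Nat.card D := Nat.card_congr (subgroupOfEquivOfLe DG).toEquiv
  have cQ : Nat.card TH.range = Nat.card S := (Nat.card_congr (MonoidHom.ofInjective TI).toEquiv).symm
  have QP : IsPGroup 2 TH.range := by
    rintro ⟨_, c, rfl⟩
    exact ⟨1, Subtype.ext (Subtype.ext (TT _))⟩
  have two : ∀ x y : Option S, x ≠ y → ∃ g : G, g • x = none ∧ g • y = some 0 := by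
    have : ∀ (g : G) (x y : Option S), x ≠ y → g • x = none → ∃ g : G, g • x = none ∧ g • y = some 0 :=
      fun g x y hxy e => by
        obtain ⟨z, hz⟩ := Option.ne_none_iff_exists'.1 (e ▸ (smul_left_cancel_iff g).not.2 hxy.symm)
        refine ⟨⟨_, TG z⟩ * g, by rw [mul_smul, e]; rfl, ?_⟩
        rw [mul_smul, hz]; exact congrArg some (h.add_self z)
    rintro (_ | x) y hxy
    · exact this 1 _ _ hxy rfl
    · refine this (⟨_, oG⟩ * ⟨_, TG x⟩) _ _ hxy ?_
      show h.mf o (some (x + x)) = none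
      rw [h.add_self, mf_zero]
  have T1 : ∀ c : S, c ≠ 0 → TH (.ofAdd c) ≠ 1 := fun c hc e => hc (TI (e.trans (map_one TH).symm))
  have hS : IsRankOneSetup G (Option S) none ⟨h.μ o, oG⟩ TH.range :=
    { two_transitive := is_two_pretransitive_iff.2 fun {x y z w} h1 h2 => by
        obtain ⟨g, a1, a2⟩ := two x y h1
        obtain ⟨k, b1, b2⟩ := two z w h2
        exact ⟨k⁻¹ * g, by rw [mul_smul, a1, ← b1, inv_smul_smul], by rw [mul_smul, a2, ← b2, inv_smul_smul]⟩
      mul_self := Subtype.ext (h.μ_sq o)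
      ne_one := fun e => by simpa [μ_ap, mf] using congrArg (fun g : G => g.1 none) e
      not_mem := fun e => by
        have : h.mf o none = none := e
        simp [mf] at this
      le := by rintro _ ⟨c, rfl⟩; rfl
      conj_mem := by
        rintro g hg _ ⟨c, rfl⟩
        obtain ⟨e, d, hd', e'⟩ := st1 g g.2 hg
        obtain ⟨c', e2⟩ := dT d hd' c.toAdd
        refine ⟨.ofAdd c', Subtype.ext ?_⟩
        show T c' = g.1 * T c.toAdd * g.1⁻¹
        rw [e', mul_assoc (T e), e2, ← mul_assoc, T_add, add_comm, ← T_add]; group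
      inf_eq_bot := by
        rw [eq_bot_iff]
        rintro _ ⟨⟨c, rfl⟩, hc⟩
        have : some (0 + c.toAdd) = some 0 := hc
        obtain rfl : c = 1 := by simpa using this
        simp
      sup_eq := by
        rw [eD]
        refine le_antisymm (sup_le (by rintro _ ⟨c, rfl⟩; rfl) fun g hg => (hA _ hg).1) fun g hg => ?_
        obtain ⟨e, d, hd', e'⟩ := st1 g g.2 hg
        rw [show g = TH (.ofAdd e) * ⟨d, DG hd'⟩ from Subtype.ext e']
        exact mul_mem_sup ⟨_, rfl⟩ hd'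
      even_card := by
        rw [even_iff_two_dvd, ← orderOf_eq_prime (x := TH (.ofAdd a)) (p := 2) (Subtype.ext (TT a)) (T1 a a0)]
        exact PLoc.orderOf_dvd_card_of_mem ⟨_, rfl⟩
      odd_card := by rwa [eD, cD] }
  have hle := card_D hS ⟨TH (.ofAdd a), TH (.ofAdd b), T1 a a0, T1 b b0, fun e => hne (by
    obtain rfl : a = b := TI e; rfl), Subtype.ext (TT a), Subtype.ext (TT b),
    by rw [← TH.map_mul, ← TH.map_mul, mul_comm]⟩ (fun L hL => by
      rw [eq_top_iff, ← map_le_map_iff_of_injective G.subtype_injective, ← MonoidHom.range_eq_map,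
        range_subtype]
      refine (closure_le _).2 ?_
      rintro _ (⟨c, rfl⟩ | rfl)
      · exact ⟨⟨_, TG c⟩, hL _ (Subtype.ext (TT c)), rfl⟩
      · exact ⟨⟨_, oG⟩, hL _ (Subtype.ext (h.μ_sq o)), rfl⟩) QP
  rw [eD, cD, cQ] at hle
  have sqi : Function.Injective fun s : S => h.sw s o :=
    Finite.injective_iff_surjective.2 fun c => (h.sq_surj c).imp fun s hs => Subtype.ext (by simp [o, hs])
  have surj : Function.Surjective fun c : {a : S // a ≠ 0} =>
      (⟨h.μ c * h.μ o, subset_closure ⟨c, rfl⟩⟩ : D) := by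
    refine (Function.Injective.bijective_of_nat_card_le (fun c e x => ?_) ?_).2
    · have := congrArg (fun g : D => g.1 (some o)) x
      simp only [hd] at this
      exact Subtype.ext (sqi (Option.some.inj this))
    · have := Fintype.ofFinite S
      simpa [Fintype.card_subtype_compl] using hle
  have inv : ∀ d ∈ D, h.μ o * d * h.μ o = d⁻¹ := fun d hd' => by
    obtain ⟨c, e⟩ := surj ⟨d, hd'⟩
    obtain rfl : h.μ c * h.μ o = d := congrArg Subtype.val e
    rw [mul_inv_rev, μ_inv, μ_inv, mul_assoc, mul_assoc, μ_sq, mul_one]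
  have cm : ∀ d ∈ D, ∀ e ∈ D, d * e = e * d := fun d h1 e h2 => by
    rw [← inv_inj, ← inv _ (mul_mem h1 h2), mul_inv_rev, ← inv _ h1, ← inv _ h2]
    calc _ = h.μ o * d * (h.μ o * h.μ o) * e * h.μ o := by rw [μ_sq]; group
      _ = _ := by group
  have I : ∀ a b x : S, (a : R) * (b * x * b) * a = b * (a * x * a) * b := fun a b x => by
    by_cases a0 : a = 0
    · simp [a0]
    by_cases b0 : b = 0
    · simp [b0]
    have := congrArg (· (some x)) (cm _ (subset_closure ⟨⟨a, a0⟩, rfl⟩) _ (subset_closure ⟨⟨b, b0⟩, rfl⟩))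
    simp only [Equiv.Perm.mul_apply (_ * _), hd] at this
    exact congrArg Subtype.val (Option.some.inj this)
  have J : ∀ a b x : S, ((a : R) * b + b * a) * x * a = a * x * (a * b + b * a) := fun a b x => by
    have h1 := I a (b + o) x
    have h2 := I a b x
    have h3 := h.two ((b : R) * a * x * a)
    have h4 := h.two ((a : R) * x * b * a)
    simp only [AddSubgroup.coe_add, o] at h1
    linear_combination (norm := noncomm_ring) h1 - h2 + h3 - h4
  let c : S := h.sw (a + b) o + h.sw a o + h.sw b o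
  have hc : (c : R) = a * b + b * a := by
    simp only [c, AddSubgroup.coe_add, coe_sw, o]
    linear_combination (norm := noncomm_ring) h.two ((a : R) * a) + h.two ((b : R) * b)
  have j1 := J a b o
  have j2 := J b a o
  have j3 := J a b b
  rw [add_comm] at j2
  simp only [← hc, o, mul_one] at j1 j2 j3
  have cc : (c : R) * c = 0 := by
    nth_rw 2 [hc]
    rw [mul_add, ← mul_assoc, ← mul_assoc, j3, j1, mul_assoc, j2, ← mul_assoc, h.two]
  have c0 : c = 0 := by
    by_contra hn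
    exact hn (Subtype.ext (by rw [← h.iv_mul' hn c, cc, mul_zero]; rfl))
  rw [c0, ZeroMemClass.coe_zero] at hc
  exact hne (by linear_combination (norm := noncomm_ring) - hc - h.two ((b : R) * a))

end JD

end Cfsg.Agent.JTI
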