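/-
Two full groups of shears generate `SL₂(q)`.
-/
import Cfsg.Agent.Blk.TI1
import Cfsg.Agent.Lie.SL2

set_option autoImplicit false

namespace Cfsg.Agent.JTI

open Subgroup Cfsg.Agent.Lie
open scoped MatrixGroups

theorem inv_closed {R : Type*} [Ring R] (two : ∀ a : R, a + a = 0) {S S' : AddSubgroup R}
    (o : (1 : R) ∈ S) (o' : (1 : R) ∈ S') (i : ∀ a ∈ S, a ≠ 0 → ∃ b ∈ S', a * b = 1 ∧ b * a = 1)
    (i' : ∀ a ∈ S', a ≠ 0 → ∃ b ∈ S, a * b = 1 ∧ b * a = 1) : S' ≤ S := by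
  intro b hb
  by_cases b0 : b = 0
  · simp [b0]
  obtain ⟨a, ha, e1, e2⟩ := i' b hb b0
  by_cases a1 : a + 1 = 0
  · have : a = 1 := by linear_combination (norm := noncomm_ring) a1 - two 1
    rw [this, mul_one] at e1
    exact e1 ▸ o
  obtain ⟨c, hc, e3, e4⟩ := i _ (add_mem ha o) a1
  have e5 : (c + 1) * (1 + b) = 1 := by
    have : 1 + b = (a + 1) * b := by rw [add_mul, e2, one_mul]
    rw [add_mul, this, ← mul_assoc, e4, ← this]
    linear_combination (norm := noncomm_ring) two b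
  have c1 : c + 1 ≠ 0 := fun e => b0 (by rw [← mul_one b, ← e5, e]; simp)
  obtain ⟨d, hd, -, e6⟩ := i' _ (add_mem hc o') c1
  have : b = d - 1 := by
    have : d = 1 + b := by
      have := congrArg (d * ·) e5
      simpa only [← mul_assoc, e6, one_mul, mul_one] using this.symm
    exact eq_sub_of_add_eq' this.symm
  exact this ▸ sub_mem hd o

theorem sl2_of_shears {A : Type*} [AddCommGroup A] [Finite A] (h2 : ∀ a : A, a + a = 0) {H : Type*}
    [Group H] (ρ : H →* Equiv.Perm (A × A)) {P P' : Subgroup H} (gen : P ⊔ P' = ⊤)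
    (hP : ∀ x ∈ P, ∃ s : AddMonoid.End A, ∀ v u, ρ x (v, u) = (v + s u, u))
    (hP' : ∀ x ∈ P', ∃ s : AddMonoid.End A, ∀ v u, ρ x (v, u) = (v, u + s v))
    (one : ∃ x ∈ P, ∀ v u, ρ x (v, u) = (v + u, u))
    (i1 : ∀ x ∈ P, (∀ u, ρ x (0, u) = (0, u)) ∨ ∃ y ∈ P', ∀ u, ∃ v, ρ x (0, u) = ρ y (v, 0))
    (i2 : ∀ y ∈ P', (∀ v, ρ y (v, 0) = (v, 0)) ∨ ∃ x ∈ P, ∀ v, ∃ u, ρ y (v, 0) = ρ x (0, u))
    {u₀ : A} (h0 : u₀ ≠ 0) (tr : ∀ v, ∃ x ∈ P, ρ x (0, u₀) = (v, u₀)) :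
    ∃ (F : Type) (_ : Field F) (_ : Fintype F), Fintype.card F = Nat.card A ∧
      Nonempty (H ⧸ ρ.ker ≃* SL(2, F)) := by
  classical
  have two : ∀ a : AddMonoid.End A, a + a = 0 := fun a => AddMonoidHom.ext fun x => h2 _
  let S : AddSubgroup (AddMonoid.End A) :=
    { carrier := {s | ∃ x ∈ P, ∀ v u, ρ x (v, u) = (v + s u, u)}
      zero_mem' := ⟨1, one_mem _, fun v u => by simp⟩
      add_mem' := by
        rintro s t ⟨x, hx, e⟩ ⟨y, hy, e'⟩
        exact ⟨y * x, mul_mem hy hx, fun v u => by simp [e, e', add_assoc]; rfl⟩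
      neg_mem' := fun {s} h => by rwa [neg_eq_of_add_eq_zero_left (two s)] }
  let S' : AddSubgroup (AddMonoid.End A) :=
    { carrier := {s | ∃ x ∈ P', ∀ v u, ρ x (v, u) = (v, u + s v)}
      zero_mem' := ⟨1, one_mem _, fun v u => by simp⟩
      add_mem' := by
        rintro s t ⟨x, hx, e⟩ ⟨y, hy, e'⟩
        exact ⟨y * x, mul_mem hy hx, fun v u => by simp [e, e', add_assoc]; rfl⟩
      neg_mem' := fun {s} h => by rwa [neg_eq_of_add_eq_zero_left (two s)] }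
  have fin : ∀ s t : AddMonoid.End A, (∀ u, t (s u) = u) → s * t = 1 ∧ t * s = 1 := fun s t h => by
    refine ⟨AddMonoidHom.ext fun v => ?_, AddMonoidHom.ext h⟩
    obtain ⟨u, rfl⟩ := Finite.surjective_of_injective (Function.LeftInverse.injective h) v
    exact congrArg s (h u)
  have j1 : ∀ a ∈ S, a ≠ 0 → ∃ b ∈ S', a * b = 1 ∧ b * a = 1 := by
    rintro s ⟨x, hx, e⟩ s0
    rcases i1 x hx with h | ⟨y, hy, h⟩
    · exact (s0 (AddMonoidHom.ext fun u => show s u = 0 by simpa [e] using h u)).elim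
    · obtain ⟨t, e'⟩ := hP' y hy
      refine ⟨t, ⟨y, hy, e'⟩, fin _ _ fun u => ?_⟩
      obtain ⟨v, hv⟩ := h u
      simp only [e, e', zero_add, Prod.mk.injEq] at hv
      rw [hv.1, ← hv.2]
  have j2 : ∀ a ∈ S', a ≠ 0 → ∃ b ∈ S, a * b = 1 ∧ b * a = 1 := by
    rintro s ⟨x, hx, e⟩ s0
    rcases i2 x hx with h | ⟨y, hy, h⟩
    · exact (s0 (AddMonoidHom.ext fun u => show s u = 0 by simpa [e] using h u)).elim
    · obtain ⟨t, e'⟩ := hP y hy
      refine ⟨t, ⟨y, hy, e'⟩, fin _ _ fun u => ?_⟩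
      obtain ⟨v, hv⟩ := h u
      simp only [e, e', zero_add, Prod.mk.injEq] at hv
      rw [hv.2, ← hv.1]
  have o : (1 : AddMonoid.End A) ∈ S := one
  have n1 : (1 : AddMonoid.End A) ≠ 0 := fun e => h0 (congrArg (fun s : AddMonoid.End A => s u₀) e)
  have o' : (1 : AddMonoid.End A) ∈ S' := by
    obtain ⟨b, hb, e, -⟩ := j1 1 o n1
    rwa [← one_mul b, e] at hb
  have eS : S' = S := le_antisymm (inv_closed two o o' j1 j2) (inv_closed two o' o j2 j1)
  have : Finite (AddMonoid.End A) := Finite.of_injective _ (DFunLike.coe_injective (F := A →+ A))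
  have hJ : JD S := ⟨two, o, eS ▸ j1⟩
  let K : Subring (AddMonoid.End A) :=
    { S with
      one_mem' := o
      mul_mem' := fun {a b} ha hb => by
        obtain ⟨s, hs⟩ := hJ.sq_surj ⟨a, ha⟩
        have := hJ.sand s ⟨b, hb⟩
        rwa [mul_assoc, ← hJ.comm s ⟨b, hb⟩, ← mul_assoc, hs] at this }
  have hK : IsField K := ⟨⟨1, 0, fun e => n1 (congrArg Subtype.val e)⟩,
    fun a b => Subtype.ext (hJ.comm ⟨a, a.2⟩ ⟨b, b.2⟩), fun {a} ha => by
      obtain ⟨b, hb, e, -⟩ := hJ.inv a a.2 fun e => ha (Subtype.ext e)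
      exact ⟨⟨b, hb⟩, Subtype.ext e⟩⟩
  letI := hK.toField
  obtain ⟨F, _, ⟨φ⟩⟩ : ∃ (F : Type) (_ : Field F), Nonempty (F ≃+* K) :=
    ⟨Fin (Nat.card K), (Finite.equivFin K).symm.field, ⟨(Finite.equivFin K).symm.ringEquiv⟩⟩
  have : Finite F := Finite.of_equiv _ φ.symm.toEquiv
  letI : Module F A := Module.compHom A (K.subtype.comp φ.toRingHom)
  have sm : ∀ (a : F) (u : A), a • u = (φ a).1 u := fun _ _ => rfl
  letI : MulAction SL(2, F) (A × A) :=
    { smul := fun g p => (g 0 0 • p.1 + g 0 1 • p.2, g 1 0 • p.1 + g 1 1 • p.2)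
      one_smul := fun p => by
        show ((1 : SL(2, F)) 0 0 • p.1 + (1 : SL(2, F)) 0 1 • p.2,
          (1 : SL(2, F)) 1 0 • p.1 + (1 : SL(2, F)) 1 1 • p.2) = p
        simp
      mul_smul := fun g k p => by
        show ((g * k) 0 0 • p.1 + (g * k) 0 1 • p.2, (g * k) 1 0 • p.1 + (g * k) 1 1 • p.2) =
          (g 0 0 • (k 0 0 • p.1 + k 0 1 • p.2) + g 0 1 • (k 1 0 • p.1 + k 1 1 • p.2),
            g 1 0 • (k 0 0 • p.1 + k 0 1 • p.2) + g 1 1 • (k 1 0 • p.1 + k 1 1 • p.2))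
        simp only [Matrix.SpecialLinearGroup.coe_mul, Matrix.mul_apply, Fin.sum_univ_two, add_smul,
          mul_smul, smul_add, Prod.mk.injEq]
        constructor <;> abel }
  let ψ := MulAction.toPermHom SL(2, F) (A × A)
  have hψ : ∀ g v u, ψ g (v, u) = (g 0 0 • v + g 0 1 • u, g 1 0 • v + g 1 1 • u) := fun _ _ _ => rfl
  have inj : Function.Injective fun a : F => a • u₀ := smul_left_injective F h0
  have ψi : Function.Injective ψ := (injective_iff_map_eq_one _).2 fun g hg => by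
    have a := hψ g u₀ 0
    have b := hψ g 0 u₀
    rw [hg] at a b
    simp only [Equiv.Perm.one_apply, smul_zero, add_zero, zero_add, Prod.mk.injEq] at a b
    ext i j
    fin_cases i <;> fin_cases j <;> apply inj <;> simp [← a.1, ← a.2, ← b.1, ← b.2]
  have U : ∀ (x : H) (s : K), (∀ v u, ρ x (v, u) = (v + s.1 u, u)) → ρ x = ψ (sU (φ.symm s)) :=
    fun x s e => Equiv.ext fun p => by rw [e, hψ]; simp [sm (φ.symm s)]
  have L : ∀ (x : H) (s : K), (∀ v u, ρ x (v, u) = (v, u + s.1 v)) → ρ x = ψ (sL (φ.symm s)) :=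
    fun x s e => Equiv.ext fun p => by rw [e, hψ]; simp [sm (φ.symm s), add_comm]
  have hr : ρ.range = ψ.range := by
    refine le_antisymm ?_ ?_
    · rw [MonoidHom.range_eq_map, ← gen, map_le_iff_le_comap]
      refine sup_le (fun x hx => ?_) fun x hx => ?_
      · obtain ⟨s, e⟩ := hP x hx
        exact ⟨_, (U x ⟨s, x, hx, e⟩ e).symm⟩
      · obtain ⟨s, e⟩ := hP' x hx
        exact ⟨_, (L x ⟨s, show s ∈ S from eS ▸ ⟨x, hx, e⟩⟩ e).symm⟩
    · rintro _ ⟨g, rfl⟩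
      refine sl2_le (S := (ρ.range.comap ψ).toSubmonoid) (fun t => ?_) (fun t => ?_) g
      · obtain ⟨x, -, e⟩ : (φ t).1 ∈ S := (φ t).2
        exact ⟨x, by rw [U x _ e, φ.symm_apply_apply]⟩
      · obtain ⟨x, -, e⟩ : (φ t).1 ∈ S' := eS ▸ (φ t).2
        exact ⟨x, by rw [L x _ e, φ.symm_apply_apply]⟩
  letI := Fintype.ofFinite F
  refine ⟨F, inferInstance, inferInstance, ?_, ⟨(QuotientGroup.quotientKerEquivRange ρ).trans
    ((MulEquiv.subgroupCongr hr).trans (MonoidHom.ofInjective ψi).symm)⟩⟩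
  rw [← Nat.card_eq_fintype_card]
  refine Nat.card_eq_of_bijective _ ⟨inj, fun v => ?_⟩
  obtain ⟨x, hx, e⟩ := tr v
  obtain ⟨s, e'⟩ := hP x hx
  refine ⟨φ.symm ⟨s, x, hx, e'⟩, ?_⟩
  rw [e', zero_add] at e
  simpa [sm] using congrArg Prod.fst e

end Cfsg.Agent.JTI
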