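/-
Large elementary abelian TI-subgroups.
-/
import Cfsg.Agent.Blk.TI2
import Cfsg.Agent.Core.Frattini

set_option autoImplicit false
set_option linter.unusedSectionVars false

namespace Cfsg.Agent.JTI

open Subgroup Cfsg.Agent.PLoc

variable {G : Type*} [Group G] [Finite G]

local notation "𝑵" V => normalizer ((V : Subgroup G) : Set G)
local notation "𝑪" V => centralizer ((V : Subgroup G) : Set G)

theorem exists_fix {P K V : Subgroup G} (hP : IsPGroup 2 P) (hK : IsPGroup 2 K) (PK : P ≤ 𝑵 K)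
    (PV : P ≤ 𝑵 V) (KV : K ≤ 𝑵 V) (h : ¬ K ≤ V) :
    ∃ x ∈ K, x ∉ V ∧ ∀ y ∈ P, y * x * y⁻¹ * x⁻¹ ∈ V := by
  have hT := hP.to_sup_of_normal_right' hK PK
  have := hT.isNilpotent
  have := normal_subgroupOf_of_le_normalizer (sup_le PV KV)
  have := normal_subgroupOf_of_le_normalizer (sup_le PK le_normalizer)
  obtain ⟨x, hx, hx', e⟩ := Core.exists_mem_center_mod (N := V.subgroupOf (P ⊔ K))
    (C := K.subgroupOf (P ⊔ K)) fun e => h fun x hx => e (x := ⟨x, mem_sup_right hx⟩) hx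
  rw [commutator_comm] at e
  exact ⟨x, hx, hx', fun y hy =>
    e (commutator_mem_commutator (mem_top ⟨y, mem_sup_left hy⟩) (mem_zpowers x))⟩

theorem cm_of {x y : G} (h : x * y * x⁻¹ * y⁻¹ = 1) : x * y = y * x := by
  rwa [mul_inv_eq_one, mul_inv_eq_iff_eq_mul] at h

theorem cm_mem_l {K : Subgroup G} {x y : G} (hx : x ∈ K) (hy : y ∈ 𝑵 K) : x * y * x⁻¹ * y⁻¹ ∈ K := by
  simpa only [mul_assoc] using mul_mem hx (conj_mem_of_mem_normalizer hy (inv_mem hx))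

theorem cm_mem_r {K : Subgroup G} {x y : G} (hx : x ∈ 𝑵 K) (hy : y ∈ K) : x * y * x⁻¹ * y⁻¹ ∈ K :=
  mul_mem (conj_mem_of_mem_normalizer hx hy) (inv_mem hy)

/-- the hypotheses -/
structure TS (V Q : Subgroup G) : Prop where
  sq : ∀ v ∈ V, v * v = 1
  cm : ∀ v ∈ V, ∀ w ∈ V, v * w = w * v
  Qp : IsPGroup 2 Q
  QM : Q ≤ 𝑵 V
  MQ : (𝑵 V) ≤ 𝑵 Q
  mxQ : ∀ K : Subgroup G, IsPGroup 2 K → K ≤ (𝑵 V) → (𝑵 V) ≤ (𝑵 K) → K ≤ Q
  cent : ∀ x ∈ 𝑵 V, (∀ q ∈ Q, q * x = x * q) → x ∈ Q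
  mx : ∀ A : Subgroup G, V ≤ A → A ≤ (𝑵 V) → IsMulCommutative A → (𝑵 V) ≤ (𝑵 A) → A = V
  ti : ∀ x : G, cj x V = V ∨ cj x V ⊓ V = ⊥

/-- `C_Q(V)` -/
def PP (V Q : Subgroup G) : Subgroup G := Q ⊓ 𝑪 V

variable {V Q : Subgroup G}

theorem TS.conj (h : TS V Q) (g : G) : TS (cj g V) (cj g Q) where
  sq v hv := by
    have := h.sq _ (mem_cj.1 hv)
    rw [← conj_eq_one_iff (a := g⁻¹), ← this]; group
  cm := isMulCommutative_iff_forall.1 (isMulCommutative_cj g (isMulCommutative_of_forall h.cm))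
  Qp := isPGroup_cj g h.Qp
  QM := by rw [← cj_normalizer]; exact cj_mono g h.QM
  MQ := by rw [← cj_normalizer, ← cj_normalizer]; exact cj_mono g h.MQ
  mxQ K a b c := by
    rw [← cj_normalizer] at b c
    rw [le_cj_iff] at b ⊢
    exact h.mxQ _ (isPGroup_cj _ a) b (by rwa [← cj_normalizer, ← cj_le_iff])
  cent x hx e := by
    rw [← cj_normalizer, mem_cj] at hx
    refine mem_cj.2 (h.cent _ hx fun q hq => ?_)
    have := e _ (conj_mem_cj.2 hq)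
    calc _ = g⁻¹ * (g * q * g⁻¹ * x) * g := by group
      _ = _ := by rw [this]; group
  mx A a b c d := by
    rw [← cj_normalizer] at b d
    rw [← h.mx (cj g⁻¹ A) (cj_le_iff.1 a) (le_cj_iff.1 b) (isMulCommutative_cj _ c)
      (by rwa [← cj_normalizer, ← cj_le_iff]), cj_cj_inv]
  ti x := by
    rw [← cj_mul, show x * g = g * (g⁻¹ * x * g) by group, cj_mul, ← cj_inf]
    exact (h.ti _).imp (congrArg _) fun e => by rw [e, cj_bot]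

namespace TS

variable (h : TS V Q)
include h

theorem ti2 (a b : G) {w : G} (w1 : w ≠ 1) (ha : w ∈ cj a V) (hb : w ∈ cj b V) : cj a V = cj b V := by
  have := (h.conj b).ti (a * b⁻¹)
  rw [← cj_mul, inv_mul_cancel_right] at this
  exact this.resolve_right fun e => w1 (mem_bot.1 (e ▸ mem_inf.2 ⟨ha, hb⟩))

theorem ti' {v x : G} (hv : v ∈ V) (v1 : v ≠ 1) (hx : x * v * x⁻¹ ∈ V) : x ∈ 𝑵 V := by
  rw [← cj_eq_self_iff]
  have := h.ti2 x 1 (w := x * v * x⁻¹) (by simpa using v1) (conj_mem_cj.2 hv) (by rwa [cj_one])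
  rwa [cj_one] at this

theorem ti_c {v x : G} (hv : v ∈ V) (v1 : v ≠ 1) (hx : x * v = v * x) : x ∈ 𝑵 V :=
  h.ti' hv v1 (by rwa [hx, mul_inv_cancel_right])

theorem Vp : IsPGroup 2 V := isPGroup_iff_forall.2 fun x hx => ⟨1, by simpa [pow_two] using h.sq x hx⟩

theorem VP : V ≤ PP V Q :=
  le_inf (h.mxQ V h.Vp le_normalizer le_rfl) fun v hv w hw => h.cm w hw v hv

theorem PM : PP V Q ≤ 𝑵 V := inf_le_left.trans h.QM

theorem MP : (𝑵 V) ≤ 𝑵 (PP V Q) := le_normalizer_inf h.MQ (normalizer_le_normalizer_centralizer V)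

theorem Pp : IsPGroup 2 (PP V Q) := h.Qp.to_inf_left

theorem ab_le {A : Subgroup G} (a : A ≤ PP V Q) (b : ∀ x ∈ A, ∀ y ∈ A, x * y = y * x)
    (c : (𝑵 V) ≤ 𝑵 A) : A ≤ V :=
  le_sup_left.trans (h.mx (A ⊔ V) le_sup_right (sup_le (a.trans h.PM) le_normalizer)
    (isMulCommutative_sup (isMulCommutative_of_forall b) (isMulCommutative_of_forall h.cm)
      (a.trans inf_le_right)) (le_normalizer_sup c le_rfl)).le

theorem zc {K : Subgroup G} (a : K ≤ PP V Q) (c : (𝑵 V) ≤ 𝑵 K) : K ⊓ (𝑪 K) ≤ V :=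
  h.ab_le (inf_le_left.trans a) (fun x hx y hy => hy.2 x hx.1)
    (le_normalizer_inf c (le_normalizer_centralizer c))

theorem sq_mem {x : G} (hx : x ∈ PP V Q) : x * x ∈ V := by
  let Z : Subgroup G :=
    { carrier := {z | z ∈ PP V Q ∧ ∀ y ∈ PP V Q, z * y * z⁻¹ * y⁻¹ ∈ V}
      one_mem' := ⟨one_mem _, fun y _ => by simp⟩
      mul_mem' := fun {a b} ha hb => ⟨mul_mem ha.1 hb.1, fun y hy => by
        convert mul_mem (conj_mem_of_mem_normalizer (h.PM ha.1) (hb.2 y hy)) (ha.2 y hy) using 1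
        group⟩
      inv_mem' := fun {a} ha => ⟨inv_mem ha.1, fun y hy => by
        convert conj_mem_of_mem_normalizer' (h.PM ha.1) (inv_mem (ha.2 y hy)) using 1
        group⟩ }
  have hZ : (𝑵 V) ≤ 𝑵 Z := fun m hm => mem_normalizer_of_conj_mem fun z hz =>
    ⟨conj_mem_of_mem_normalizer (h.MP hm) hz.1, fun y hy => by
      convert conj_mem_of_mem_normalizer hm (hz.2 _ (conj_mem_of_mem_normalizer' (h.MP hm) hy)) using 1
      group⟩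
  have hC : (𝑵 V) ≤ 𝑵 (PP V Q ⊓ 𝑪 Z) := le_normalizer_inf h.MP (le_normalizer_centralizer hZ)
  have : PP V Q ⊓ (𝑪 Z) ≤ V := by
    by_contra hn
    obtain ⟨z, hz, z1, e⟩ := exists_fix h.Pp h.Pp.to_inf_left (h.PM.trans hC) h.PM
      (inf_le_left.trans h.PM) hn
    exact z1 (h.zc (K := Z) (fun _ a => a.1) hZ ⟨⟨hz.1, fun y hy => by
      convert inv_mem (e y hy) using 1; group⟩, hz.2⟩)
  refine this ⟨mul_mem hx hx, fun z hz => ?_⟩
  have e1 := hz.2 x hx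
  have e2 := hx.2 _ e1
  have e3 := h.sq _ e1
  generalize hv : z * x * z⁻¹ * x⁻¹ = v at e1 e2 e3
  have e4 : z * x = v * x * z := by rw [← hv]; group
  calc z * (x * x) = v * x * (z * x) := by rw [← mul_assoc z, ← mul_assoc _ z, ← e4]
    _ = v * (x * v) * x * z := by rw [e4]; simp only [mul_assoc]
    _ = _ := by rw [← e2, ← mul_assoc, e3]; group

theorem cm_mem {x y : G} (hx : x ∈ PP V Q) (hy : y ∈ PP V Q) : x * y * x⁻¹ * y⁻¹ ∈ V := by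
  convert mul_mem (mul_mem (h.sq_mem hx) (h.sq_mem (mul_mem (inv_mem hx) hy))) (h.sq_mem (inv_mem hy))
    using 1
  group

theorem cent_P {x : G} (hx : ∀ y ∈ PP V Q, y * x = x * y) (v1 : V ≠ ⊥) : x ∈ V := by
  obtain ⟨⟨v, hv⟩, v1⟩ := ne_bot_iff_exists_ne_one.1 v1
  have hn : (𝑵 V) ≤ 𝑵 ((𝑵 V) ⊓ 𝑪 (PP V Q)) := le_normalizer_inf le_normalizer (le_normalizer_centralizer h.MP)
  have hC : (𝑵 V) ⊓ (𝑪 (PP V Q)) ≤ Q := h.mxQ _ (isPGroup_iff_forall.2 fun c hc => by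
    have : c * c ∈ Q := h.cent _ (mul_mem hc.1 hc.1) fun q hq => by
      have e0 := cm_mem_r (h.MQ hc.1) hq
      have e0' := cm_mem_l hc (hn (h.QM hq))
      have e1 : c * q * c⁻¹ * q⁻¹ ∈ V :=
        h.zc le_rfl h.MP ⟨⟨e0, fun v hv => e0'.2 v (h.VP hv)⟩, e0'.2⟩
      have e2 := hc.2 _ (h.VP e1)
      have e3 := h.sq _ e1
      generalize hv : c * q * c⁻¹ * q⁻¹ = v at e1 e2 e3
      have e4 : c * q = v * q * c := by rw [← hv]; group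
      calc _ = v * (v * q * c) * c := by rw [← mul_assoc, ← mul_assoc, ← mul_assoc, e3]; group
        _ = v * c * (q * c) := by rw [← e4]; group
        _ = c * (v * q * c) := by rw [e2]; group
        _ = _ := by rw [← e4, mul_assoc]
    obtain ⟨k, hk⟩ := isPGroup_iff_forall.1 h.Qp _ this
    exact ⟨k + 1, by rw [pow_succ', pow_mul, pow_two, hk]⟩) inf_le_left hn
  exact h.zc le_rfl h.MP ⟨⟨hC ⟨h.ti_c hv (fun e => v1 (Subtype.ext e)) (hx v (h.VP hv)).symm, hx⟩,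
    fun w hw => hx w (h.VP hw)⟩, hx⟩

end TS

/-- a conjugate inside `Q` -/
structure Pr (V Q U Q' : Subgroup G) (g : G) : Prop where
  h : TS V Q
  eU : cj g V = U
  eQ : cj g Q = Q'
  ne : U ≠ V
  le : U ≤ Q

namespace Pr

variable {U Q' : Subgroup G} {g : G} (r : Pr V Q U Q' g)
include r

theorem h' : TS U Q' := r.eU ▸ r.eQ ▸ r.h.conj g

theorem disj {w : G} (a : w ∈ U) (b : w ∈ V) : w = 1 := by
  by_contra hn
  exact r.ne (r.eU ▸ (r.h.ti2 g 1 hn (r.eU ▸ a) (by rwa [cj_one])).trans (cj_one V))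

theorem card : Nat.card U = Nat.card V := r.eU ▸ card_cj g V

theorem V1 : V ≠ ⊥ := fun e => r.ne (by rw [← r.eU, e, cj_bot])

theorem exU : ∃ u ∈ U, u ≠ 1 := by
  obtain ⟨⟨v, hv⟩, v1⟩ := ne_bot_iff_exists_ne_one.1 (show U ≠ ⊥ from r.eU ▸ cj_eq_bot_iff.not.2 r.V1)
  exact ⟨v, hv, fun e => v1 (Subtype.ext e)⟩

theorem surj {x : G} (hx : ∀ u ∈ U, x * u * x⁻¹ * u⁻¹ ∈ V) (hn : x ∉ 𝑪 U) {v : G} (hv : v ∈ V) :
    ∃ u ∈ U, x * u * x⁻¹ * u⁻¹ = v := by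
  obtain ⟨u, e⟩ := (Function.Injective.bijective_of_nat_card_le
    (f := fun u : U => (⟨_, hx u u.2⟩ : V)) (fun a b e => by
      by_contra hab
      have e' : x * a * x⁻¹ * (a : G)⁻¹ = x * b * x⁻¹ * (b : G)⁻¹ := congrArg Subtype.val e
      have : x ∈ 𝑵 U := r.h'.ti_c (v := (b : G)⁻¹ * a) (mul_mem (inv_mem b.2) a.2)
        (fun e => hab (Subtype.ext (inv_mul_eq_one.1 e).symm)) (by
          calc _ = x * (b : G)⁻¹ * x⁻¹ * (x * a * x⁻¹ * (a : G)⁻¹) * a * x := by group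
            _ = _ := by rw [e']; group)
      exact hn fun u hu => (cm_of (r.disj (cm_mem_r this hu) (hx u hu))).symm) r.card.ge).2 ⟨v, hv⟩
  exact ⟨u, u.2, congrArg Subtype.val e⟩

theorem UP : U ≤ PP V Q := fun u hu => ⟨r.le hu, fun v hv => by
  by_contra hn
  obtain ⟨u', -, e⟩ := r.surj (x := v) (fun u hu => cm_mem_l hv (r.h.QM (r.le hu)))
    (fun e => hn (e u hu).symm) hv
  have : v = 1 := by
    rw [← inv_eq_one, ← conj_eq_one_iff (a := u'), ← mul_left_cancel_iff (a := v), mul_one]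
    simpa only [mul_assoc] using e
  exact hn (by simp [this])⟩

theorem surjP {x : G} (hx : x ∈ PP V Q) (hn : x ∉ 𝑪 U) {v : G} (hv : v ∈ V) :
    ∃ u ∈ U, x * u * x⁻¹ * u⁻¹ = v :=
  r.surj (fun _ hu => r.h.cm_mem hx (r.UP hu)) hn hv

theorem centN {x : G} (hx : x ∈ PP V Q) (hn : x ∈ 𝑵 U) : x ∈ 𝑪 U :=
  fun _ hu => (cm_of (r.disj (cm_mem_r hn hu) (r.h.cm_mem hx (r.UP hu)))).symm

theorem key {z : G} (hz : z ∈ PP V Q) (hv : ∃ v ∈ V, ∀ y ∈ PP V Q, z * y * z⁻¹ * y⁻¹ ≠ v)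
    (hc : ∀ y ∈ PP V Q, y ∈ (𝑪 U) → y * z = z * y) : z ∈ V := by
  let Z := closure {z | z ∈ PP V Q ∧ ∃ v ∈ V, ∀ y ∈ PP V Q, z * y * z⁻¹ * y⁻¹ ≠ v}
  have h1 : Z ≤ PP V Q ⊓ 𝑪 U := (closure_le _).2 fun y ⟨a, v, hv, b⟩ => ⟨a, by
    by_contra hn
    obtain ⟨u, hu, e⟩ := r.surjP a hn hv
    exact b u (r.UP hu) e⟩
  refine r.h.zc (K := Z) (h1.trans inf_le_left) (fun m hm => mem_normalizer_of_cj_le ?_)
    ⟨subset_closure ⟨hz, hv⟩, fun y hy => hc y (h1 hy).1 (h1 hy).2⟩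
  rw [cj_le_iff]
  refine (closure_le _).2 fun y ⟨a, v, hv, b⟩ => mem_cj.2 (subset_closure
    ⟨conj_mem_of_mem_normalizer' (r.h.MP (inv_mem hm)) a, _, conj_mem_of_mem_normalizer hm hv, fun t ht e =>
      b _ (conj_mem_of_mem_normalizer' (r.h.MP hm) ht) ?_⟩)
  calc _ = m⁻¹ * (m⁻¹⁻¹ * y * m⁻¹ * t * (m⁻¹⁻¹ * y * m⁻¹)⁻¹ * t⁻¹) * m := by group
    _ = _ := by rw [e]; group

theorem trans {u v : G} (hu : u ∈ U) (u1 : u ≠ 1) (hv : v ∈ V) :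
    ∃ x ∈ PP V Q, x * u * x⁻¹ = v * u := by
  by_contra hn
  refine u1 (r.disj hu (r.key (r.UP hu) ⟨v⁻¹, inv_mem hv, fun y hy e => hn ⟨y, hy, ?_⟩⟩
    fun y _ hy => (hy u hu).symm))
  rw [← inv_inv v, ← e]; group

theorem memW {w : G} : w ∈ V ⊔ U ↔ ∃ v ∈ V, ∃ u ∈ U, v * u = w :=
  mem_sup_of_le_normalizer_left (r.UP.trans r.h.PM)

theorem PW : PP V Q ≤ 𝑵 (V ⊔ U) := fun x hx => mem_normalizer_of_cj_le (by
  rw [cj_sup]
  refine sup_le ((cj_eq_self_iff.2 (r.h.PM hx)).le.trans le_sup_left) (cj_le_iff'.2 fun u hu => ?_)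
  exact r.memW.2 ⟨_, r.h.cm_mem hx (r.UP hu), u, hu, by group⟩)

theorem part {w : G} (hw : w ∈ V ⊔ U) : w ∈ V ∨ ∃ x ∈ PP V Q, w ∈ cj x U := by
  obtain ⟨v, hv, u, hu, rfl⟩ := r.memW.1 hw
  by_cases u1 : u = 1
  · exact .inl (by simpa [u1])
  · obtain ⟨x, hx, e⟩ := r.trans hu u1 hv
    exact .inr ⟨x, hx, e ▸ conj_mem_cj.2 hu⟩

theorem exx : ∃ x ∈ PP V Q, x ∉ 𝑪 U := by
  obtain ⟨u, hu, u1⟩ := r.exU
  obtain ⟨⟨v, hv⟩, v1⟩ := ne_bot_iff_exists_ne_one.1 r.V1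
  obtain ⟨x, hx, e⟩ := r.trans hu u1 hv
  refine ⟨x, hx, fun hc => v1 (Subtype.ext ?_)⟩
  rw [← hc u hu, mul_inv_cancel_right] at e
  simpa using e

theorem zW {y : G} (hy : y ∈ PP V Q) (hc : ∀ b ∈ PP V Q, b ∈ (𝑪 U) → b * y = y * b) : y ∈ V ⊔ U := by
  obtain ⟨x, hx, hn⟩ := r.exx
  obtain ⟨u, hu, e⟩ := r.surjP hx hn (inv_mem (r.h.cm_mem hx hy))
  have tx : x * (y * u) = y * u * x := by
    have e2 := hy.2 _ (r.h.cm_mem hx (r.UP hu))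
    calc _ = x * y * x⁻¹ * y⁻¹ * (y * (x * u * x⁻¹ * u⁻¹)) * u * x := by group
      _ = _ := by rw [← e2, e]; group
  have tc : ∀ b ∈ PP V Q, b ∈ (𝑪 U) → b * (y * u) = y * u * b := fun b a1 a2 => by
    rw [← mul_assoc, hc b a1 a2, mul_assoc, ← a2 u hu, mul_assoc]
  have ht := mul_mem hy (r.UP hu)
  suffices y * u ∈ V from r.memW.2 ⟨_, this, _, inv_mem hu, by group⟩
  generalize y * u = t at *
  refine r.key ht ?_ tc
  by_contra hs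
  push Not at hs
  obtain ⟨u₀, hu₀, u1⟩ := r.exU
  choose! p p1 p2 using fun v (hv : v ∈ V) => r.trans hu₀ u1 hv
  have dep : ∀ a ∈ PP V Q, t * a * t⁻¹ * a⁻¹ = t * p (a * u₀ * a⁻¹ * u₀⁻¹) * t⁻¹ * (p (a * u₀ * a⁻¹ * u₀⁻¹))⁻¹ :=
    fun a ha => by
      have hv := r.h.cm_mem ha (r.UP hu₀)
      have e1 := p1 _ hv
      have e2 := p2 _ hv
      generalize p _ = b at e1 e2 ⊢
      have e3 := mul_mem (inv_mem e1) ha
      have := tc _ e3 (r.centN e3 (r.h'.ti_c hu₀ u1 (by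
        calc _ = b⁻¹ * (a * u₀ * a⁻¹ * u₀⁻¹ * u₀) * a := by group
          _ = _ := by rw [← e2]; group)))
      calc _ = t * b * t⁻¹ * (t * (b⁻¹ * a)) * t⁻¹ * a⁻¹ := by group
        _ = _ := by rw [← this]; group
  have inj : Function.Injective fun v : V => (⟨_, r.h.cm_mem ht (p1 v v.2)⟩ : V) :=
    Finite.injective_iff_surjective.2 fun v => by
      obtain ⟨a, ha, e⟩ := hs v v.2
      exact ⟨⟨_, r.h.cm_mem ha (r.UP hu₀)⟩, Subtype.ext ((dep a ha).symm.trans e)⟩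
  have := inj (a₁ := ⟨_, r.h.cm_mem hx (r.UP hu₀)⟩) (a₂ := ⟨_, r.h.cm_mem (one_mem _) (r.UP hu₀)⟩)
    (Subtype.ext (by
      refine (dep x hx).symm.trans (Eq.trans ?_ (dep 1 (one_mem _)))
      rw [← tx]; group))
  exact hn (r.centN hx (r.h'.ti_c hu₀ u1 (cm_of (by simpa using congrArg Subtype.val this))))

theorem cardW : Nat.card (V ⊔ U : Subgroup G) = Nat.card V * Nat.card V := by
  rw [sup_comm, card_sup_of_disjoint (r.UP.trans r.h.PM) (eq_bot_iff.2 fun w hw => r.disj hw.1 hw.2),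
    r.card]

theorem ab_card (h0 : PP V Q ⊓ (𝑪 U) ≤ V ⊔ U) {A : Subgroup G} (hA : A ≤ PP V Q)
    (hc : ∀ a ∈ A, ∀ b ∈ A, a * b = b * a) : Nat.card A ≤ Nat.card V * Nat.card V := by
  by_cases h1 : A ≤ 𝑪 U
  · rw [← r.cardW]; exact card_le_of_le ((le_inf hA h1).trans h0)
  obtain ⟨a, ha, hn⟩ := SetLike.not_le_iff_exists.1 h1
  obtain ⟨u₀, hu₀, u1⟩ := r.exU
  let f : A →* V := MonoidHom.mk' (fun b => ⟨_, r.h.cm_mem (hA b.2) (r.UP hu₀)⟩) fun b c =>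
    Subtype.ext (by
      have e := (hA b.2).2 _ (r.h.cm_mem (hA c.2) (r.UP hu₀))
      show (b : G) * c * u₀ * ((b : G) * c)⁻¹ * u₀⁻¹ =
        b * u₀ * (b : G)⁻¹ * u₀⁻¹ * (c * u₀ * (c : G)⁻¹ * u₀⁻¹)
      rw [r.h.cm _ (r.h.cm_mem (hA b.2) (r.UP hu₀)) _ (r.h.cm_mem (hA c.2) (r.UP hu₀))]
      calc _ = b * (c * u₀ * (c : G)⁻¹ * u₀⁻¹) * u₀ * (b : G)⁻¹ * u₀⁻¹ := by group
        _ = _ := by rw [← e]; group)
  rw [← f.ker.card_mul_index, index_ker]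
  refine Nat.mul_le_mul ?_ (card_le_card_group _)
  rw [← card_subtype]
  refine card_le_of_le ?_
  rintro _ ⟨b, hb, rfl⟩
  obtain ⟨v, hv, u, hu, e⟩ := r.memW.1 (h0 ⟨hA b.2, r.centN (hA b.2)
    (r.h'.ti_c hu₀ u1 (cm_of (congrArg Subtype.val (MonoidHom.mem_ker.1 hb))))⟩)
  by_cases u0 : u = 1
  · exact show (b : G) ∈ V by rwa [← e, u0, mul_one]
  · refine (hn (r.centN (hA ha) (r.h'.ti_c hu u0 ?_))).elim
    have e1 := hc a ha b b.2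
    rw [← e, ← mul_assoc, ← (hA ha).2 v hv, mul_assoc, mul_assoc] at e1
    exact mul_left_cancel e1

theorem eP : cj g (PP V Q) = PP U Q' := by rw [PP, cj_inf, cj_centralizer, r.eU, r.eQ]; rfl

theorem le' : V ≤ Q' := by
  by_contra hn
  have VC : V ≤ 𝑪 U := fun v hv u hu => ((r.UP hu).2 v hv).symm
  have CN : (𝑪 U) ≤ 𝑵 U := centralizer_le_normalizer _
  have a2 : ∀ y ∈ 𝑪 U, ∀ v ∈ V, v ≠ 1 → y * v * y⁻¹ ∈ V ⊔ U → y ∈ 𝑵 V := fun y hy v hv v1 hw => by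
    rcases r.part hw with e | ⟨x, hx, e⟩
    · exact r.h.ti' hv v1 e
    refine (hn fun v' hv' => ?_).elim
    rw [← r.eU, ← cj_mul] at e
    have e1 := r.h.ti2 y _ (by simpa using v1) (conj_mem_cj.2 hv) e
    have yU := cj_eq_self_iff.2 (CN hy)
    have e2 : cj y Q = cj x Q' := by
      have : (x * g)⁻¹ * y ∈ 𝑵 V := by rw [← cj_eq_self_iff, cj_mul, e1, cj_inv_cj]
      rw [← r.eQ, ← cj_mul]
      conv_rhs => rw [← cj_eq_self_iff.2 (r.h.MQ this), ← cj_mul, mul_inv_cancel_left]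
    have e3 : cj x⁻¹ U ≤ Q' := by rw [← le_cj_iff, ← e2, ← yU]; exact cj_mono y r.le
    obtain ⟨u, hu, rfl⟩ := r.surjP (inv_mem hx) (fun hc => r.ne (by
      rw [cj_mul, r.eU, cj_eq_self_iff.2 (CN ((inv_mem_iff (x := x)).1 hc))] at e1
      exact cj_injective y (yU.trans e1.symm))) hv'
    exact mul_mem (e3 (conj_mem_cj.2 hu)) (inv_mem ((r.h'.VP hu).1))
  have a3 : ¬ PP U Q' ≤ PP U Q' ⊓ 𝑵 V := fun e => by
    obtain ⟨v, hv, v1, e'⟩ := exists_fix (V := ⊥) r.h'.Pp r.h.Vp (e.trans inf_le_right)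
      le_normalizer_of_normal le_normalizer_of_normal (mt le_bot_iff.1 r.V1)
    exact v1 (r.disj (r.h'.cent_P (fun y hy => cm_of (e' y hy)) (r.eU ▸ cj_eq_bot_iff.not.2 r.V1)) hv)
  have a4 : ∀ v ∈ V, v ∈ Q' → v = 1 := fun v hv hq => by
    by_contra v1
    refine a3 fun y hy => ⟨hy, a2 y hy.2 v hv v1 ?_⟩
    have := mul_mem (mem_sup_right (S := V) (r.h'.cm_mem hy ⟨hq, VC hv⟩)) (mem_sup_left (T := U) hv)
    simpa using this
  have a5 : ∀ c ∈ PP U Q' ⊓ 𝑵 V, ∀ v ∈ V, c * v = v * c := fun c hc v hv =>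
    cm_of (a4 _ (cm_mem_r hc.2 hv) (cm_mem_l hc.1.1 (r.h'.MQ (CN (VC hv)))))
  have a6 : ∀ c ∈ PP U Q' ⊓ 𝑵 V, ∀ a ∈ PP V Q ⊓ 𝑪 U, c * a * c⁻¹ * a⁻¹ ∈ U := fun c hc a ha => by
    have h1 := cm_mem_r (r.h.MP hc.2) ha.1
    have h2 := cm_mem_l hc.1 (r.h'.MP (CN ha.2))
    obtain ⟨v, hv, u, hu, e⟩ := r.memW.1 (r.zW h1 fun b b1 b2 =>
      cm_of (a4 _ (r.h.cm_mem b1 h1) (cm_mem_r (r.h'.MQ (CN b2)) h2.1)))
    have : v = 1 := a4 v hv (by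
      rw [eq_mul_inv_of_mul_eq e]; exact mul_mem h2.1 (inv_mem (r.h'.VP hu).1))
    rwa [← e, this, one_mul]
  have UC : U ≤ PP U Q' ⊓ 𝑵 V := le_inf r.h'.VP (r.UP.trans r.h.PM)
  have n1 : PP V Q ⊓ (𝑪 U) ≤ 𝑵 (PP U Q') := inf_le_right.trans (CN.trans r.h'.MP)
  obtain ⟨y, hy, hy', e⟩ := exists_fix (P := PP V Q ⊓ 𝑪 U) r.h.Pp.to_inf_left r.h'.Pp n1
    (le_normalizer_inf n1 ((inf_le_left.trans r.h.PM).trans le_normalizer))
    (fun y hy => mem_normalizer_of_conj_mem fun c hc => by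
      simpa using mul_mem (UC (r.h'.cm_mem hy hc.1)) hc) a3
  have yV : y ∉ 𝑵 V := fun e => hy' ⟨hy, e⟩
  have e' : ∀ a ∈ PP V Q ⊓ 𝑪 U, y * a * y⁻¹ * a⁻¹ ∈ PP U Q' ⊓ 𝑵 V := fun a ha => by
    convert inv_mem (e a ha) using 1; group
  have a7 : ∀ a ∈ PP V Q ⊓ 𝑪 U, ∀ b ∈ PP V Q ⊓ 𝑪 U, a * b = b * a := fun a ha b hb => by
    by_contra hab
    have hv := r.h.cm_mem ha.1 hb.1
    refine yV (a2 y hy.2 _ hv (fun e => hab (cm_of e)) ?_)
    have hc := e' a ha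
    have hd := e' b hb
    have k1 := a6 _ hd a ha
    have k2 := a6 _ hc b hb
    have k3 := r.h'.cm_mem hc.1 hd.1
    have k4 := a5 _ (mul_mem hc hd) _ hv
    have ea : y * a * y⁻¹ = y * a * y⁻¹ * a⁻¹ * a := by group
    have eb : y * b * y⁻¹ = y * b * y⁻¹ * b⁻¹ * b := by group
    rw [show y * (a * b * a⁻¹ * b⁻¹) * y⁻¹ =
      y * a * y⁻¹ * (y * b * y⁻¹) * (y * b * y⁻¹ * (y * a * y⁻¹))⁻¹ by group, ea, eb]
    generalize y * a * y⁻¹ * a⁻¹ = c at *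
    generalize y * b * y⁻¹ * b⁻¹ = d at *
    have j1 := hc.1.2 _ (inv_mem k1)
    have j2 := hd.1.2 _ k2
    generalize h1 : d * a * d⁻¹ * a⁻¹ = u₁ at *
    generalize h2 : c * b * c⁻¹ * b⁻¹ = u₂ at *
    generalize h3 : c * d * c⁻¹ * d⁻¹ = u₃ at *
    generalize h4 : a * b * a⁻¹ * b⁻¹ = v at *
    have f1 : c * a * (d * b) = u₁⁻¹ * (c * d * v) * (b * a) := by
      rw [← h4]
      calc _ = c * u₁⁻¹ * d * a * b := by rw [← h1]; group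
        _ = _ := by rw [← j1]; group
    have f2 : u₂ * (d * b * (c * a)) = u₃⁻¹ * (c * d) * (b * a) := by
      calc _ = d * u₂ * b * c * a := by rw [← j2]; group
        _ = _ := by rw [← h2, ← h3]; group
    rw [show c * a * (d * b) * (d * b * (c * a))⁻¹ = c * a * (d * b) * (u₂ * (d * b * (c * a)))⁻¹ * u₂ by group,
      f1, f2, k4, show u₁⁻¹ * (v * (c * d)) * (b * a) * (u₃⁻¹ * (c * d) * (b * a))⁻¹ * u₂ =
        u₁⁻¹ * v * u₃ * u₂ by group]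
    exact mul_mem (mul_mem (mul_mem (inv_mem (mem_sup_right k1)) (mem_sup_left hv)) (mem_sup_right k3))
      (mem_sup_right k2)
  have h0 : PP V Q ⊓ (𝑪 U) ≤ V ⊔ U := fun a ha => r.zW ha.1 fun b b1 b2 => a7 b ⟨b1, b2⟩ a ha
  have hβ : ∀ v ∈ V, y * v * y⁻¹ * v⁻¹ ∈ PP U Q' ⊓ 𝑵 V := fun v hv => e' v ⟨r.h.VP hv, VC hv⟩
  have c1 : ∀ v ∈ V, ∀ w ∈ V, y * v * y⁻¹ * w = w * (y * v * y⁻¹) := fun v hv w hw => by
    calc _ = y * v * y⁻¹ * v⁻¹ * (v * w) := by group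
      _ = _ := by rw [r.h.cm v hv w hw, ← mul_assoc, a5 _ (hβ v hv) w hw]; group
  let X : Set G := {t | (∃ v ∈ V, ∃ u ∈ U, y * v * y⁻¹ * v⁻¹ * u = t) ∨ t = y}
  have XP : closure X ≤ PP U Q' := (closure_le _).2 (by
    rintro _ (⟨v, hv, u, hu, rfl⟩ | rfl)
    exacts [mul_mem (hβ v hv).1 (r.h'.VP hu), hy])
  have c2 : ∀ v ∈ V, ∀ u ∈ U, y * (y * v * y⁻¹ * v⁻¹ * u) = y * v * y⁻¹ * v⁻¹ * u * y := fun v hv u hu => by
    have k1 := VC hv _ (r.h'.sq_mem hy)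
    have k2 := c1 _ (inv_mem hv) v hv
    have k3 := c1 v hv _ (inv_mem hv)
    have k4 := inv_eq_of_mul_eq_one_right (r.h.sq v hv)
    rw [mul_assoc _ u y, hy.2 u hu, k4]
    calc _ = y * y * v * y⁻¹ * y⁻¹ * (y * v * y⁻¹) * (y * u) := by group
      _ = _ := by rw [k1, c1 v hv v hv]; group
  have c3 : ∀ v ∈ V, ∀ w ∈ V, Commute (y * v * y⁻¹ * v⁻¹) (y * w * y⁻¹ * w⁻¹) := fun v hv w hw => by
    refine Commute.mul_right ?_ (a5 _ (hβ v hv) _ (inv_mem hw))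
    refine Commute.mul_left ?_ (c1 w hw _ (inv_mem hv)).symm
    show _ * _ = _ * _
    calc _ = y * (v * w) * y⁻¹ := by group
      _ = _ := by rw [r.h.cm v hv w hw]; group
  have Xc : IsMulCommutative (closure X) := Subgroup.isMulCommutative_closure (by
    rintro _ (⟨v, hv, u, hu, rfl⟩ | rfl) _ (⟨w, hw, u', hu', rfl⟩ | rfl)
    · exact Commute.mul_left ((c3 v hv w hw).mul_right ((hβ v hv).1.2 u' hu').symm)
        (Commute.mul_right ((hβ w hw).1.2 u hu) (r.h'.cm u hu u' hu'))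
    · exact (c2 v hv u hu).symm
    · exact c2 w hw u' hu'
    · rfl)
  have hle := r.ab_card h0 (A := cj g⁻¹ (closure X)) (by rw [← le_cj_iff, r.eP]; exact XP)
    (isMulCommutative_iff_forall.1 (isMulCommutative_cj _ Xc))
  rw [card_cj] at hle
  let f : Option (V × U) → closure X := fun o => o.elim ⟨y, subset_closure (.inr rfl)⟩ fun p =>
    ⟨_, subset_closure (.inl ⟨p.1, p.1.2, p.2, p.2.2, rfl⟩)⟩
  have fi : Function.Injective f := by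
    have ny : ∀ v ∈ V, ∀ u ∈ U, y * v * y⁻¹ * v⁻¹ * u ≠ y := fun v hv u hu e =>
      hy' (e ▸ mul_mem (hβ v hv) (UC hu))
    rintro (_ | ⟨⟨v, hv⟩, ⟨u, hu⟩⟩) (_ | ⟨⟨w, hw⟩, ⟨u', hu'⟩⟩) e
    · rfl
    · exact (ny w hw u' hu' (congrArg Subtype.val e).symm).elim
    · exact (ny v hv u hu (congrArg Subtype.val e)).elim
    have e1 : y * v * y⁻¹ * v⁻¹ * u = y * w * y⁻¹ * w⁻¹ * u' := congrArg Subtype.val e
    obtain rfl : v = w := by
      by_contra hvw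
      refine yV (a2 y hy.2 _ (mul_mem (inv_mem hw) hv) (fun e => hvw (inv_mul_eq_one.1 e).symm) ?_)
      rw [show y * (w⁻¹ * v) * y⁻¹ = y * w⁻¹ * y⁻¹ * (y * v * y⁻¹ * v⁻¹ * u) * u⁻¹ * v by group, e1,
        show y * w⁻¹ * y⁻¹ * (y * w * y⁻¹ * w⁻¹ * u') * u⁻¹ * v = w⁻¹ * u' * u⁻¹ * v by group]
      exact mul_mem (mul_mem (mul_mem (inv_mem (mem_sup_left hw)) (mem_sup_right hu'))
        (inv_mem (mem_sup_right hu))) (mem_sup_left hv)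
    obtain rfl : u = u' := mul_left_cancel e1
    rfl
  have := Nat.card_le_card_of_injective f fi
  rw [Finite.card_option, Nat.card_prod, r.card] at this
  omega

theorem symm : Pr U Q' V Q g⁻¹ :=
  ⟨r.h', by rw [← r.eU, cj_inv_cj], by rw [← r.eQ, cj_inv_cj], r.ne.symm, r.le'⟩

theorem PQ : PP V Q = Q := by
  obtain ⟨v, hv, v1, e⟩ := exists_fix (V := ⊥) r.h.Qp r.h.Vp r.h.QM le_normalizer_of_normal le_normalizer_of_normal
    (mt le_bot_iff.1 r.V1)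
  refine le_antisymm inf_le_left fun q hq => ⟨hq, fun w hw => ?_⟩
  by_cases w1 : w = 1
  · simp [w1]
  obtain ⟨u, hu, u1⟩ := r.exU
  obtain ⟨y, -, e1⟩ := r.symm.trans hv v1 hu
  obtain ⟨y', -, e2⟩ := r.symm.trans hw w1 hu
  obtain ⟨x, hx, e3⟩ := r.trans hu u1 (mul_mem hw (inv_mem hv))
  have e4 : y'⁻¹ * x * y * v * (y'⁻¹ * x * y)⁻¹ = w := by
    calc _ = y'⁻¹ * (x * (y * v * y⁻¹) * x⁻¹) * y' := by group
      _ = y'⁻¹ * (x * u * x⁻¹ * v) * y' := by rw [e1, ← mul_assoc x, mul_assoc _ x⁻¹, ← (inv_mem hx).2 v hv]; group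
      _ = y'⁻¹ * (u * w) * y' := by
        rw [e3, mul_assoc _ u, ← (r.UP hu).2 v hv, ← (r.UP hu).2 w hw]; group
      _ = w := by rw [← e2]; group
  have hm := r.h.ti' hv (fun e => v1 (mem_bot.2 e)) (e4 ▸ hw)
  generalize y'⁻¹ * x * y = m at e4 hm
  have := cm_of (mem_bot.1 (e _ (conj_mem_of_mem_normalizer' (r.h.MQ hm) hq)))
  rw [← e4]
  calc _ = m * (v * (m⁻¹ * q * m)) * m⁻¹ := by group
    _ = _ := by rw [← this]; group

theorem shear {x : G} (hx : x ∈ PP V Q) : x ∈ (𝑪 U) ∨ ∃ y ∈ PP U Q', cj x U = cj y V := by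
  obtain ⟨u, hu, u1⟩ := r.exU
  have hw : x * u * x⁻¹ ∈ U ⊔ V := by
    rw [sup_comm]; exact conj_mem_of_mem_normalizer (r.PW hx) (mem_sup_right hu)
  rcases r.symm.part hw with e | ⟨y, hy, e⟩
  · exact .inl (r.centN hx (r.h'.ti' hu u1 e))
  · refine .inr ⟨y, hy, ?_⟩
    rw [← r.eU, ← cj_mul]
    exact r.h.ti2 _ _ (w := x * u * x⁻¹) (by simpa using u1) (by rw [cj_mul, r.eU]; exact conj_mem_cj.2 hu) e

theorem cm_hom {x : G} (hx : x ∈ PP V Q) {a b : G} (ha : a ∈ U) (hb : b ∈ U) :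
    x * (a * b) * x⁻¹ * (a * b)⁻¹ = x * a * x⁻¹ * a⁻¹ * (x * b * x⁻¹ * b⁻¹) := by
  have e := (r.UP ha).2 _ (r.h.cm_mem hx (r.UP hb))
  calc _ = x * a * x⁻¹ * (x * b * x⁻¹ * b⁻¹ * a) * a⁻¹ * a⁻¹ := by group
    _ = x * a * x⁻¹ * a⁻¹ * (a * a) * (x * b * x⁻¹ * b⁻¹ * a⁻¹ * a⁻¹) * (a * a) * a⁻¹ * a⁻¹ := by
      rw [e]; group
    _ = _ := by
      rw [r.h'.sq a ha, mul_assoc _ a⁻¹ a⁻¹, ← mul_inv_rev, r.h'.sq a ha, mul_assoc _ a⁻¹ a⁻¹,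
        ← mul_inv_rev, r.h'.sq a ha]; group

/-- the commutator map -/
def cmh {x : G} (hx : x ∈ PP V Q) : U →* V :=
  MonoidHom.mk' (fun u => ⟨_, r.h.cm_mem hx (r.UP u.2)⟩) fun a b => Subtype.ext (r.cm_hom hx a.2 b.2)

theorem coe_cmh {x : G} (hx : x ∈ PP V Q) (u : U) : (r.cmh hx u : G) = x * u * x⁻¹ * (u : G)⁻¹ := rfl

theorem HW : PP V Q ⊔ PP U Q' ≤ 𝑵 (V ⊔ U) := sup_le r.PW (sup_comm U V ▸ r.symm.PW)

open scoped IsMulCommutative in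
theorem sl2 (hN : ((𝑪 (V ⊔ U)).subgroupOf (PP V Q ⊔ PP U Q')).Normal) :
    ∃ (F : Type) (_ : Field F) (_ : Fintype F), Fintype.card F = Nat.card V ∧
      Nonempty (↥(PP V Q ⊔ PP U Q') ⧸ (𝑪 (V ⊔ U)).subgroupOf (PP V Q ⊔ PP U Q') ≃*
        Matrix.SpecialLinearGroup (Fin 2) F) := by
  have := isMulCommutative_of_forall r.h'.cm
  obtain ⟨x₀, hx₀, hn⟩ := r.exx
  have bij : Function.Bijective (r.cmh hx₀) := by
    refine (Function.Surjective.bijective_of_nat_card_le (fun v => ?_) r.card.le)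
    obtain ⟨u, hu, e⟩ := r.surjP hx₀ hn v.2
    exact ⟨⟨u, hu⟩, Subtype.ext e⟩
  let θ := MulEquiv.ofBijective _ bij
  have VU : ∀ (v : V) (u : U), (u : G) * v = v * u := fun v u => ((r.UP u.2).2 v v.2).symm
  let E : Additive U × Additive U ≃ (V ⊔ U : Subgroup G) := Equiv.ofBijective
    (fun p => ⟨θ p.1.toMul * p.2.toMul, mul_mem_sup (Subtype.prop _) (Subtype.prop _)⟩) ⟨by
      rintro ⟨a, b⟩ ⟨c, d⟩ e
      have e1 : (θ a.toMul : G) * b.toMul = θ c.toMul * d.toMul := congrArg Subtype.val e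
      have e2 : (θ c.toMul : G)⁻¹ * θ a.toMul = d.toMul * (b.toMul : G)⁻¹ := by
        rw [inv_mul_eq_iff_eq_mul, ← mul_assoc, ← e1, mul_inv_cancel_right]
      have e3 := r.disj (e2 ▸ mul_mem (Subtype.prop _) (inv_mem (Subtype.prop _)))
        (mul_mem (inv_mem (θ c.toMul).2) (θ a.toMul).2)
      rw [e3] at e2
      exact Prod.ext (θ.injective (Subtype.ext (inv_mul_eq_one.1 e3).symm))
        (Subtype.ext (mul_inv_eq_one.1 e2.symm).symm), fun w => by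
      obtain ⟨v, hv, u, hu, e⟩ := r.memW.1 w.2
      exact ⟨(.ofMul (θ.symm ⟨v, hv⟩), .ofMul ⟨u, hu⟩), Subtype.ext (by simpa using e)⟩⟩
  have hE : ∀ a b, (E (a, b) : G) = θ a.toMul * b.toMul := fun _ _ => rfl
  let ρ : ↥(PP V Q ⊔ PP U Q') →* Equiv.Perm (Additive U × Additive U) :=
    (E.symm.permCongrHom.toMonoidHom.comp (MulAut.toPerm _)).comp
      ((normalizerMonoidHom (V ⊔ U)).comp (inclusion r.HW))
  have hρ : ∀ x p p', ρ x p = p' ↔ x * (E p : G) * (x : G)⁻¹ = E p' := fun x p p' =>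
    E.symm_apply_eq.trans Subtype.ext_iff
  have hρ2 : ∀ (x y : ↥(PP V Q ⊔ PP U Q')) p p', x * (E p : G) * (x : G)⁻¹ = y * (E p' : G) * (y : G)⁻¹ → ρ x p = ρ y p' :=
    fun x y p p' e => (hρ _ _ _).2 (e.trans ((hρ _ _ _).1 rfl))
  have ker : ρ.ker = (𝑪 (V ⊔ U)).subgroupOf (PP V Q ⊔ PP U Q') := by
    ext x
    rw [MonoidHom.mem_ker, Equiv.ext_iff, mem_subgroupOf, mem_centralizer_iff]
    refine ⟨fun e w hw => ?_, fun e p => (hρ _ _ _).2 (by rw [← e _ (E p).2]; simp)⟩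
    obtain ⟨p, hp⟩ := E.surjective ⟨w, hw⟩
    have := (hρ _ _ _).1 (e p)
    rw [Equiv.Perm.one_apply, hp] at this
    exact (mul_inv_eq_iff_eq_mul.1 this).symm
  have hU : ∀ x (hx : x.1 ∈ PP V Q) v u, ρ x (v, u) = (v + .ofMul (θ.symm (r.cmh hx u.toMul)), u) :=
    fun x hx v u => (hρ _ _ _).2 (by
      rw [hE, hE, toMul_add, map_mul, toMul_ofMul, θ.apply_symm_apply, coe_mul, coe_cmh, ← mul_assoc x.1,
        ← hx.2 _ (Subtype.prop _)]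
      group)
  obtain ⟨u₀, hu₀, u1⟩ := r.exU
  obtain ⟨F, _, _, a, ⟨e⟩⟩ := sl2_of_shears (A := Additive U) (fun a => Subtype.ext (r.h'.sq _ a.toMul.2)) ρ
    (P := (PP V Q).subgroupOf _) (P' := (PP U Q').subgroupOf _)
    (by rw [← subgroupOf_sup le_sup_left le_sup_right, subgroupOf_self])
    (fun x hx => ⟨MonoidHom.toAdditive (θ.symm.toMonoidHom.comp (r.cmh hx)), hU x hx⟩)
    (fun x (hx : x.1 ∈ PP U Q') => ⟨MonoidHom.toAdditive ((r.symm.cmh hx).comp θ.toMonoidHom), fun v u => (hρ _ _ _).2 (by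
      show _ = (θ v.toMul : G) * (u.toMul * r.symm.cmh hx (θ v.toMul))
      rw [← coe_mul, mul_comm u.toMul, coe_mul, ← mul_assoc, ← VU, hE, coe_cmh, mul_assoc x.1,
        mul_assoc (θ _ : G), (inv_mem hx).2 _ (Subtype.prop _)]
      group)⟩)
    ⟨⟨x₀, mem_sup_left hx₀⟩, hx₀, fun v u => by rw [hU _ hx₀]; exact congrArg (v + ·, u) (θ.symm_apply_apply _)⟩
    (fun x (hx : x.1 ∈ PP V Q) => (r.shear hx).imp (fun hc u => (hρ _ _ _).2 (by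
        rw [hE, toMul_zero, map_one, coe_one, one_mul, ← hc _ (Subtype.prop _), mul_inv_cancel_right]))
      fun ⟨y, hy, e⟩ => ⟨⟨y, mem_sup_right hy⟩, hy, fun u => by
        obtain ⟨v, hv, e'⟩ : x * (u.toMul : G) * (x : G)⁻¹ ∈ cj y V := e ▸ conj_mem_cj.2 u.toMul.2
        exact ⟨.ofMul (θ.symm ⟨v, hv⟩), hρ2 _ _ _ _ (by simpa [hE] using e'.symm)⟩⟩)
    (fun x (hx : x.1 ∈ PP U Q') => (r.symm.shear hx).imp (fun hc u => (hρ _ _ _).2 (by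
        rw [hE, toMul_zero, coe_one, mul_one, ← hc _ (Subtype.prop _), mul_inv_cancel_right]))
      fun ⟨y, hy, e⟩ => ⟨⟨y, mem_sup_left hy⟩, hy, fun u => by
        obtain ⟨v, hv, e'⟩ : x * (θ u.toMul : G) * (x : G)⁻¹ ∈ cj y U := e ▸ conj_mem_cj.2 (θ u.toMul).2
        exact ⟨.ofMul ⟨v, hv⟩, hρ2 _ _ _ _ (by simpa [hE] using e'.symm)⟩⟩)
    (u₀ := .ofMul ⟨u₀, hu₀⟩) (fun e => u1 (congrArg Subtype.val e)) fun v => by
      obtain ⟨x, hx, e⟩ := r.trans hu₀ u1 (θ v.toMul).2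
      exact ⟨⟨x, mem_sup_left hx⟩, hx, (hρ _ _ _).2 (by simpa [hE] using e)⟩
  exact ⟨F, _, _, a.trans r.card, ⟨(QuotientGroup.quotientMulEquivOfEq ker.symm).trans e⟩⟩

theorem main : V ≤ Q' ∧
    (∀ w ∈ V ⊔ U, w ≠ 1 → ∃! X : Subgroup G, (∃ x : G, X = cj x V) ∧ X ≤ V ⊔ U ∧ w ∈ X) ∧
    (frattini Q).map Q.subtype = V ∧ (center Q).map Q.subtype = V ∧ (commutator Q).map Q.subtype = V := by
  have e := r.PQ
  have h3 : (commutator Q).map Q.subtype = V := by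
    rw [map_subtype_commutator]
    refine le_antisymm (commutator_le.2 fun a ha b hb => r.h.cm_mem (e.ge ha) (e.ge hb)) fun v hv => ?_
    obtain ⟨x, hx, hn⟩ := r.exx
    obtain ⟨u, hu, rfl⟩ := r.surjP hx hn hv
    exact commutator_mem_commutator hx.1 (r.le hu)
  refine ⟨r.le', fun w hw w1 => existsUnique_of_exists_of_unique ?_ ?_, le_antisymm ?_ ?_,
    le_antisymm ?_ fun v hv => ?_, h3⟩
  · rcases r.part hw with a | ⟨x, hx, a⟩
    · exact ⟨V, ⟨1, (cj_one V).symm⟩, le_sup_left, a⟩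
    · exact ⟨_, ⟨x * g, by rw [cj_mul, r.eU]⟩, cj_le_of_mem_normalizer le_sup_right (r.PW hx), a⟩
  · rintro _ _ ⟨⟨a, rfl⟩, -, ha⟩ ⟨⟨b, rfl⟩, -, hb⟩
    exact r.h.ti2 a b w1 ha hb
  · have := normal_subgroupOf_of_le_normalizer r.h.QM
    rw [map_le_iff_le_comap]
    exact Core.frattini_le_of_elementary_quotient Nat.prime_two (V.subgroupOf Q)
      (map_le_iff_le_comap.1 h3.le) fun x => by
        rw [pow_two]; exact r.h.sq_mem (e.ge x.2)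
  · rw [← h3]
    have := r.h.Qp.isNilpotent
    exact map_mono Core.commutator_le_frattini_of_isNilpotent
  · rintro _ ⟨x, hx, rfl⟩
    exact r.h.zc le_rfl r.h.MP ⟨e.ge x.2, fun y hy =>
      congrArg Subtype.val (mem_center_iff.1 hx ⟨y, hy.1⟩)⟩
  · exact ⟨⟨v, (r.h.VP hv).1⟩, mem_center_iff.2 fun y => Subtype.ext ((e.ge y.2).2 v hv).symm, rfl⟩

end Pr

end Cfsg.Agent.JTI
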