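import Cfsg.Agent.Blk.More
import Cfsg.Agent.Inv.Small
import Cfsg.Agent.Inv.Two
import Cfsg.Agent.Core.CoprimeAb
import Cfsg.Agent.S0947
import Cfsg.Agent.S0944

/-! Principal 2-blocks with small Sylow subgroups. -/

set_option autoImplicit false
set_option linter.unusedSectionVars false

namespace Cfsg.Agent.Blk

open Cfsg Cfsg.Agent.Char Cfsg.Agent.PLoc MonoidAlgebra Subgroup
open scoped ComplexConjugate

variable {G : Type*} [Group G] [Finite G]

theorem odd_iff_not_dvd {n : ℕ} : Odd n ↔ ¬ 2 ∣ n := Nat.two_dvd_ne_zero.trans Nat.odd_iff.symm |>.symm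

theorem mem_cent_of_commute {P : Sylow 2 G} (hP : IsMulCommutative P)
    (hV : IsKleinFour (Core.powKer (P : Subgroup G) hP 2)) {g z : G} (hg : g ∈ normalizer (P : Set G))
    (hz : z ∈ (P : Subgroup G)) (hz1 : z ≠ 1) (h : g * z = z * g) : g ∈ centralizer (P : Set G) := by
  obtain ⟨a, ha, b, hb, rfl, -, ⟨k, hk⟩, h2⟩ := exists_p_part 2 g
  have hN : zpowers (a * b) ≤ normalizer (P : Set G) := (zpowers_le).mpr hg
  have h1 : a ∈ (P : Subgroup G) := (isSylowOf_top P).le_of_le_normalizer (isPGroup_zpowers hk) le_top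
    ((zpowers_le).mpr (hN ha)) (mem_zpowers a)
  refine mul_mem (le_centralizer (P : Subgroup G) h1) ?_
  obtain ⟨n, hn⟩ := IsPGroup_orderOf P.isPGroup' hz
  have h3 : Even (orderOf z) := by
    rcases n with _ | n
    · exact absurd (orderOf_eq_one_iff.mp hn) hz1
    · rw [hn]; exact even_two.pow_of_ne_zero n.succ_ne_zero
  have h4 := Inv.orderOf_pow_half h3
  have h5 : Commute b (z ^ (orderOf z / 2)) := by
    obtain ⟨m, hm⟩ := mem_zpowers_iff.mp hb
    exact (hm ▸ Commute.zpow_left h m : Commute b z).pow_right _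
  have h6 : b ∈ centralizer (Core.powKer (P : Subgroup G) hP 2 : Set G) :=
    Inv.mem_centralizer_of_sq_of_odd (Nat.coprime_two_right.mp h2)
      (Inv.kf_sq_mem_centralizer hV (a := z ^ (orderOf z / 2))
        (Core.mem_powKer.mpr ⟨pow_mem hz _, by rw [sq, Inv.sq_of_ord2 h4]⟩) (Inv.ne_one_of_ord2 h4)
        (Core.normalizer_le_normalizer_powKer _ hP 2 (hN hb)) (mul_inv_eq_iff_eq_mul.mpr h5))
  refine Core.le_centralizer_of_prime_order hP ((zpowers_le).mpr (hN hb))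
    (coprime_card_of_isPGroup P.isPGroup' (by rwa [Nat.card_zpowers])) (fun v hv h7 => ?_)
    (mem_zpowers b)
  obtain ⟨m, hm⟩ := IsPGroup_orderOf P.isPGroup' hv
  have h8 : orderOf v = 2 := (Nat.prime_dvd_prime_iff_eq h7 Nat.prime_two).mp
    (h7.dvd_of_dvd_pow hm.dvd)
  rw [centralizer_zpowers]
  exact mem_centralizer_singleton_iff.mpr
    (h6 v (Core.mem_powKer.mpr ⟨hv, h8 ▸ pow_orderOf_eq_one _⟩))

theorem npc_cent_of_comm {P : Sylow 2 G} (hP : IsMulCommutative P)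
    (hV : IsKleinFour (Core.powKer (P : Subgroup G) hP 2)) {z : G} (hz : z ∈ (P : Subgroup G)) (hz1 : z ≠ 1) :
    NPC 2 (centralizer {z}) :=
  (isSylowOf_sylow P (le_cent_iff.mpr (le_centralizer (P : Subgroup G) hz))).npc_of_burnside
    fun _ hg => mem_cent_of_commute hP hV hg.2 hz hz1 (mem_centralizer_singleton_iff.mp hg.1)

theorem homocyclic {P : Subgroup G} {m : ℕ} (hm : 1 ≤ m)
    (e : P ≃* Multiplicative (ZMod (2 ^ m) × ZMod (2 ^ m))) :
    ∃ hP : IsMulCommutative P, IsKleinFour (Core.powKer P hP 2) := by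
  have hP : IsMulCommutative P := ⟨⟨fun a b => e.injective (by rw [map_mul, map_mul, mul_comm])⟩⟩
  refine ⟨hP, Inv.kf_of_card ?_ fun x hx => by rw [← sq]; exact (Core.mem_powKer.mp hx).2⟩
  have h1 := IsCyclic.card_powMonoidHom_ker (Multiplicative (ZMod (2 ^ m))) 2
  rw [Nat.card_congr Multiplicative.toAdd, Nat.card_zmod, Nat.gcd_eq_right (dvd_pow_self 2 (by omega))] at h1
  rw [show 4 = 2 * 2 from rfl]
  conv_rhs => rw [← h1, ← Nat.card_prod]
  refine Nat.card_congr ⟨fun x => (⟨Multiplicative.ofAdd (e ⟨x.1, x.2.1⟩).toAdd.1, ?_⟩,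
      ⟨Multiplicative.ofAdd (e ⟨x.1, x.2.1⟩).toAdd.2, ?_⟩),
    fun y => ⟨e.symm (Multiplicative.ofAdd (y.1.1.toAdd, y.2.1.toAdd)), Core.mem_powKer.mpr
      ⟨SetLike.coe_mem _, ?_⟩⟩, fun x => by simp, fun y => by simp⟩
  · have : e ⟨x.1, x.2.1⟩ ^ 2 = 1 := by rw [← map_pow, map_eq_one_iff _ e.injective]; exact Subtype.ext x.2.2
    exact congrArg (fun v => Multiplicative.ofAdd v.toAdd.1) this
  · have : e ⟨x.1, x.2.1⟩ ^ 2 = 1 := by rw [← map_pow, map_eq_one_iff _ e.injective]; exact Subtype.ext x.2.2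
    exact congrArg (fun v => Multiplicative.ofAdd v.toAdd.2) this
  · rw [← Subgroup.coe_pow, ← map_pow, OneMemClass.coe_eq_one, map_eq_one_iff _ e.symm.injective]
    exact congrArg Multiplicative.ofAdd (Prod.ext (congrArg Multiplicative.toAdd y.1.2)
      (congrArg Multiplicative.toAdd y.2.2))

theorem relIndex_cent_le {P : Sylow 2 G} (hP : IsMulCommutative P)
    (hV : IsKleinFour (Core.powKer (P : Subgroup G) hP 2)) {z : G}
    (hz : z ∈ Core.powKer (P : Subgroup G) hP 2) (hz1 : z ≠ 1) :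
    (centralizer (P : Set G)).relIndex (normalizer (P : Set G)) =
      Nat.card {x : G // ∃ n ∈ normalizer (P : Set G), n * z * n⁻¹ = x} := by
  set z' : normalizer (P : Set G) := ⟨z, le_normalizer hz.1⟩
  have : (centralizer (P : Set G)).subgroupOf (normalizer (P : Set G)) = centralizer {z'} := by
    ext g
    rw [mem_subgroupOf, mem_centralizer_singleton_iff, Subtype.ext_iff]
    exact ⟨fun h => (h z hz.1).symm, mem_cent_of_commute hP hV g.2 hz.1 hz1⟩
  rw [relIndex, this, ← card_isConj]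
  refine Nat.card_congr (Equiv.ofBijective (fun x => ⟨x.1, ?_⟩) ⟨fun x y h => ?_, ?_⟩)
  · obtain ⟨n, hn⟩ := isConj_iff.mp x.2
    exact ⟨n, n.2, congrArg Subtype.val hn⟩
  · exact Subtype.ext (Subtype.ext (Subtype.mk.inj h))
  · rintro ⟨_, n, hn, rfl⟩
    exact ⟨⟨⟨n, hn⟩ * z' * ⟨n, hn⟩⁻¹, isConj_conj _ _⟩, rfl⟩

theorem index_pPrimeCore_of_npc {p : ℕ} [Fact p.Prime] {H : Subgroup G} (h : NPC p H) :
    ∃ k, (pPrimeCore p H).index = p ^ k := by
  rw [← pPrimeCoreOf_subgroupOf, ← h.pResOf_eq_pPrimeCoreOf]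
  exact relIndex_pResOf H

section
variable {p : ℕ} [Fact p.Prime] {M : Ideal AlgInt} [hp : PMod p M]

theorem principal_apply_of_npc {u g : G} (hu : IsPPart p g u) (h : NPC p (centralizer {u}))
    {χ : IrrCharacter G} (hχ : χ ∈ principalBlock M G) : (χ : G → ℂ) g = (χ : G → ℂ) u := by
  have hu' := hu
  obtain ⟨w, rfl, h1, h2, h3⟩ := hu
  exact principal_apply_mul h2 (v := ⟨w, mem_centralizer_singleton_iff.mpr h1.symm⟩)
    (mem_of_index_pow (index_pPrimeCore_of_npc h) (by rwa [← Subgroup.orderOf_coe]))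
    (c := ⟨u, mem_centralizer_singleton_iff.mpr rfl⟩) (ppart_self Fact.out h2) hu' hχ

theorem principal_sum_sq {u : G} (hu : ∃ k, orderOf u = p ^ k) (hu1 : u ≠ 1)
    (h : NPC p (centralizer {u})) [DecidablePred (· ∈ principalBlock M G)] :
    ∑ χ ∈ Finset.univ.filter (· ∈ principalBlock M G), ‖(χ : G → ℂ) u‖ ^ 2 =
      (p ^ (Nat.card (centralizer ({u} : Set G))).factorization p : ℕ) := by
  have := (S0947.result p M hp.out u hu hu1 1 (not_dvd_orderOf_one Fact.out)).2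
    (index_pPrimeCore_of_npc h)
  rwa [finsum_mem_irr, OneMemClass.coe_one, mul_one] at this

theorem eq_irrOne_of_vanish {χ : IrrCharacter G} (hχ : χ ∈ principalBlock M G)
    (h : ∀ g, p ∣ orderOf g → (χ : G → ℂ) g = 0) : χ = irrOne G := by
  have h1 : irrOne G ∈ blockOf M (χ : G → ℂ) := sameBlock_symm hχ
  rw [blockOf_eq_singleton (nu_eq_of_vanish (M := M) h)] at h1
  exact h1.symm

end

/-- A set of nonzero integers whose squares add up to four, one of which is `1`. -/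
theorem exists_four {ι : Type*} [DecidableEq ι] {s : Finset ι} {n : ι → ℤ} {a : ι} (ha : a ∈ s)
    (h1 : n a = 1) (h0 : ∀ i ∈ s, n i ≠ 0) (h4 : ∑ i ∈ s, n i ^ 2 = 4) :
    (∀ i ∈ s, n i = 1 ∨ n i = -1) ∧ ∃ b c d, s = {a, b, c, d} ∧ a ≠ b ∧ a ≠ c ∧ a ≠ d ∧ b ≠ c ∧
      b ≠ d ∧ c ≠ d := by
  have h2 : ∀ i ∈ s, n i = 1 ∨ n i = -1 := fun i hi => by
    by_cases h : i = a
    · exact Or.inl (h ▸ h1)
    have := Finset.single_le_sum (f := fun i => n i ^ 2) (fun _ _ => sq_nonneg _)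
      (Finset.mem_erase.mpr ⟨h, hi⟩)
    rw [← Finset.add_sum_erase _ _ ha, h1] at h4
    have h3 := h0 i hi
    have : n i ≤ 1 := by nlinarith
    have : -1 ≤ n i := by nlinarith
    omega
  refine ⟨h2, ?_⟩
  rw [Finset.sum_congr rfl (g := fun _ => 1) fun i hi => by rcases h2 i hi with h | h <;> simp [h],
    Finset.sum_const, ← Finset.card_erase_add_one ha] at h4
  obtain ⟨b, c, d, h5, h6, h7, h8⟩ := Finset.card_eq_three.mp
    (show (s.erase a).card = 3 by simp only [nsmul_eq_mul, mul_one] at h4; omega)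
  have h9 : ∀ x ∈ s.erase a, a ≠ x := fun x hx => (Finset.mem_erase.mp hx).1.symm
  rw [h8] at h9
  exact ⟨b, c, d, by rw [← h8, Finset.insert_erase ha], h9 _ (by simp), h9 _ (by simp),
    h9 _ (by simp), h5, h6, h7⟩

variable {M : Ideal AlgInt} [hp : PMod 2 M]

/-- Data of the principal block for a Klein four Sylow subgroup. -/
structure KleinBlk (M : Ideal AlgInt) (ζ₂ ζ₃ ζ₄ : IrrCharacter G) (ε : ℤ) : Prop where
  eps : ε = 1 ∨ ε = -1
  n12 : irrOne G ≠ ζ₂
  n13 : irrOne G ≠ ζ₃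
  n14 : irrOne G ≠ ζ₄
  n23 : ζ₂ ≠ ζ₃
  n24 : ζ₂ ≠ ζ₄
  n34 : ζ₃ ≠ ζ₄
  mem : ∀ χ, χ ∈ principalBlock M G ↔ χ = irrOne G ∨ χ = ζ₂ ∨ χ = ζ₃ ∨ χ = ζ₄
  val : ∀ g : G, 2 ∣ orderOf g →
    (ζ₂ : G → ℂ) g = 1 ∧ (ζ₃ : G → ℂ) g = (ε : ℂ) ∧ (ζ₄ : G → ℂ) g = -1
  rel : ∀ y : G, ¬ 2 ∣ orderOf y →
    1 + (ζ₂ : G → ℂ) y + (ε : ℂ) * (ζ₃ : G → ℂ) y - (ζ₄ : G → ℂ) y = 0

theorem exists_kleinBlk (P : Sylow 2 G) (hP : IsKleinFour (P : Subgroup G))
    (hone : ∀ s t : G, orderOf s = 2 → orderOf t = 2 → IsConj s t) :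
    ∃ ζ₂ ζ₃ ζ₄ : IrrCharacter G, ∃ ε, KleinBlk M ζ₂ ζ₃ ζ₄ ε := by
  classical
  obtain ⟨z, hz, hz1, -⟩ := Inv.kf_exists_ne hP 1
  have hz2 := Inv.kf_ord hP hz hz1
  have hc : IsMulCommutative P := isMulCommutative_of_forall fun x hx y hy => Inv.kf_comm hP hx hy
  have hV : Core.powKer (P : Subgroup G) hc 2 = P := le_antisymm (Core.powKer_le _ _ _) fun x hx =>
    Core.mem_powKer.mpr ⟨hx, by rw [sq]; exact Inv.kf_sq hP hx⟩
  have hn := npc_cent_of_comm hc (by rwa [hV]) hz hz1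
  have h1 : ∀ χ ∈ principalBlock M G, ∀ g, 2 ∣ orderOf g → (χ : G → ℂ) g = (χ : G → ℂ) z := by
    intro χ hχ g hg
    obtain ⟨u, hu⟩ := exists_ppart (p := 2) Fact.out g
    obtain ⟨k, hk⟩ := ppart_order hu
    obtain ⟨v, hv, h2, -⟩ := Inv.exists_isConj_mem_sylow P hk
    have h3 : v ≠ 1 := fun h => ppart_ne_one Fact.out hu hg (by simpa [h, eq_comm] using h2)
    obtain ⟨c, hc⟩ := isConj_iff.mp (h2.symm.trans (hone v z (Inv.kf_ord hP hv h3) hz2))
    rw [← χ.2.isClassFunction g c]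
    exact principal_apply_of_npc (hc ▸ ppart_conj hu c) hn hχ
  choose n hn' using fun χ : IrrCharacter G => S0944.result χ z hz2
  have h2 := principal_sum_sq (M := M) ⟨1, by simpa using hz2⟩ hz1 hn
  rw [← (isSylowOf_sylow P (le_cent_iff.mpr (le_centralizer (P : Subgroup G) hz))).card_eq,
    Inv.kf_card hP] at h2
  simp only [fun χ => (hn' χ).1, Complex.norm_intCast, sq_abs] at h2
  have h3 : n (irrOne G) = 1 := Int.cast_eq_one.mp (hn' (irrOne G)).1.symm
  obtain ⟨h4, b, c, d, h5, n1, n2, n3, n4, n5, n6⟩ := exists_four (n := n)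
    (Finset.mem_filter.mpr ⟨Finset.mem_univ _, irrOne_mem_principal (M := M)⟩) h3
    (fun χ hχ h => by
      have := eq_irrOne_of_vanish (Finset.mem_filter.mp hχ).2 fun g hg => by
        rw [h1 χ (Finset.mem_filter.mp hχ).2 g hg, (hn' χ).1, h, Int.cast_zero]
      rw [this, h3] at h
      exact one_ne_zero h) (by exact_mod_cast h2)
  have h6 : ∀ χ, χ ∈ principalBlock M G ↔ χ = irrOne G ∨ χ = b ∨ χ = c ∨ χ = d := fun χ => by
    simpa using Finset.ext_iff.mp h5 χ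
  have h7 : ∀ y : G, ¬ 2 ∣ orderOf y →
      1 + n b * (b : G → ℂ) y + n c * (c : G → ℂ) y + n d * (d : G → ℂ) y = 0 := fun y hy => by
    have := block_orth_reg (fS_mem_ZR (isPBlock_principal (M := M))).1 hy hz2.symm.dvd
    rw [finsum_mem_irr, h5, Finset.sum_insert (by simp [n1, n2, n3]),
      Finset.sum_insert (by simp [n4, n5]), Finset.sum_pair n6] at this
    simp only [fun χ => (hn' χ).1, map_intCast, h3, irrOne_coe] at this
    linear_combination this
  have h8 := h7 1 (by simp)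
  simp only [irr_one_eq] at h8
  have h9 : 1 + n b * charDegree (b : G → ℂ) + n c * charDegree (c : G → ℂ) +
    n d * charDegree (d : G → ℂ) = 0 := by exact_mod_cast h8
  have key : ∀ b c d : IrrCharacter G, irrOne G ≠ b → irrOne G ≠ c → irrOne G ≠ d → b ≠ c → b ≠ d →
      c ≠ d → (∀ χ, χ ∈ principalBlock M G ↔ χ = irrOne G ∨ χ = b ∨ χ = c ∨ χ = d) →
      (∀ y : G, ¬ 2 ∣ orderOf y →
        1 + n b * (b : G → ℂ) y + n c * (c : G → ℂ) y + n d * (d : G → ℂ) y = 0) → n b = 1 →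
      n d = -1 → ∃ ζ₂ ζ₃ ζ₄ : IrrCharacter G, ∃ ε, KleinBlk M ζ₂ ζ₃ ζ₄ ε := by
    intro b c d n1 n2 n3 n4 n5 n6 h6 h7 e1 e2
    refine ⟨b, c, d, n c, h4 c (by simp [h6]), n1, n2, n3, n4, n5, n6, h6, fun g hg => ?_,
      fun y hy => ?_⟩
    · rw [h1 b (by simp [h6]) g hg, h1 c (by simp [h6]) g hg, h1 d (by simp [h6]) g hg]
      simp [fun χ => (hn' χ).1, e1, e2]
    · have := h7 y hy
      rw [e1, e2] at this
      push_cast at this
      linear_combination this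
  have a1 := Nat.pos_of_ne_zero (charDegree_ne_zero b)
  have a2 := Nat.pos_of_ne_zero (charDegree_ne_zero c)
  have a3 := Nat.pos_of_ne_zero (charDegree_ne_zero d)
  rcases h4 b (by simp [h6]) with e1 | e1 <;> rcases h4 c (by simp [h6]) with e2 | e2 <;>
    rcases h4 d (by simp [h6]) with e3 | e3
  · rw [e1, e2, e3] at h9; omega
  · exact key b c d n1 n2 n3 n4 n5 n6 h6 h7 e1 e3
  · exact key b d c n1 n3 n2 n5 n4 n6.symm (fun χ => by rw [h6]; tauto)
      (fun y hy => by linear_combination h7 y hy) e1 e2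
  · exact key b c d n1 n2 n3 n4 n5 n6 h6 h7 e1 e3
  · exact key c d b n2 n3 n1 n6 n4.symm n5.symm (fun χ => by rw [h6]; tauto)
      (fun y hy => by linear_combination h7 y hy) e2 e1
  · exact key c d b n2 n3 n1 n6 n4.symm n5.symm (fun χ => by rw [h6]; tauto)
      (fun y hy => by linear_combination h7 y hy) e2 e1
  · exact key d c b n3 n2 n1 n6.symm n5.symm n4.symm (fun χ => by rw [h6]; tauto)
      (fun y hy => by linear_combination h7 y hy) e3 e1
  · rw [e1, e2, e3] at h9; omega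

theorem four_dvd_of_klein {P : Subgroup G} (hP : IsKleinFour P) (χ : IrrCharacter G) {n : ℤ}
    (h : ∀ z ∈ P, z ≠ 1 → (χ : G → ℂ) z = n) : (4 : ℤ) ∣ charDegree (χ : G → ℂ) - n := by
  classical
  have := Fintype.ofFinite P
  obtain ⟨k, hk⟩ := (χ.2.isCharacter.restrict P).classInner_nat isCharacter_one
  rw [classInner_one_right, Inv.kf_card hP, ← Finset.add_sum_erase _ _ (Finset.mem_univ 1),
    Finset.sum_congr rfl fun (z : P) hz => h z z.2 (by simpa using (Finset.mem_erase.mp hz).1),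
    Finset.sum_const, Finset.card_erase_of_mem (Finset.mem_univ _), Finset.card_univ,
    ← Nat.card_eq_fintype_card, Inv.kf_card hP, OneMemClass.coe_one, irr_one_eq] at hk
  refine ⟨k - n, ?_⟩
  apply Int.cast_injective (α := ℂ)
  push_cast at hk ⊢
  simp only [nsmul_eq_mul] at hk
  push_cast at hk
  linear_combination 4 * hk

theorem q8_conj {S : Sylow 2 G} {z : G} (h : Inv.Q8 (S : Subgroup G) z) (hn : ¬ NPC 2 (⊤ : Subgroup G))
    {a b : G} (ha : a ∈ (S : Subgroup G)) (hb : b ∈ (S : Subgroup G)) (ha' : a * a = z)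
    (hb' : b * b = z) : ∃ n ∈ normalizer ((S : Subgroup G) : Set G), n * a * n⁻¹ = b := by
  obtain ⟨Q, hQ, -, g, hg, h1, h2⟩ : ∃ Q : Subgroup G, Q ≤ S ∧ Q ≠ ⊥ ∧ ∃ g ∈ normalizer (Q : Set G),
      (orderOf g).Coprime 2 ∧ g ∉ centralizer (Q : Set G) := by
    by_contra hc
    push Not at hc
    exact hn (npc_top_of_frobenius S hc)
  have hodd := Nat.coprime_two_right.mp h1
  obtain rfl : Q = S := by
    by_contra hc
    refine h2 (Inv.mem_centralizer_of_isCyclic (S.isPGroup'.to_le hQ) ?_ hg hodd)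
    rw [Inv.isCyclic_iff_zpowers]
    by_cases h3 : ∃ i ∈ Q, i * i = z
    · obtain ⟨i, hi, h3⟩ := h3
      refine ⟨i, le_antisymm (fun j hj => ?_) ((zpowers_le).mpr hi)⟩
      rcases h.cases j (hQ hj) with rfl | rfl | h4
      · exact one_mem _
      · exact h3 ▸ mul_mem (mem_zpowers i) (mem_zpowers i)
      by_contra h5
      refine hc (le_antisymm hQ fun x hx => ?_)
      rcases h.all i (hQ hi) j (hQ hj) h3 h4 (fun e => h5 (e ▸ mem_zpowers i))
        (fun e => h5 (e ▸ inv_mem (mem_zpowers i))) x hx with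
        rfl | rfl | rfl | rfl | rfl | rfl | rfl | rfl
      exacts [one_mem _, h3 ▸ mul_mem hi hi, hi, inv_mem hi, hj, inv_mem hj, mul_mem hi hj,
        inv_mem (mul_mem hi hj)]
    · by_cases h4 : z ∈ Q
      · refine ⟨z, le_antisymm (fun j hj => ?_) ((zpowers_le).mpr h4)⟩
        rcases h.cases j (hQ hj) with rfl | rfl | h5
        exacts [one_mem _, mem_zpowers _, absurd ⟨j, hj, h5⟩ h3]
      · refine ⟨1, le_antisymm (fun j hj => ?_) (by simp)⟩
        rcases h.cases j (hQ hj) with rfl | rfl | h5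
        exacts [one_mem _, absurd hj h4, absurd ⟨j, hj, h5⟩ h3]
  have h3 : ∀ i ∈ (S : Subgroup G), i * i = z → ¬ Commute (g * g * (g * g)) i := fun i hi hi' hc => by
    have h4 : Commute g i := Inv.commute_of_sq_commute_of_odd hodd
      (Inv.commute_of_sq_commute_of_odd (by
        rw [← sq, h1.orderOf_pow]; exact hodd) hc)
    refine h2 (Inv.mem_centralizer_of_relIndex_two (C := zpowers i)
      (S.isPGroup'.to_le ((zpowers_le).mpr hi)) (Inv.relIndex_eq_two_of_card ((zpowers_le).mpr hi)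
        (by rw [h.card, Nat.card_zpowers, h.ord4 hi'])) hg hodd ?_)
    rw [centralizer_zpowers]; exact mem_centralizer_singleton_iff.mpr h4
  have h4 : ∀ i ∈ (S : Subgroup G), i * i = z → g * g * i * (g * g)⁻¹ ≠ i ∧
      g * g * i * (g * g)⁻¹ ≠ i⁻¹ := fun i hi hi' => ⟨fun e => h3 i hi hi'
    (Commute.mul_left (mul_inv_eq_iff_eq_mul.mp e) (mul_inv_eq_iff_eq_mul.mp e)),
      fun e => h3 i hi hi' (Inv.commute_sq_of_inverts e)⟩
  have h5 : ∀ i ∈ (S : Subgroup G), i * i = z → g * i * g⁻¹ ≠ i ∧ g * i * g⁻¹ ≠ i⁻¹ :=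
    fun i hi hi' => ⟨fun e => (h4 i hi hi').1 (by
      rw [show g * g * i * (g * g)⁻¹ = g * (g * i * g⁻¹) * g⁻¹ by group, e, e]),
      fun e => (h4 i hi hi').1 (mul_inv_eq_iff_eq_mul.mpr (Inv.commute_sq_of_inverts e))⟩
  have hinv : ∀ n ∈ normalizer ((S : Subgroup G) : Set G),
      ∃ m ∈ normalizer ((S : Subgroup G) : Set G), m * a * m⁻¹ = (n * a * n⁻¹)⁻¹ := fun n hn => by
    obtain ⟨j, hj, e1, e2, e3⟩ := h.ex a ha
    refine ⟨n * j, mul_mem hn (le_normalizer hj), ?_⟩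
    rw [show n * j * a * (n * j)⁻¹ = n * (j * a * j⁻¹) * n⁻¹ by group, h.inv a ha j hj ha' e1 e2 e3,
      conj_inv]
  have hj := conj_mem_of_mem_normalizer hg ha
  have hj' := h.conj_sq hg ha'
  have hgg := mul_mem hg hg
  have e0 : g * (g * a * g⁻¹) * g⁻¹ = g * g * a * (g * g)⁻¹ := by group
  have hk : g * g * a * (g * g)⁻¹ = a * (g * a * g⁻¹) ∨
      g * g * a * (g * g)⁻¹ = (a * (g * a * g⁻¹))⁻¹ := by
    have e1 := h.conj_sq hgg ha'
    rcases h.all a ha _ hj ha' hj' (h5 a ha ha').1 (h5 a ha ha').2 _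
      (conj_mem_of_mem_normalizer hgg ha) with e | e | e | e | e | e | e | e
    · rw [e, one_mul] at e1; exact absurd e1.symm (Inv.ne_one_of_ord2 h.zord)
    · rw [e, Inv.sq_of_ord2 h.zord] at e1; exact absurd e1.symm (Inv.ne_one_of_ord2 h.zord)
    · exact absurd e (h4 a ha ha').1
    · exact absurd e (h4 a ha ha').2
    · exact absurd (e0.trans e) (h5 _ hj hj').1
    · exact absurd (e0.trans e) (h5 _ hj hj').2
    · exact Or.inl e
    · exact Or.inr e
  rcases h.all a ha _ hj ha' hj' (h5 a ha ha').1 (h5 a ha ha').2 b hb with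
    e | e | e | e | e | e | e | e
  · rw [e, one_mul] at hb'; exact absurd hb'.symm (Inv.ne_one_of_ord2 h.zord)
  · rw [e, Inv.sq_of_ord2 h.zord] at hb'; exact absurd hb'.symm (Inv.ne_one_of_ord2 h.zord)
  · exact ⟨1, one_mem _, by simp [e]⟩
  · simpa [e] using hinv 1 (one_mem _)
  · exact ⟨g, hg, e.symm⟩
  · exact e ▸ hinv g hg
  · rcases hk with e' | e'
    · exact ⟨_, hgg, e'.trans e.symm⟩
    · have := hinv _ hgg
      rwa [e', inv_inv, ← e] at this
  · rcases hk with e' | e'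
    · have := hinv _ hgg
      rwa [e', ← e] at this
    · exact ⟨_, hgg, e'.trans e.symm⟩

end Cfsg.Agent.Blk
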